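import Mathlib
import Cfsg.Agent.Lib.PermTrans.Basic

/-!
# Multiply transitive and homogeneous permutation groups: basic notions

* `Trans G k` : every injection of at most `k` points is realised in `G`
* `Homog G k` : `G` is transitive on `k`-subsets
* `ind G Δ` : the permutations supported in `Δ` induced by elements of `G`
* `fixer G S` : the pointwise stabiliser of `S` in `G`
-/

set_option autoImplicit false

namespace Cfsg.Agent.Lib.Homogeneous

open Equiv

variable {α : Type*} [Fintype α] [DecidableEq α] (G : Subgroup (Perm α))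

/-- Every injection defined on at most `k` points is the restriction of an element of `G`. -/
def Trans (k : ℕ) : Prop :=
  ∀ (S : Finset α) (f : α → α), S.card ≤ k → Set.InjOn f (S : Set α) → ∃ g ∈ G, ∀ x ∈ S, g x = f x

/-- Transitivity on `k`-subsets. -/
def Homog (k : ℕ) : Prop :=
  ∀ S T : Finset α, S.card = k → T.card = k → ∃ g ∈ G, S.image g = T

/-- The pointwise stabiliser. -/
def fixer (S : Finset α) : Subgroup (Perm α) := G ⊓ fixingSubgroup (Perm α) (S : Set α)

variable {G}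

theorem mem_fixer {S : Finset α} {g : Perm α} : g ∈ fixer G S ↔ g ∈ G ∧ ∀ x ∈ S, g x = x := by
  simp [fixer, mem_fixingSubgroup_iff, Perm.smul_def]

theorem fixer_anti {S T : Finset α} (h : S ⊆ T) : fixer G T ≤ fixer G S := fun g hg => by
  rw [mem_fixer] at hg ⊢
  exact ⟨hg.1, fun x hx => hg.2 x (h hx)⟩

omit [Fintype α] [DecidableEq α] in
theorem apply_mem_of_supp {Δ : Finset α} {σ : Perm α} (h : ∀ x, x ∉ Δ → σ x = x) {x : α}
    (hx : x ∈ Δ) : σ x ∈ Δ := by
  by_contra h'
  exact h' ((σ.injective (h _ h')).symm ▸ hx)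

omit [Fintype α] [DecidableEq α] in
theorem apply_mem_iff_of_supp {Δ : Finset α} {σ : Perm α} (h : ∀ x, x ∉ Δ → σ x = x) {x : α} :
    σ x ∈ Δ ↔ x ∈ Δ :=
  ⟨fun hx => by_contra fun h' => h' (h x h' ▸ hx), apply_mem_of_supp h⟩

variable (G) in
/-- The permutations supported in `Δ` that are induced by elements of `G`. -/
def ind (Δ : Finset α) : Subgroup (Perm α) where
  carrier := {σ | (∀ x, x ∉ Δ → σ x = x) ∧ ∃ g ∈ G, ∀ x ∈ Δ, g x = σ x}
  one_mem' := ⟨fun x _ => rfl, 1, G.one_mem, fun x _ => rfl⟩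
  mul_mem' := by
    rintro σ τ ⟨hσ, g, hg, hg'⟩ ⟨hτ, h, hh, hh'⟩
    refine ⟨fun x hx => by rw [Perm.mul_apply, hτ x hx, hσ x hx], g * h, G.mul_mem hg hh, fun x hx => ?_⟩
    rw [Perm.mul_apply, hh' x hx, hg' _ (apply_mem_of_supp hτ hx), Perm.mul_apply]
  inv_mem' := by
    rintro σ ⟨hσ, g, hg, hg'⟩
    refine ⟨fun x hx => by rw [Perm.inv_eq_iff_eq, hσ x hx], g⁻¹, G.inv_mem hg, fun x hx => ?_⟩
    have hy : σ⁻¹ x ∈ Δ := by
      rw [← apply_mem_iff_of_supp hσ]
      rwa [Perm.coe_inv, Equiv.apply_symm_apply]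
    rw [Perm.inv_eq_iff_eq, hg' _ hy]
    exact (σ.apply_symm_apply x).symm

theorem mem_ind {Δ : Finset α} {σ : Perm α} :
    σ ∈ ind G Δ ↔ (∀ x, x ∉ Δ → σ x = x) ∧ ∃ g ∈ G, ∀ x ∈ Δ, g x = σ x := Iff.rfl

variable (G) in
/-- All even permutations of `Δ` are induced. -/
def FullAlt (Δ : Finset α) : Prop :=
  ∀ σ : Perm α, (∀ x, x ∉ Δ → σ x = x) → Perm.sign σ = 1 → σ ∈ ind G Δ

variable (G) in
/-- No transposition of `Δ` is induced. -/
def NoSwap (Δ : Finset α) : Prop := ∀ a ∈ Δ, ∀ b ∈ Δ, a ≠ b → swap a b ∉ ind G Δ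

theorem Trans.mono {k l : ℕ} (h : Trans G k) (hl : l ≤ k) : Trans G l :=
  fun S f hS hf => h S f (hS.trans hl) hf

theorem trans_of_mult {k : ℕ} (hk : k ≤ Fintype.card α)
    (h : MulAction.IsMultiplyPretransitive G α k) : Trans G k := by
  intro S f hS hf
  have : MulAction.IsMultiplyPretransitive G α S.card :=
    MulAction.isMultiplyPretransitive_of_le hS (by simpa using hk)
  let x : Fin S.card ↪ α := ⟨fun i => (S.equivFin.symm i : α),
    fun i j e => S.equivFin.symm.injective (Subtype.ext e)⟩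
  let y : Fin S.card ↪ α := ⟨fun i => f (S.equivFin.symm i : α),
    fun i j e => S.equivFin.symm.injective (Subtype.ext (hf (S.equivFin.symm i).2 (S.equivFin.symm j).2 e))⟩
  obtain ⟨g, hg⟩ := MulAction.exists_smul_eq G x y
  refine ⟨g, g.2, fun z hz => ?_⟩
  have := DFunLike.congr_fun hg (S.equivFin ⟨z, hz⟩)
  change (g : Perm α) (S.equivFin.symm (S.equivFin ⟨z, hz⟩) : α) =
    f (S.equivFin.symm (S.equivFin ⟨z, hz⟩) : α) at this
  rwa [Equiv.symm_apply_apply] at this

theorem mult_of_trans {k : ℕ} (h : Trans G k) : MulAction.IsMultiplyPretransitive G α k := by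
  refine ⟨fun x y => ?_⟩
  obtain ⟨g, hg, hg'⟩ := h (Finset.univ.image x) (Function.extend x y id)
    (Finset.card_image_le.trans (by simp)) (by
      intro u hu v hv e
      simp only [Finset.coe_image, Finset.coe_univ, Set.image_univ, Set.mem_range] at hu hv
      obtain ⟨i, rfl⟩ := hu
      obtain ⟨j, rfl⟩ := hv
      rw [x.injective.extend_apply, x.injective.extend_apply] at e
      rw [y.injective e])
  refine ⟨⟨g, hg⟩, Function.Embedding.ext fun i => ?_⟩
  change g (x i) = y i
  rw [hg' _ (Finset.mem_image_of_mem _ (Finset.mem_univ i)), x.injective.extend_apply]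

theorem trans_of_fixer_transitive {k : ℕ} (hk : k < Fintype.card α)
    (h : ∀ S : Finset α, S.card + 1 = k → ∀ x y : α, x ∉ S → y ∉ S →
      ∃ g ∈ fixer G S, g x = y) : Trans G k := by
  refine trans_of_mult hk.le (Cfsg.Agent.Lib.PermTrans.of_fixing_transitive_top k hk
    fun S hS x y hx hy => ?_)
  obtain ⟨g, hg, hgx⟩ := h S hS x y hx hy
  rw [mem_fixer] at hg
  exact ⟨⟨g, hg.1⟩, (mem_fixingSubgroup_iff _).2 fun z hz => hg.2 z hz, hgx⟩

theorem homog_of_pretransitive {k : ℕ} (h : MulAction.IsPretransitive G (Set.powersetCard α k)) :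
    Homog G k := by
  intro S T hS hT
  obtain ⟨g, hg⟩ := h.exists_smul_eq (Set.powersetCard.ofCard hS) (Set.powersetCard.ofCard hT)
  refine ⟨g, g.2, ?_⟩
  have := congrArg Subtype.val hg
  change S.image (g • ·) = T at this
  exact this

theorem Trans.homog {k : ℕ} (h : Trans G k) : Homog G k := by
  intro S T hS hT
  let e : S ≃ T := Finset.equivOfCardEq (hS.trans hT.symm)
  obtain ⟨g, hg, hg'⟩ := h S (fun x => if hx : x ∈ S then (e ⟨x, hx⟩ : α) else x) hS.le (by
    intro u hu v hv he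
    simp only [Finset.mem_coe] at hu hv
    simp only [dif_pos hu, dif_pos hv] at he
    exact congrArg Subtype.val (e.injective (Subtype.ext he)))
  refine ⟨g, hg, Finset.eq_of_subset_of_card_le (fun y hy => ?_) (by
    rw [Finset.card_image_of_injective _ g.injective, hS, hT])⟩
  obtain ⟨x, hx, rfl⟩ := Finset.mem_image.1 hy
  rw [hg' x hx, dif_pos hx]
  exact (e ⟨x, hx⟩).2

/-- Injective partial maps extend to permutations. -/
theorem exists_perm_eq_on {S : Finset α} {f : α → α} (hf : Set.InjOn f (S : Set α)) :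
    ∃ τ : Perm α, ∀ x ∈ S, τ x = f x := by
  let e : {x // x ∈ S} ≃ {y // y ∈ S.image f} :=
    Equiv.ofBijective (fun x => ⟨f x, Finset.mem_image_of_mem f x.2⟩)
      ⟨fun a b h => Subtype.ext (hf a.2 b.2 (congrArg Subtype.val h)), fun y => by
        obtain ⟨x, hx, e⟩ := Finset.mem_image.1 y.2
        exact ⟨⟨x, hx⟩, Subtype.ext e⟩⟩
  refine ⟨e.extendSubtype, fun x hx => ?_⟩
  rw [Equiv.extendSubtype_apply_of_mem e x hx]
  rfl

theorem conj_mem_ind {Δ : Finset α} {σ g : Perm α} (hg : g ∈ G) (hσ : σ ∈ ind G Δ) :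
    g * σ * g⁻¹ ∈ ind G (Δ.image g) := by
  obtain ⟨h1, f, hf, hf'⟩ := hσ
  have key : ∀ x, x ∈ Δ.image g ↔ g⁻¹ x ∈ Δ := fun x => by
    rw [Finset.mem_image]
    constructor
    · rintro ⟨y, hy, rfl⟩; simpa using hy
    · exact fun h => ⟨g⁻¹ x, h, by simp⟩
  refine ⟨fun x hx => ?_, g * f * g⁻¹, G.mul_mem (G.mul_mem hg hf) (G.inv_mem hg), fun x hx => ?_⟩
  · rw [Perm.mul_apply, Perm.mul_apply, h1 _ (fun h => hx ((key x).2 h))]
    simp
  · rw [Perm.mul_apply, Perm.mul_apply, hf' _ ((key x).1 hx), Perm.mul_apply, Perm.mul_apply]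

theorem swap_mem_ind_image {Δ : Finset α} {a b : α} {g : Perm α} (hg : g ∈ G)
    (h : swap a b ∈ ind G Δ) : swap (g a) (g b) ∈ ind G (Δ.image g) := by
  have := conj_mem_ind hg h
  rwa [← Equiv.swap_apply_apply] at this

theorem ofSubtype_mem_supp {Δ : Finset α} (σ : Perm Δ) (x : α) (hx : x ∉ Δ) :
    Perm.ofSubtype σ x = x := Perm.ofSubtype_apply_of_not_mem σ hx

/-- Homogeneous with full induced symmetric groups gives transitivity. -/
theorem trans_of_ind {k : ℕ} (hk : k ≤ Fintype.card α) (hh : Homog G k)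
    (hfull : ∀ Δ : Finset α, Δ.card = k → ∀ σ : Perm α, (∀ x, x ∉ Δ → σ x = x) → σ ∈ ind G Δ) :
    Trans G k := by
  intro S f hS hf
  obtain ⟨τ, hτ⟩ := exists_perm_eq_on hf
  obtain ⟨S', hSS', -, hS'⟩ := Finset.exists_subsuperset_card_eq (Finset.subset_univ S) hS
    (by simpa using hk)
  obtain ⟨g, hg, hgS⟩ := hh S' (S'.image τ) hS' (by
    rw [Finset.card_image_of_injective _ τ.injective, hS'])
  have hpres : ∀ x, (g⁻¹ * τ) x ∈ S' ↔ x ∈ S' := fun x => by
    constructor
    · intro h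
      have h2 : g ((g⁻¹ * τ) x) ∈ S'.image τ := hgS ▸ Finset.mem_image_of_mem _ h
      rw [Perm.mul_apply, Perm.coe_inv, Equiv.apply_symm_apply] at h2
      obtain ⟨y, hy, e⟩ := Finset.mem_image.1 h2
      rwa [← τ.injective e]
    · intro h
      have h2 : τ x ∈ S'.image g := hgS.symm ▸ Finset.mem_image_of_mem _ h
      obtain ⟨y, hy, e⟩ := Finset.mem_image.1 h2
      rw [Perm.mul_apply, ← e, Perm.coe_inv, Equiv.symm_apply_apply]
      exact hy
  obtain ⟨-, f', hf', hf''⟩ := hfull S' hS' (Perm.ofSubtype ((g⁻¹ * τ).subtypePerm hpres))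
    (fun x hx => ofSubtype_mem_supp _ x hx)
  refine ⟨g * f', G.mul_mem hg hf', fun x hx => ?_⟩
  rw [Perm.mul_apply, hf'' x (hSS' hx), Perm.ofSubtype_apply_of_mem _ (hSS' hx)]
  simp [hτ x hx]

/-- An element all of whose transpositions are induced gives all permutations. -/
theorem ind_full_of_swaps {Δ : Finset α} (h : ∀ a ∈ Δ, ∀ b ∈ Δ, a ≠ b → swap a b ∈ ind G Δ)
    (σ : Perm α) (hσ : ∀ x, x ∉ Δ → σ x = x) : σ ∈ ind G Δ := by
  suffices key : ∀ τ : Perm Δ, Perm.ofSubtype τ ∈ ind G Δ by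
    have e := Perm.ofSubtype_subtypePerm (f := σ) (p := (· ∈ Δ))
      (fun x => apply_mem_iff_of_supp hσ) (fun x hx => by by_contra h'; exact hx (hσ x h'))
    exact e ▸ key _
  intro τ
  induction τ using Perm.swap_induction_on with
  | one => rw [map_one]; exact one_mem _
  | swap_mul τ x y hxy ih =>
    rw [map_mul, Perm.ofSubtype_swap_eq]
    exact mul_mem (h x x.2 y y.2 fun e => hxy (Subtype.ext e)) ih

/-- A transposition together with all even permutations gives all permutations. -/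
theorem ind_full_of_alt {Δ : Finset α} (h : FullAlt G Δ) {a b : α} (ha : a ∈ Δ) (hb : b ∈ Δ)
    (hab : a ≠ b) (hs : swap a b ∈ ind G Δ) (σ : Perm α) (hσ : ∀ x, x ∉ Δ → σ x = x) :
    σ ∈ ind G Δ := by
  rcases Int.units_eq_one_or (Perm.sign σ) with e | e
  · exact h σ hσ e
  · have h2 := h (swap a b * σ) (fun x hx => by
      rw [Perm.mul_apply, hσ x hx, swap_apply_of_ne_of_ne (by rintro rfl; exact hx ha) (by rintro rfl; exact hx hb)])
      (by rw [Perm.sign_mul, Perm.sign_swap hab, e]; rfl)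
    simpa using mul_mem hs h2

theorem FullAlt.image {Δ : Finset α} (h : FullAlt G Δ) {g : Perm α} (hg : g ∈ G) :
    FullAlt G (Δ.image g) := by
  intro σ hσ hs
  have := conj_mem_ind hg (h (g⁻¹ * σ * g) (fun x hx => by
    simp only [Perm.mul_apply]
    rw [hσ (g x) fun h' => hx (g.injective.mem_finset_image.1 h')]
    simp) (by simp [hs, mul_comm]))
  simpa [mul_assoc] using this

theorem NoSwap.of_image {Δ : Finset α} {g : Perm α} (hg : g ∈ G) (h : NoSwap G (Δ.image g)) :
    NoSwap G Δ := fun a ha b hb hab hs =>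
  h (g a) (Finset.mem_image_of_mem _ ha) (g b) (Finset.mem_image_of_mem _ hb) (g.injective.ne hab)
    (swap_mem_ind_image hg hs)

omit G in
/-- An involution moves an even number of points. -/
theorem even_card_moved {g : Perm α} (hg : g * g = 1) : Even g.support.card := by
  have : Fact (Nat.Prime 2) := ⟨Nat.prime_two⟩
  have h := Equiv.Perm.cycleType_of_pow_prime_eq_one (p := 2) (σ := g) (by rw [pow_two, hg])
  rw [← g.sum_cycleType, h, Multiset.sum_replicate, smul_eq_mul]
  exact ⟨g.cycleType.card, by omega⟩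

/-- The fixed points. -/
def fix (g : Perm α) : Finset α := Finset.univ.filter fun x => g x = x

theorem mem_fix {g : Perm α} {x : α} : x ∈ fix g ↔ g x = x := by simp [fix]

theorem fix_add_support (g : Perm α) : (fix g).card + g.support.card = Fintype.card α := by
  rw [← Finset.card_univ, ← Finset.card_filter_add_card_filter_not (s := Finset.univ) (p := fun x => g x = x)]
  congr 1

theorem card_fix_parity {g : Perm α} (hg : g * g = 1) :
    (fix g).card % 2 = Fintype.card α % 2 := by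
  obtain ⟨l, hl⟩ := even_card_moved hg
  have := fix_add_support g
  omega

theorem inv_apply_self {g : Perm α} (hg : g * g = 1) (x : α) : g (g x) = x := by
  rw [← Perm.mul_apply, hg, Perm.one_apply]

/-- Commuting permutations permute each other's fixed points. -/
theorem apply_mem_fix {g h : Perm α} (hc : g * h = h * g) {x : α} (hx : x ∈ fix h) :
    g x ∈ fix h := by
  rw [mem_fix] at hx ⊢
  rw [← Perm.mul_apply, ← hc, Perm.mul_apply, hx]

theorem card_fixer_dvd_of_eq_image {S : Finset α} {g : Perm α} (hg : g ∈ G) :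
    Nat.card (fixer G (S.image g)) = Nat.card (fixer G S) := by
  refine (Nat.card_congr ((MulAut.conj g).toEquiv.subtypeEquiv fun x => ?_)).symm
  simp only [mem_fixer, MulEquiv.toEquiv_eq_coe, EquivLike.coe_coe, MulAut.conj_apply,
    Finset.forall_mem_image, Perm.mul_apply]
  constructor
  · rintro ⟨h1, h2⟩
    exact ⟨G.mul_mem (G.mul_mem hg h1) (G.inv_mem hg), fun y hy => by simp [h2 y hy]⟩
  · rintro ⟨h1, h2⟩
    refine ⟨?_, fun y hy => ?_⟩
    · simpa [mul_assoc] using G.mul_mem (G.mul_mem (G.inv_mem hg) h1) hg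
    · have := h2 hy
      simpa using this

end Cfsg.Agent.Lib.Homogeneous
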