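import Cfsg.Agent.Lib.Homogeneous.Orientation

/-!
# `k`-transitive groups (`k ≥ 4`) with semiregular stabilisers of odd order of `k` points

Hall's theorem: the degree exceeds `k` by 1, 2, 3 or 7 (counting involutions).
-/

set_option autoImplicit false

namespace Cfsg.Agent.Lib.Homogeneous

open Equiv

variable {α : Type*} [Fintype α] [DecidableEq α] {G : Subgroup (Perm α)}

theorem card_lifts_conj {S : Finset α} {π g : Perm α} (hg : g ∈ G) :
    Nat.card (lifts G (S.image g) (g * π * g⁻¹)) = Nat.card (lifts G S π) := by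
  refine (Nat.card_congr ((MulAut.conj g).toEquiv.subtypeEquiv fun x => ?_)).symm
  simp only [lifts, Set.mem_ofPred_eq, MulEquiv.toEquiv_eq_coe, EquivLike.coe_coe, MulAut.conj_apply,
    Finset.forall_mem_image, Perm.mul_apply, Perm.inv_eq_iff_eq]
  constructor
  · rintro ⟨h1, h2, h3⟩
    refine ⟨G.mul_mem (G.mul_mem hg h1) (G.inv_mem hg), ?_, fun y hy => by simp [h3 y hy]⟩
    rw [show g * x * g⁻¹ * (g * x * g⁻¹) = g * (x * x) * g⁻¹ by group, h2, mul_one, mul_inv_cancel]
  · rintro ⟨h1, h2, h3⟩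
    refine ⟨?_, ?_, fun y hy => ?_⟩
    · simpa [mul_assoc] using G.mul_mem (G.mul_mem (G.inv_mem hg) h1) hg
    · rw [show x * x = g⁻¹ * (g * x * g⁻¹ * (g * x * g⁻¹)) * g by group, h2, mul_one, inv_mul_cancel]
    · have := h3 hy
      simpa using this

theorem fix_conj (g w : Perm α) : fix (w * g * w⁻¹) = (fix g).image w := by
  ext x
  rw [mem_fix_conj, Finset.mem_image]
  exact ⟨fun h => ⟨w⁻¹ x, h, by simp⟩, by rintro ⟨y, hy, rfl⟩; simpa using hy⟩

/-- The pointwise stabiliser of a set acts semiregularly outside. -/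
theorem card_fixer_dvd {S : Finset α}
    (hsemi : ∀ g ∈ fixer G S, ∀ x, x ∉ S → g x = x → g = 1) :
    Nat.card (fixer G S) ∣ Fintype.card α - S.card := by
  let _ : MulAction (fixer G S) {x : α // x ∉ S} :=
    { smul := fun g x => ⟨(g : Perm α) x, fun h => x.2 (by
        have := (g : Perm α).injective ((mem_fixer.1 g.2).2 _ h)
        rwa [this] at h)⟩
      one_smul := fun x => Subtype.ext rfl
      mul_smul := fun g h x => Subtype.ext rfl }
  have hfree : ∀ x : {x : α // x ∉ S}, MulAction.stabilizer (fixer G S) x = ⊥ := fun x =>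
    (Subgroup.eq_bot_iff_forall _).2 fun g hg =>
      Subtype.ext (hsemi g g.2 x x.2 (congrArg Subtype.val hg))
  have h := Nat.card_congr (MulAction.selfEquivOrbitsQuotientProd hfree)
  rw [Nat.card_prod, Nat.card_eq_fintype_card (α := {x : α // x ∉ S}), Fintype.card_subtype_compl,
    Fintype.card_coe] at h
  exact ⟨_, h.trans (mul_comm _ _)⟩

section

variable {k : ℕ}

/-- Four different points outside `X`. -/
def tuples (X : Finset α) : Finset (α × α × α × α) :=
  Finset.univ.filter fun t => ({t.1, t.2.1, t.2.2.1, t.2.2.2} : Finset α).card = 4 ∧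
    Disjoint X {t.1, t.2.1, t.2.2.1, t.2.2.2}

/-- The set consisting of `X` and the four points. -/
def tset (X : Finset α) (t : α × α × α × α) : Finset α := X ∪ {t.1, t.2.1, t.2.2.1, t.2.2.2}

omit [Fintype α] in
theorem four_distinct {a b c d : α} (h : ({a, b, c, d} : Finset α).card = 4) :
    a ≠ b ∧ a ≠ c ∧ a ≠ d ∧ b ≠ c ∧ b ≠ d ∧ c ≠ d := by
  refine ⟨?_, ?_, ?_, ?_, ?_, ?_⟩ <;> intro e <;> subst e <;>
    grind [Finset.card_le_three, Finset.insert_comm, Finset.card_insert_le]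

theorem mem_tuples {X : Finset α} {a b c d : α} :
    (a, b, c, d) ∈ tuples X ↔ (a ≠ b ∧ a ≠ c ∧ a ≠ d ∧ b ≠ c ∧ b ≠ d ∧ c ≠ d) ∧
      a ∉ X ∧ b ∉ X ∧ c ∉ X ∧ d ∉ X := by
  simp only [tuples, Finset.mem_filter, Finset.mem_univ, true_and, Finset.disjoint_insert_right,
    Finset.disjoint_singleton_right]
  constructor
  · exact fun ⟨h, h1, h2, h3, h4⟩ => ⟨four_distinct h, h1, h2, h3, h4⟩
  · exact fun ⟨⟨h1, h2, h3, h4, h5, h6⟩, g1, g2, g3, g4⟩ =>
      ⟨Finset.card_eq_four.2 ⟨a, b, c, d, h1, h2, h3, h4, h5, h6, rfl⟩, g1, g2, g3, g4⟩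

theorem card_tset {X : Finset α} {t : α × α × α × α} (ht : t ∈ tuples X) :
    (tset X t).card = X.card + 4 := by
  simp only [tuples, Finset.mem_filter, Finset.mem_univ, true_and] at ht
  rw [tset, Finset.card_union_of_disjoint ht.2, ht.1]

theorem tset_mem {X : Finset α} {a b c d : α} :
    a ∈ tset X (a, b, c, d) ∧ b ∈ tset X (a, b, c, d) ∧ c ∈ tset X (a, b, c, d) ∧
      d ∈ tset X (a, b, c, d) ∧ ∀ x ∈ X, x ∈ tset X (a, b, c, d) := by
  refine ⟨?_, ?_, ?_, ?_, fun x hx => ?_⟩ <;> simp [tset, *]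

variable (hk : 4 ≤ k) (hT : Trans G k) {X : Finset α} (hX : X.card + 4 = k)

include hT hX in
theorem exists_map_tuple {a b c d a' b' c' d' : α} (ht : (a, b, c, d) ∈ tuples X)
    (ht' : (a', b', c', d') ∈ tuples X) :
    ∃ g ∈ G, g a = a' ∧ g b = b' ∧ g c = c' ∧ g d = d' ∧
      (tset X (a, b, c, d)).image g = tset X (a', b', c', d') := by
  obtain ⟨⟨ab, ac, ad, bc, bd, cd⟩, na, nb, nc, nd⟩ := mem_tuples.1 ht
  obtain ⟨⟨ab', ac', ad', bc', bd', cd'⟩, na', nb', nc', nd'⟩ := mem_tuples.1 ht'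
  obtain ⟨ma, mb, mc, md, mX⟩ := tset_mem (X := X) (a := a) (b := b) (c := c) (d := d)
  let f : α → α := fun x =>
    if x = a then a' else if x = b then b' else if x = c then c' else if x = d then d' else x
  have fa : f a = a' := if_pos rfl
  have fb : f b = b' := by simp [f, ab.symm]
  have fc : f c = c' := by simp [f, ac.symm, bc.symm]
  have fd : f d = d' := by simp [f, ad.symm, bd.symm, cd.symm]
  have fX : ∀ x ∈ X, f x = x := fun x hx => by
    simp only [f]
    rw [if_neg (fun e => na (by rw [← e]; exact hx)), if_neg (fun e => nb (by rw [← e]; exact hx)),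
      if_neg (fun e => nc (by rw [← e]; exact hx)), if_neg (fun e => nd (by rw [← e]; exact hx))]
  have hinj : Set.InjOn f (tset X (a, b, c, d) : Set α) := by
    intro u hu v hv e
    simp only [tset, Finset.coe_union, Set.mem_union, Finset.mem_coe, Finset.mem_insert,
      Finset.mem_singleton] at hu hv
    grind
  obtain ⟨g, hg, hg'⟩ := hT _ f (by rw [card_tset ht, hX]) hinj
  have ga := (hg' a ma).trans fa
  have gb := (hg' b mb).trans fb
  have gc := (hg' c mc).trans fc
  have gd := (hg' d md).trans fd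
  refine ⟨g, hg, ga, gb, gc, gd, ?_⟩
  have hgX : X.image g = X := by
    conv_rhs => rw [← X.image_id]
    exact Finset.image_congr fun x hx => (hg' x (mX x hx)).trans (fX x hx)
  rw [tset, tset, Finset.image_union, hgX]
  simp only [Finset.image_insert, Finset.image_singleton, ga, gb, gc, gd]

omit [Fintype α] in
theorem swap_preserves {a b : α} {S : Finset α} (ha : a ∈ S) (hb : b ∈ S) :
    ∀ x ∈ S, swap a b x ∈ S := fun x hx => by
  rw [swap_apply_def]; split_ifs <;> assumption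

omit [Fintype α] in
theorem conj_pair (g : Perm α) (a b c d : α) :
    g * (swap a b * swap c d) * g⁻¹ = swap (g a) (g b) * swap (g c) (g d) := by
  rw [swap_apply_apply, swap_apply_apply]
  group

include hk hT hX

set_option maxHeartbeats 1000000 in
/-- Hall's theorem on `k`-transitive groups with odd semiregular stabilisers of `k` points. -/
theorem hall (hkn : k < Fintype.card α)
    (hsemi : ∀ g ∈ G, k + 1 ≤ (fix g).card → g = 1)
    (hodd : ∀ S : Finset α, S.card = k → Odd (Nat.card (fixer G S))) :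
    Fintype.card α = k + 1 ∨
      (Fintype.card α = k + 2 ∧ ∀ S : Finset α, S.card = k → Nat.card (fixer G S) = 1) ∨
      (Fintype.card α = k + 3 ∧ ∀ S : Finset α, S.card = k → Nat.card (fixer G S) = 3) ∨
      (Fintype.card α = k + 7 ∧ ∀ S : Finset α, S.card = k →
        Nat.card (fixer G S) = 1 ∨ Nat.card (fixer G S) = 7) := by
  classical
  set n := Fintype.card α with hn
  obtain ⟨Q, hQ, hQc⟩ := Finset.exists_subset_card_eq (s := Finset.univ \ X) (n := 4) (by
    rw [Finset.card_sdiff_of_subset (Finset.subset_univ _), Finset.card_univ]; omega)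
  obtain ⟨a₀, b₀, c₀, d₀, h1, h2, h3, h4, h5, h6, rfl⟩ := Finset.card_eq_four.1 hQc
  simp only [Finset.insert_subset_iff, Finset.singleton_subset_iff, Finset.mem_sdiff,
    Finset.mem_univ, true_and] at hQ
  have ht₀ : (a₀, b₀, c₀, d₀) ∈ tuples X :=
    mem_tuples.2 ⟨⟨h1, h2, h3, h4, h5, h6⟩, hQ⟩
  set t₀ := (a₀, b₀, c₀, d₀) with ht₀def
  set T := tuples X
  have hTS : ∀ t ∈ T, (tset X t).card = k := fun t ht => by rw [card_tset ht, hX]
  have hKeq : ∀ S : Finset α, S.card = k → Nat.card (fixer G S) = Nat.card (fixer G (tset X t₀)) := by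
    intro S hS
    obtain ⟨g, hg, hgS⟩ := hT.homog (tset X t₀) S (hTS _ ht₀) hS
    rw [← hgS, card_fixer_dvd_of_eq_image hg]
  set κ := Nat.card (fixer G (tset X t₀)) with hκ
  have hκdvd : κ ∣ n - k := by
    have h := card_fixer_dvd (G := G) (S := tset X t₀) fun g hg x hx hgx => by
      obtain ⟨hgG, hgS⟩ := mem_fixer.1 hg
      refine hsemi g hgG ?_
      have h := Finset.card_le_card (show insert x (tset X t₀) ⊆ fix g from
        Finset.insert_subset (mem_fix.2 hgx) fun y hy => mem_fix.2 (hgS y hy))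
      rwa [Finset.card_insert_of_notMem hx, hTS _ ht₀] at h
    rwa [hTS _ ht₀] at h
  have hκodd : Odd κ := hodd _ (hTS _ ht₀)
  -- the two kinds of lifts
  let L1 : α × α × α × α → Set (Perm α) := fun t => lifts G (tset X t) (swap t.1 t.2.1)
  let L2 : α × α × α × α → Set (Perm α) :=
    fun t => lifts G (tset X t) (swap t.1 t.2.1 * swap t.2.2.1 t.2.2.2)
  have hπ1 : ∀ t, ∀ x ∈ tset X t, swap t.1 t.2.1 x ∈ tset X t := fun ⟨a, b, c, d⟩ => by
    obtain ⟨ma, mb, -⟩ := tset_mem (X := X) (a := a) (b := b) (c := c) (d := d)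
    exact swap_preserves ma mb
  have hπ2 : ∀ t, ∀ x ∈ tset X t, (swap t.1 t.2.1 * swap t.2.2.1 t.2.2.2) x ∈ tset X t :=
    fun ⟨a, b, c, d⟩ x hx => by
      obtain ⟨ma, mb, mc, md, -⟩ := tset_mem (X := X) (a := a) (b := b) (c := c) (d := d)
      exact pairs_mem ma mb mc md hx
  have hL1ne : ∀ t ∈ T, (L1 t).Nonempty := fun t ht => by
    obtain ⟨g, hg, hg'⟩ := hT (tset X t) (swap t.1 t.2.1) (hTS t ht).le (Equiv.injective _).injOn
    exact lifts_nonempty (hodd _ (hTS t ht)) (swap_mul_self _ _) (hπ1 t) hg hg'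
  have hL2ne : ∀ t ∈ T, (L2 t).Nonempty := fun t ht => by
    obtain ⟨a, b, c, d⟩ := t
    obtain ⟨⟨ab, ac, ad, bc, bd, cd⟩, -⟩ := mem_tuples.1 ht
    obtain ⟨g, hg, hg'⟩ := hT (tset X (a, b, c, d)) (swap a b * swap c d) (hTS _ ht).le
      (Equiv.injective _).injOn
    exact lifts_nonempty (hodd _ (hTS _ ht)) (pairs_sq ac ad bc bd) (hπ2 (a, b, c, d)) hg hg'
  have hL1eq : ∀ t ∈ T, Nat.card (L1 t) = Nat.card (L1 t₀) := by
    rintro ⟨a, b, c, d⟩ ht
    obtain ⟨g, hg, ga, gb, -, -, gS⟩ := exists_map_tuple hT hX ht₀ ht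
    simp only [L1, ht₀def]
    rw [← gS, ← ga, ← gb, swap_apply_apply, card_lifts_conj hg]
  have hL2eq : ∀ t ∈ T, Nat.card (L2 t) = Nat.card (L2 t₀) := by
    rintro ⟨a, b, c, d⟩ ht
    obtain ⟨g, hg, ga, gb, gc, gd, gS⟩ := exists_map_tuple hT hX ht₀ ht
    simp only [L2, ht₀def]
    rw [← gS, ← ga, ← gb, ← gc, ← gd, ← conj_pair, card_lifts_conj hg]
  -- fixed points outside `X`
  let F : Perm α → Finset α := fun i => fix i \ X
  let M : Finset (Perm α) := Finset.univ.filter fun i => i ∈ G ∧ i * i = 1 ∧ ∀ x ∈ X, i x = x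
  have hM : ∀ i ∈ M, i ≠ 1 → (F i).card ≤ 3 ∧ (F i).card % 2 = (n - k) % 2 ∧
      (fix i).card = X.card + (F i).card := by
    intro i hi hne
    simp only [M, Finset.mem_filter, Finset.mem_univ, true_and] at hi
    obtain ⟨hiG, hii, hiX⟩ := hi
    have hfix : (fix i).card = X.card + (F i).card := by
      have h1 := Finset.card_sdiff_add_card_eq_card (show X ⊆ fix i from fun x hx => mem_fix.2 (hiX x hx))
      simp only [F]
      omega
    have hlt : (fix i).card < k := by
      by_contra hge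
      obtain ⟨S, hS, hSc⟩ := Finset.exists_subset_card_eq (s := fix i) (n := k) (by omega)
      refine hne ?_
      have hmem : i ∈ fixer G S := mem_fixer.2 ⟨hiG, fun x hx => mem_fix.1 (hS hx)⟩
      obtain ⟨l, hl⟩ := hodd S hSc
      have h1 : (⟨i, hmem⟩ : fixer G S) ^ (2 * l + 1) = 1 := hl ▸ pow_card_eq_one'
      have h2 : i ^ (2 * l + 1) = 1 := congrArg Subtype.val h1
      rwa [pow_succ, pow_mul, pow_two, hii, one_pow, one_mul] at h2
    have hp := card_fix_parity hii
    exact ⟨by omega, by omega, hfix⟩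
  have hfX : ∀ {i a b c d}, (a, b, c, d) ∈ T → ∀ π : Perm α,
      (∀ x, x ≠ a → x ≠ b → x ≠ c → x ≠ d → π x = x) →
      i ∈ lifts G (tset X (a, b, c, d)) π → i ∈ M := by
    intro i a b c d ht π hπ hi
    obtain ⟨-, na, nb, nc, nd⟩ := mem_tuples.1 ht
    simp only [M, Finset.mem_filter, Finset.mem_univ, true_and]
    refine ⟨hi.1, hi.2.1, fun x hx => ?_⟩
    rw [hi.2.2 x (tset_mem.2.2.2.2 x hx), hπ x (fun e => na (by rw [← e]; exact hx))
      (fun e => nb (by rw [← e]; exact hx)) (fun e => nc (by rw [← e]; exact hx))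
      (fun e => nd (by rw [← e]; exact hx))]
  have hj : ∀ {i a b c d}, (a, b, c, d) ∈ T → i ∈ L1 (a, b, c, d) →
      i ∈ M ∧ i ≠ 1 ∧ c ∈ F i ∧ d ∈ F i ∧ i a = b := by
    intro i a b c d ht hi
    obtain ⟨⟨ab, ac, ad, bc, bd, cd⟩, na, nb, nc, nd⟩ := mem_tuples.1 ht
    obtain ⟨ma, mb, mc, md, -⟩ := tset_mem (X := X) (a := a) (b := b) (c := c) (d := d)
    have e1 : i a = b := (hi.2.2 a ma).trans (swap_apply_left a b)
    refine ⟨hfX ht _ (fun x x1 x2 _ _ => swap_apply_of_ne_of_ne x1 x2) hi,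
      fun e => ab (by rw [e] at e1; exact e1), ?_, ?_, e1⟩
    · exact Finset.mem_sdiff.2 ⟨mem_fix.2 ((hi.2.2 c mc).trans (swap_apply_of_ne_of_ne ac.symm bc.symm)), nc⟩
    · exact Finset.mem_sdiff.2 ⟨mem_fix.2 ((hi.2.2 d md).trans (swap_apply_of_ne_of_ne ad.symm bd.symm)), nd⟩
  have hv : ∀ {i a b c d}, (a, b, c, d) ∈ T → i ∈ L2 (a, b, c, d) →
      i ∈ M ∧ i ≠ 1 ∧ (∀ z ∈ F i, z ∉ tset X (a, b, c, d)) ∧ i a = b ∧ i c = d := by
    intro i a b c d ht hi
    obtain ⟨⟨ab, ac, ad, bc, bd, cd⟩, na, nb, nc, nd⟩ := mem_tuples.1 ht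
    obtain ⟨ma, mb, mc, md, -⟩ := tset_mem (X := X) (a := a) (b := b) (c := c) (d := d)
    obtain ⟨p1, p2, p3, p4, p5⟩ := pairs_apply ac ad bc bd
    have e1 : i a = b := (hi.2.2 a ma).trans p1
    have e3 : i c = d := (hi.2.2 c mc).trans p3
    refine ⟨hfX ht _ p5 hi, fun e => ab (by rw [e] at e1; exact e1), fun z hz hzt => ?_, e1, e3⟩
    obtain ⟨hz1, hz2⟩ := Finset.mem_sdiff.1 hz
    rw [mem_fix] at hz1
    simp only [tset, Finset.mem_union, Finset.mem_insert, Finset.mem_singleton] at hzt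
    rcases hzt with h | rfl | rfl | rfl | rfl
    · exact hz2 h
    · exact ab (hz1.symm.trans e1)
    · exact ab ((i.injective (e1.trans hz1.symm)))
    · exact cd (hz1.symm.trans e3)
    · exact cd ((i.injective (e3.trans hz1.symm)))
  have hX' : ∀ {i} (_ : i ∈ M) {x}, x ∉ X → i x ∉ X := by
    intro i hi x hx h
    simp only [M, Finset.mem_filter, Finset.mem_univ, true_and] at hi
    have := hi.2.2 _ h
    rw [inv_apply_self hi.2.1] at this
    exact hx (by rw [this]; exact h)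
  -- the incidence counts
  let R1 : Perm α → α × α × α × α → Prop :=
    fun i t => i t.1 = t.2.1 ∧ i t.2.2.1 = t.2.2.1 ∧ i t.2.2.2 = t.2.2.2
  let R2 : Perm α → α × α × α × α → Prop :=
    fun i t => i t.1 = t.2.1 ∧ i t.2.2.1 = t.2.2.2
  let P : Perm α → Finset α := fun i => Finset.univ \ (X ∪ F i)
  have hP : ∀ i ∈ M, i ≠ 1 → (P i).card = n - X.card - (F i).card ∧
      ∀ x, x ∈ P i ↔ x ∉ X ∧ i x ≠ x := by
    intro i hi hne
    refine ⟨?_, fun x => ?_⟩
    · rw [Finset.card_sdiff_of_subset (Finset.subset_univ _), Finset.card_univ,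
        Finset.card_union_of_disjoint Finset.disjoint_sdiff]
      simp only [F]
      omega
    · simp only [P, F, Finset.mem_sdiff, Finset.mem_univ, true_and, Finset.mem_union, mem_fix]
      tauto
  have hcount1 : ∀ i ∈ M, i ≠ 1 →
      (T.filter (R1 i)).card = (P i).card * ((F i).card * (F i).card - (F i).card) := by
    intro i hi hne
    obtain ⟨-, hmemP⟩ := hP i hi hne
    have hii : i * i = 1 := by
      simp only [M, Finset.mem_filter, Finset.mem_univ, true_and] at hi; exact hi.2.1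
    rw [← Finset.offDiag_card, ← Finset.card_product]
    refine Finset.card_bij' (fun t _ => (t.1, (t.2.2.1, t.2.2.2))) (fun u _ => (u.1, i u.1, u.2.1, u.2.2))
      ?_ ?_ ?_ ?_
    · rintro ⟨a, b, c, d⟩ ht
      obtain ⟨ht, e1, e2, e3⟩ := Finset.mem_filter.1 ht
      obtain ⟨⟨ab, -, -, -, -, cd⟩, na, -, nc, nd⟩ := mem_tuples.1 ht
      simp only at e1 e2 e3
      simp only [Finset.mem_product, Finset.mem_offDiag, hmemP, F, Finset.mem_sdiff, mem_fix]
      exact ⟨⟨na, fun h => ab (h.symm.trans e1)⟩, ⟨e2, nc⟩, ⟨e3, nd⟩, cd⟩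
    · rintro ⟨a, c, d⟩ hu
      simp only [Finset.mem_product, Finset.mem_offDiag, hmemP, F, Finset.mem_sdiff, mem_fix] at hu
      obtain ⟨⟨na, ha⟩, ⟨e2, nc⟩, ⟨e3, nd⟩, cd⟩ := hu
      refine Finset.mem_filter.2 ⟨mem_tuples.2 ⟨⟨Ne.symm ha, fun e => ha (by simp only at e; rw [e]; exact e2),
        fun e => ha (by simp only at e; rw [e]; exact e3), fun e => ?_, fun e => ?_, cd⟩, na, hX' hi na, nc, nd⟩,
        rfl, e2, e3⟩
      · exact ha (i.injective (by rw [e, e2]))
      · exact ha (i.injective (by rw [e, e3]))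
    · rintro ⟨a, b, c, d⟩ ht
      obtain ⟨-, e1, -⟩ := Finset.mem_filter.1 ht
      simp only at e1 ⊢
      rw [e1]
    · rintro ⟨a, c, d⟩ _
      rfl
  have hcount2 : ∀ i ∈ M, i ≠ 1 → (T.filter (R2 i)).card = (P i).card * ((P i).card - 2) := by
    intro i hi hne
    obtain ⟨-, hmemP⟩ := hP i hi hne
    have hii : i * i = 1 := by
      simp only [M, Finset.mem_filter, Finset.mem_univ, true_and] at hi; exact hi.2.1
    have hsig : ((P i).sigma fun a => P i \ {a, i a}).card = (P i).card * ((P i).card - 2) := by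
      rw [Finset.card_sigma, ← smul_eq_mul, ← Finset.sum_const]
      refine Finset.sum_congr rfl fun a ha => ?_
      obtain ⟨na, hna⟩ := (hmemP a).1 ha
      rw [Finset.card_sdiff_of_subset, Finset.card_pair (Ne.symm hna)]
      refine Finset.insert_subset ha (Finset.singleton_subset_iff.2 ((hmemP _).2 ⟨hX' hi na, ?_⟩))
      rw [inv_apply_self hii]
      exact Ne.symm hna
    rw [← hsig]
    refine Finset.card_bij' (fun t _ => ⟨t.1, t.2.2.1⟩) (fun u _ => (u.1, i u.1, u.2, i u.2))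
      ?_ ?_ ?_ ?_
    · rintro ⟨a, b, c, d⟩ ht
      obtain ⟨ht, e1, e2⟩ := Finset.mem_filter.1 ht
      obtain ⟨⟨ab, ac, -, bc, -, cd⟩, na, -, nc, -⟩ := mem_tuples.1 ht
      simp only at e1 e2
      simp only [Finset.mem_sigma, hmemP, Finset.mem_sdiff, Finset.mem_insert, Finset.mem_singleton,
        not_or, e1]
      exact ⟨⟨na, fun h => ab h.symm⟩, ⟨nc, fun h => cd (h.symm.trans e2)⟩, ac.symm, bc.symm⟩
    · rintro ⟨a, c⟩ hu
      simp only [Finset.mem_sigma, hmemP, Finset.mem_sdiff, Finset.mem_insert, Finset.mem_singleton,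
        not_or] at hu
      obtain ⟨⟨na, ha⟩, ⟨nc, hc⟩, c1, c2⟩ := hu
      refine Finset.mem_filter.2 ⟨mem_tuples.2 ⟨⟨Ne.symm ha, Ne.symm c1, fun e => ?_, Ne.symm c2,
        fun e => c1 (i.injective e).symm, Ne.symm hc⟩, na, hX' hi na, nc, hX' hi nc⟩, rfl, rfl⟩
      simp only at e
      exact c2 (by rw [e, inv_apply_self hii])
    · rintro ⟨a, b, c, d⟩ ht
      obtain ⟨-, e1, e2⟩ := Finset.mem_filter.1 ht
      simp only at e1 e2 ⊢
      rw [e1, e2]
    · rintro ⟨a, c⟩ _
      rfl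
  obtain ⟨q, hq⟩ : ∃ q, n = k + q := ⟨n - k, by omega⟩
  obtain ⟨j₀, hj₀⟩ := hL1ne t₀ ht₀
  obtain ⟨hj₀M, hj₀ne, hc0, hd0, -⟩ := hj ht₀ hj₀
  rcases Nat.eq_or_lt_of_le (show 1 ≤ q by omega) with hq1 | hq1
  · exact Or.inl (by omega)
  have hj0c : 2 ≤ (F j₀).card := by
    rw [← Finset.card_pair h6]
    exact Finset.card_le_card (Finset.insert_subset hc0 (Finset.singleton_subset_iff.2 hd0))
  set f := if q % 2 = 1 then 3 else 2 with hf
  have hjF : ∀ {i a b c d}, (a, b, c, d) ∈ T → i ∈ L1 (a, b, c, d) → (F i).card = f := by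
    intro i a b c d ht hi
    obtain ⟨hiM, hne, hc, hd, -⟩ := hj ht hi
    obtain ⟨hle, hpar, -⟩ := hM i hiM hne
    have := Finset.card_le_card (Finset.insert_subset hc (Finset.singleton_subset_iff.2 hd))
    rw [Finset.card_pair ((mem_tuples.1 ht).1).2.2.2.2.2] at this
    rw [hf]
    split_ifs <;> omega
  set I := M.filter fun i => i ≠ 1 ∧ (F i).card = f
  -- some double lift, hence every one, has `f` fixed points
  have hvF : ∀ {i a b c d}, (a, b, c, d) ∈ T → i ∈ L2 (a, b, c, d) → (F i).card = f := by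
    intro i a b c d ht hi
    have hj0f := hjF ht₀ hj₀
    obtain ⟨hPc, hPm⟩ := hP j₀ hj₀M hj₀ne
    obtain ⟨hj0G, hj0i, hj0X⟩ : j₀ ∈ G ∧ j₀ * j₀ = 1 ∧ ∀ x ∈ X, j₀ x = x := by
      simpa [M] using hj₀M
    obtain ⟨a', ha'⟩ := Finset.card_pos.1 (show 0 < (P j₀).card by
      rw [hPc, hj0f, hf]; split_ifs <;> omega)
    obtain ⟨c', hc', hc''⟩ := Finset.exists_mem_notMem_of_card_lt_card
      (s := ({a', j₀ a'} : Finset α)) (t := P j₀) (by
        refine lt_of_le_of_lt Finset.card_le_two ?_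
        rw [hPc, hj0f, hf]; split_ifs <;> omega)
    obtain ⟨na', ha''⟩ := (hPm a').1 ha'
    obtain ⟨nc', hc3⟩ := (hPm c').1 hc'
    simp only [Finset.mem_insert, Finset.mem_singleton, not_or] at hc''
    have ht' : (a', j₀ a', c', j₀ c') ∈ T := mem_tuples.2
      ⟨⟨Ne.symm ha'', Ne.symm hc''.1, fun e => hc''.2 (by rw [e, inv_apply_self hj0i]),
        Ne.symm hc''.2, fun e => hc''.1 (j₀.injective e).symm, Ne.symm hc3⟩,
        na', hX' hj₀M na', nc', hX' hj₀M nc'⟩
    obtain ⟨⟨ab, ac, ad, bc, bd, cd⟩, -⟩ := mem_tuples.1 ht'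
    obtain ⟨p1, p2, p3, p4, p5⟩ := pairs_apply ac ad bc bd
    have hj0v : j₀ ∈ L2 (a', j₀ a', c', j₀ c') := by
      refine ⟨hj0G, hj0i, fun x hx => ?_⟩
      simp only [tset, Finset.mem_union, Finset.mem_insert, Finset.mem_singleton] at hx
      rcases hx with hx | hx | hx | hx | hx
      · rw [hj0X x hx, p5 x (fun e => na' (e ▸ hx)) (fun e => hX' hj₀M na' (e ▸ hx))
          (fun e => nc' (e ▸ hx)) (fun e => hX' hj₀M nc' (e ▸ hx))]
      · subst hx; rw [p1]
      · subst hx; rw [p2, inv_apply_self hj0i]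
      · subst hx; rw [p3]
      · subst hx; rw [p4, inv_apply_self hj0i]
    obtain ⟨g, hg, ga, gb, gc, gd, gS⟩ := exists_map_tuple hT hX ht' ht
    have hiM := (hv ht hi).1
    have hmem : g * j₀ * g⁻¹ ∈ lifts G (tset X (a, b, c, d)) (swap a b * swap c d) := by
      refine ⟨G.mul_mem (G.mul_mem hg hj0G) (G.inv_mem hg), ?_, fun x hx => ?_⟩
      · rw [show g * j₀ * g⁻¹ * (g * j₀ * g⁻¹) = g * (j₀ * j₀) * g⁻¹ by group, hj0i, mul_one,
          mul_inv_cancel]
      · rw [← ga, ← gb, ← gc, ← gd, ← conj_pair]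
        rw [← gS, Finset.mem_image] at hx
        obtain ⟨y, hy, rfl⟩ := hx
        simp only [Perm.mul_apply, Perm.coe_inv, Equiv.symm_apply_apply]
        rw [hj0v.2.2 y hy]
        rfl
    obtain ⟨w, hw, hiw⟩ := exists_conj_lift (hodd _ (hTS _ ht)) (hπ2 (a, b, c, d)) hmem hi
    have hcard : (fix i).card = (fix j₀).card := by
      rw [hiw, fix_conj, Finset.card_image_of_injective _ w.injective, fix_conj,
        Finset.card_image_of_injective _ g.injective]
    have e1 := (hM i hiM (hv ht hi).2.1).2.2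
    have e2 := (hM j₀ hj₀M hj₀ne).2.2
    omega
  have hfilter : ∀ (R : Perm α → α × α × α × α → Prop) (L : α × α × α × α → Set (Perm α)),
      (∀ t ∈ T, ∀ i, i ∈ L t ↔ i ∈ I ∧ R i t) →
      ∀ t ∈ T, (I.filter fun i => R i t).card = Nat.card (L t) := by
    intro R L h t ht
    rw [Nat.card_coe_set_eq, ← Set.ncard_coe_finset]
    congr 1
    ext i
    rw [Finset.mem_coe, Finset.mem_filter]
    exact (h t ht i).symm
  have hL1I : ∀ t ∈ T, ∀ i, i ∈ L1 t ↔ i ∈ I ∧ R1 i t := by
    rintro ⟨a, b, c, d⟩ ht i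
    constructor
    · intro hi
      obtain ⟨hiM, hne, hc, hd, e⟩ := hj ht hi
      simp only [I, Finset.mem_filter]
      exact ⟨⟨hiM, hne, hjF ht hi⟩, e, mem_fix.1 (Finset.mem_sdiff.1 hc).1,
        mem_fix.1 (Finset.mem_sdiff.1 hd).1⟩
    · rintro ⟨hi, e1, e2, e3⟩
      simp only [I, M, Finset.mem_filter, Finset.mem_univ, true_and] at hi
      simp only at e1 e2 e3
      obtain ⟨⟨hiG, hii, hiX⟩, -, -⟩ := hi
      obtain ⟨⟨ab, ac, ad, bc, bd, cd⟩, na, nb, nc, nd⟩ := mem_tuples.1 ht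
      refine ⟨hiG, hii, fun x hx => ?_⟩
      simp only [tset, Finset.mem_union, Finset.mem_insert, Finset.mem_singleton] at hx
      rcases hx with hx | rfl | rfl | rfl | rfl
      · rw [hiX x hx, swap_apply_of_ne_of_ne (show x ≠ a from fun e => na (by rw [← e]; exact hx))
          (show x ≠ b from fun e => nb (by rw [← e]; exact hx))]
      · rw [e1, swap_apply_left]
      · rw [swap_apply_right, ← e1, inv_apply_self hii]
      · rw [e2, swap_apply_of_ne_of_ne ac.symm bc.symm]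
      · rw [e3, swap_apply_of_ne_of_ne ad.symm bd.symm]
  have hL2I : ∀ t ∈ T, ∀ i, i ∈ L2 t ↔ i ∈ I ∧ R2 i t := by
    rintro ⟨a, b, c, d⟩ ht i
    constructor
    · intro hi
      obtain ⟨hiM, hne, -, e1, e3⟩ := hv ht hi
      simp only [I, Finset.mem_filter]
      exact ⟨⟨hiM, hne, hvF ht hi⟩, e1, e3⟩
    · rintro ⟨hi, e1, e3⟩
      simp only [I, M, Finset.mem_filter, Finset.mem_univ, true_and] at hi
      simp only at e1 e3
      obtain ⟨⟨hiG, hii, hiX⟩, -, -⟩ := hi
      obtain ⟨⟨ab, ac, ad, bc, bd, cd⟩, na, nb, nc, nd⟩ := mem_tuples.1 ht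
      obtain ⟨p1, p2, p3, p4, p5⟩ := pairs_apply ac ad bc bd
      refine ⟨hiG, hii, fun x hx => ?_⟩
      simp only [tset, Finset.mem_union, Finset.mem_insert, Finset.mem_singleton] at hx
      rcases hx with hx | hx | hx | hx | hx
      · rw [hiX x hx, p5 x (fun e => na (e ▸ hx)) (fun e => nb (e ▸ hx)) (fun e => nc (e ▸ hx))
          (fun e => nd (e ▸ hx))]
      · subst hx; rw [p1, e1]
      · subst hx; rw [p2, ← e1, inv_apply_self hii]
      · subst hx; rw [p3, e3]
      · subst hx; rw [p4, ← e3, inv_apply_self hii]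
  have hPI : ∀ i ∈ I, (P i).card = q + 4 - f ∧ (F i).card = f ∧ i ∈ M ∧ i ≠ 1 := fun i hi => by
    simp only [I, Finset.mem_filter] at hi
    refine ⟨?_, hi.2.2, hi.1, hi.2.1⟩
    rw [(hP i hi.1 hi.2.1).1, hi.2.2]
    omega
  have eq1 : I.card * ((q + 4 - f) * (f * f - f)) = T.card * Nat.card (L1 t₀) := by
    rw [← smul_eq_mul, ← smul_eq_mul (a := T.card), ← Finset.sum_const, ← Finset.sum_const,
      ← Finset.sum_congr rfl fun i hi => (show (T.filter (R1 i)).card = (q + 4 - f) * (f * f - f) by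
        obtain ⟨e1, e2, e3, e4⟩ := hPI i hi
        rw [hcount1 i e3 e4, e1, e2]),
      ← Finset.sum_congr rfl fun t ht => (hfilter R1 L1 hL1I t ht).trans (hL1eq t ht)]
    convert Finset.sum_card_bipartiteAbove_eq_sum_card_bipartiteBelow R1 (s := I) (t := T) using 4
    all_goals (ext; simp [Finset.bipartiteAbove, Finset.bipartiteBelow])
  have eq2 : I.card * ((q + 4 - f) * (q + 4 - f - 2)) = T.card * Nat.card (L2 t₀) := by
    rw [← smul_eq_mul, ← smul_eq_mul (a := T.card), ← Finset.sum_const, ← Finset.sum_const,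
      ← Finset.sum_congr rfl fun i hi => (show (T.filter (R2 i)).card = (q + 4 - f) * (q + 4 - f - 2) by
        obtain ⟨e1, e2, e3, e4⟩ := hPI i hi
        rw [hcount2 i e3 e4, e1]),
      ← Finset.sum_congr rfl fun t ht => (hfilter R2 L2 hL2I t ht).trans (hL2eq t ht)]
    convert Finset.sum_card_bipartiteAbove_eq_sum_card_bipartiteBelow R2 (s := I) (t := T) using 4
    all_goals (ext; simp [Finset.bipartiteAbove, Finset.bipartiteBelow])
  obtain ⟨v₀, hv₀⟩ := hL2ne t₀ ht₀
  obtain ⟨hv₀M, hv₀ne, hv₀F, -, -⟩ := hv ht₀ hv₀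
  have hv₀f := hvF ht₀ hv₀
  have hS₀ := hTS _ ht₀
  have m1 := card_lifts_mul (hodd _ hS₀) (hπ1 t₀) hj₀
  have m2 := card_lifts_mul (hodd _ hS₀) (hπ2 t₀) hv₀
  change Nat.card (L1 t₀) * _ = κ at m1
  change Nat.card (L2 t₀) * _ = κ at m2
  have hIpos : 0 < I.card := Finset.card_pos.2
    ⟨j₀, by simp only [I, Finset.mem_filter]; exact ⟨hj₀M, hj₀ne, hjF ht₀ hj₀⟩⟩
  -- elements of the stabiliser with a fixed point outside
  have hfree : ∀ g ∈ fixer G (tset X t₀), ∀ x, x ∉ tset X t₀ → g x = x → g = 1 := by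
    intro g hg x hx hgx
    obtain ⟨hgG, hgS⟩ := mem_fixer.1 hg
    refine hsemi g hgG ?_
    have h := Finset.card_le_card (show insert x (tset X t₀) ⊆ fix g from
      Finset.insert_subset (mem_fix.2 hgx) fun y hy => mem_fix.2 (hgS y hy))
    rwa [Finset.card_insert_of_notMem hx, hS₀] at h
  have hpermF : ∀ i ∈ M, ∀ g ∈ cfixer G (tset X t₀) i, ∀ x ∈ F i, g x ∈ F i := by
    intro i hiM g hg x hx
    rw [mem_cfixer] at hg
    obtain ⟨hx1, hx2⟩ := Finset.mem_sdiff.1 hx
    refine Finset.mem_sdiff.2 ⟨apply_mem_fix hg.2.symm hx1, fun h => hx2 ?_⟩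
    have h2 := (mem_fixer.1 hg.1).2 _ (Finset.mem_union_left _ h)
    rwa [g.injective h2] at h
  have hcv : Nat.card (cfixer G (tset X t₀) v₀) ≤ f := by
    obtain ⟨x, hx⟩ := Finset.card_pos.1 (show 0 < (F v₀).card by rw [hv₀f, hf]; split_ifs <;> omega)
    rw [← hv₀f, ← Nat.card_eq_finsetCard]
    refine Nat.card_le_card_of_injective
      (fun g => (⟨(g : Perm α) x, hpermF v₀ hv₀M g g.2 x hx⟩ : F v₀)) fun g h e => ?_
    have e' : (g : Perm α) x = (h : Perm α) x := congrArg Subtype.val e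
    have hmem : ((h : Perm α)⁻¹ * g) ∈ fixer G (tset X t₀) :=
      mul_mem (inv_mem (cfixer_le _ _ h.2)) (cfixer_le _ _ g.2)
    refine Subtype.ext (inv_mul_eq_one.1 (hfree _ hmem x (hv₀F x hx) ?_)).symm
    rw [Perm.mul_apply, e']
    exact (h : Perm α).symm_apply_apply x
  have hcvodd : Odd (Nat.card (cfixer G (tset X t₀) v₀)) :=
    hκodd.of_dvd_nat (Subgroup.card_dvd_of_le (cfixer_le _ _))
  obtain ⟨c, hc⟩ : ∃ c, c = Nat.card (cfixer G (tset X t₀) v₀) := ⟨_, rfl⟩
  rw [← hc] at m2 hcv hcvodd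
  by_cases hpar : q % 2 = 1
  · -- odd
    have hf3 : f = 3 := by rw [hf, if_pos hpar]
    rw [hf3] at hcv eq1 eq2
    have hcj : Nat.card (cfixer G (tset X t₀) j₀) = 1 := by
      rw [Subgroup.card_eq_one, Subgroup.eq_bot_iff_forall]
      intro g hg
      have hjf := hjF ht₀ hj₀
      rw [hf3] at hjf
      obtain ⟨x, hx, hxn⟩ := Finset.exists_mem_notMem_of_card_lt_card
        (s := ({c₀, d₀} : Finset α)) (t := F j₀) (by rw [hjf, Finset.card_pair h6]; norm_num)
      have hxS : x ∉ tset X t₀ := by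
        simp only [Finset.mem_insert, Finset.mem_singleton, not_or] at hxn
        intro h
        simp only [tset, ht₀def, Finset.mem_union, Finset.mem_insert, Finset.mem_singleton] at h
        obtain ⟨hx1, hx2⟩ := Finset.mem_sdiff.1 hx
        rw [mem_fix] at hx1
        rcases h with h | h | h | h | h
        · exact hx2 h
        · subst h; exact h1 (hx1.symm.trans (hj ht₀ hj₀).2.2.2.2)
        · subst h; exact h1 (j₀.injective ((hj ht₀ hj₀).2.2.2.2.trans hx1.symm))
        · exact hxn.1 h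
        · exact hxn.2 h
      refine hfree g (cfixer_le _ _ hg) x hxS ?_
      have hmem := hpermF j₀ hj₀M g hg x hx
      by_contra hne
      have hfx := (mem_fixer.1 (cfixer_le _ _ hg)).2
      have gc : g c₀ = c₀ := hfx _ tset_mem.2.2.1
      have gd : g d₀ = d₀ := hfx _ tset_mem.2.2.2.1
      simp only [Finset.mem_insert, Finset.mem_singleton, not_or] at hxn
      have hsub : ({c₀, d₀, x, g x} : Finset α) ⊆ F j₀ :=
        Finset.insert_subset hc0 (Finset.insert_subset hd0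
          (Finset.insert_subset hx (Finset.singleton_subset_iff.2 hmem)))
      have h4' := Finset.card_le_card hsub
      rw [Finset.card_eq_four.2 ⟨c₀, d₀, x, g x, h6, Ne.symm hxn.1,
        fun e => hxn.1 (g.injective (e.symm.trans gc.symm)), Ne.symm hxn.2,
        fun e => hxn.2 (g.injective (e.symm.trans gd.symm)), Ne.symm hne, rfl⟩, hjf] at h4'
      omega
    rw [hcj, mul_one] at m1
    rw [m1] at eq1
    have key : (q - 1) * c = 6 := by
      have e : I.card * ((q + 4 - 3) * ((q - 1) * c)) = I.card * ((q + 4 - 3) * 6) := by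
        calc I.card * ((q + 4 - 3) * ((q - 1) * c)) = I.card * ((q + 4 - 3) * (q + 4 - 3 - 2)) * c := by
              rw [show q + 4 - 3 - 2 = q - 1 by omega]; ring
          _ = T.card * (Nat.card (L2 t₀) * c) := by rw [eq2]; ring
          _ = I.card * ((q + 4 - 3) * (3 * 3 - 3)) := by rw [m2, eq1]
      exact Nat.eq_of_mul_eq_mul_left (show 0 < q + 4 - 3 by omega)
        (Nat.eq_of_mul_eq_mul_left hIpos e)
    obtain ⟨l, hl⟩ := hcvodd
    have hcκ : c ∣ κ := ⟨_, by rw [mul_comm]; exact m2.symm⟩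
    rcases (show c = 1 ∨ c = 3 by omega) with c1 | c3
    · rw [c1, mul_one] at key
      have hq7 : q = 7 := by omega
      right; right; right
      refine ⟨by omega, fun S hS => ?_⟩
      rw [hKeq S hS]
      exact (Nat.dvd_prime (by norm_num)).1 (by rwa [show n - k = 7 by omega] at hκdvd)
    · rw [c3] at key
      have hq3 : q = 3 := by omega
      right; right; left
      refine ⟨by omega, fun S hS => ?_⟩
      rw [hKeq S hS]
      rw [show n - k = 3 by omega] at hκdvd
      rw [c3] at hcκ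
      exact Nat.dvd_antisymm hκdvd hcκ
  · -- even
    have hf2 : f = 2 := by rw [hf, if_neg hpar]
    rw [hf2] at hcv eq1 eq2
    obtain ⟨l, hl⟩ := hcvodd
    have c1 : c = 1 := by omega
    rw [c1, mul_one] at m2
    rw [m2] at eq2
    obtain ⟨C, hC⟩ : ∃ C, C = Nat.card (cfixer G (tset X t₀) j₀) := ⟨_, rfl⟩
    rw [← hC] at m1
    set u := Nat.card (L1 t₀) with hu
    have key : q * u = 2 * κ := by
      have e : T.card * (q * u) = T.card * (2 * κ) := by
        calc T.card * (q * u) = q * (T.card * u) := by ring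
          _ = q * (I.card * ((q + 4 - 2) * (2 * 2 - 2))) := by rw [eq1]
          _ = 2 * (I.card * ((q + 4 - 2) * (q + 4 - 2 - 2))) := by
            rw [show q + 4 - 2 - 2 = q by omega]; ring
          _ = T.card * (2 * κ) := by rw [eq2]; ring
      exact Nat.eq_of_mul_eq_mul_left (Finset.card_pos.2 ⟨t₀, ht₀⟩) e
    have hupos : 0 < u := by
      rcases Nat.eq_zero_or_pos u with h | h
      · rw [h, zero_mul] at m1; have := Nat.card_pos (α := fixer G (tset X t₀)); omega
      · exact h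
    have hqC : q = 2 * C := by
      rw [← m1, show 2 * (u * C) = 2 * C * u by ring] at key
      exact Nat.eq_of_mul_eq_mul_right hupos key
    have hu1 : u = 1 := by
      have h1 : κ ∣ 2 * C := by rw [← hqC]; rwa [show n - k = q by omega] at hκdvd
      have h2 : κ ∣ C := (Nat.Coprime.dvd_of_dvd_mul_left (Nat.coprime_two_right.2 hκodd) h1)
      have hCpos : 0 < C := by
        rcases Nat.eq_zero_or_pos C with h | h
        · omega
        · exact h
      have h3 := Nat.le_of_dvd hCpos h2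
      rw [← m1] at h3
      have := Nat.le_of_mul_le_mul_right (show u * C ≤ 1 * C by rw [one_mul]; exact h3) hCpos
      omega
    have hcent : ∀ t ∈ T, ∀ i ∈ L1 t, ∀ g ∈ fixer G (tset X t), i * g = g * i := by
      intro t ht i hi g hg
      have e := card_lifts_mul (hodd _ (hTS t ht)) (hπ1 t) hi
      change Nat.card (L1 t) * _ = _ at e
      rw [hL1eq t ht] at e
      rw [hu1, one_mul] at e
      have heq := Subgroup.eq_of_le_of_card_ge (cfixer_le (G := G) (tset X t) i) e.ge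
      rw [← heq, mem_cfixer] at hg
      exact hg.2
    have ht₁ : (c₀, d₀, a₀, b₀) ∈ T :=
      mem_tuples.2 ⟨⟨h6, h2.symm, h4.symm, h3.symm, h5.symm, h1⟩, hQ.2.2.1, hQ.2.2.2, hQ.1, hQ.2.1⟩
    obtain ⟨j₁, hj₁⟩ := hL1ne _ ht₁
    have hset : tset X (c₀, d₀, a₀, b₀) = tset X t₀ := by
      simp only [tset, ht₀def]
      congr 1
      ext x
      simp only [Finset.mem_insert, Finset.mem_singleton]
      tauto
    have hg : ∀ x ∈ tset X t₀, (j₀ * j₁) x = (swap a₀ b₀ * swap c₀ d₀) x := fun x hx => by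
      have e1 : j₁ x = swap c₀ d₀ x := hj₁.2.2 x (hset.symm ▸ hx)
      rw [Perm.mul_apply, e1, hj₀.2.2 _ (swap_preserves tset_mem.2.2.1 tset_mem.2.2.2.1 x hx),
        Perm.mul_apply]
    obtain ⟨e, he⟩ := exists_lift_pow (hodd _ hS₀) (pairs_sq h2 h3 h4 h5) (hπ2 t₀)
      (G.mul_mem hj₀.1 hj₁.1) hg
    obtain ⟨w, hw, hvw⟩ := exists_conj_lift (hodd _ hS₀) (hπ2 t₀) hv₀ he
    have hκ1 : κ = 1 := by
      rw [hκ, Subgroup.card_eq_one, Subgroup.eq_bot_iff_forall]
      intro g hg'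
      have hc0' : ∀ g ∈ fixer G (tset X t₀), Commute ((j₀ * j₁) ^ e) g := fun g hg' => by
        refine Commute.pow_left (Commute.mul_left (hcent _ ht₀ _ hj₀ g hg') ?_) e
        exact hcent _ ht₁ _ hj₁ g (by rw [hset]; exact hg')
      have hv₀c : v₀ = (j₀ * j₁) ^ e := by
        rw [← mul_right_inj w, ← (hc0' w hw).eq, hvw, inv_mul_cancel_right]
      have : g ∈ cfixer G (tset X t₀) v₀ := mem_cfixer.2 ⟨hg', by rw [hv₀c]; exact (hc0' g hg').eq⟩
      have h1 : Nat.card (cfixer G (tset X t₀) v₀) = 1 := by omega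
      rw [Subgroup.card_eq_one] at h1
      rwa [h1, Subgroup.mem_bot] at this
    right; left
    refine ⟨?_, fun S hS => by rw [hKeq S hS, hκ1]⟩
    rw [hu1, one_mul, hκ1] at m1
    omega

end

end Cfsg.Agent.Lib.Homogeneous
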