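import Cfsg.Agent.Lib.Homogeneous.Semiregular

/-!
# A `k`-transitive group (`k ≥ 4`) induces all even permutations on some `(k+1)`-set

Reduction to the semiregular case: if a nontrivial element fixes more than `k` points, the normaliser
of a maximal `p`-subgroup with this property is `k`-transitive on its fixed points.
-/

set_option autoImplicit false

namespace Cfsg.Agent.Lib.Homogeneous

open Equiv

variable {α : Type*} [Fintype α] [DecidableEq α]

/-- Counting fixed points of a permutation of prime power order on an invariant set. -/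
theorem card_modEq_fixed {p m : ℕ} [Fact p.Prime] (u : Perm α) (O : Finset α)
    (hu : u ^ p ^ m = 1) (hO : ∀ x ∈ O, u x ∈ O) :
    O.card ≡ (O.filter fun x => u x = x).card [MOD p] := by
  classical
  let f : Function.End {x // x ∈ O} := fun x => ⟨u x, hO x x.2⟩
  have key : ∀ j : ℕ, ∀ x, ((f ^ j) x : α) = (u ^ j) (x : α) := by
    intro j
    induction j with
    | zero => intro x; rfl
    | succ j ih =>
      intro x
      rw [pow_succ, pow_succ, Perm.mul_apply]
      exact ih (f x)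
  have hf : f ^ p ^ m = 1 := by
    funext x
    refine Subtype.ext ?_
    rw [key, hu]
    rfl
  have h := Equiv.Perm.card_fixedPoints_modEq hf
  rw [Fintype.card_coe] at h
  refine h.trans ?_
  refine (congrArg (· % p) ?_ : _)
  rw [← Fintype.card_coe]
  refine Fintype.card_congr ⟨fun x => ⟨x.1, Finset.mem_filter.2 ⟨x.1.2, congrArg Subtype.val x.2⟩⟩,
    fun x => ⟨⟨x, (Finset.mem_filter.1 x.2).1⟩, Subtype.ext (Finset.mem_filter.1 x.2).2⟩,
    fun x => rfl, fun x => rfl⟩

omit [Fintype α] [DecidableEq α] in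
/-- Two `p`-subgroups of the order of a maximal one are conjugate. -/
theorem exists_conj_of_card {p : ℕ} [Fact p.Prime] {H A B : Subgroup (Perm α)} [Finite (Perm α)]
    (hA : A ≤ H) (hB : B ≤ H) (hAp : IsPGroup p A) (hBp : IsPGroup p B)
    (hmax : ∀ P, P ≤ H → IsPGroup p P → A ≤ P → P = A) (hc : Nat.card B = Nat.card A) :
    ∃ w ∈ H, ∀ h, h ∈ A ↔ w * h * w⁻¹ ∈ B := by
  let P₀ : Sylow p H :=
    { toSubgroup := A.subgroupOf H
      isPGroup' := hAp.comap_of_injective H.subtype H.subtype_injective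
      is_maximal' := by
        intro Q hQ hle
        have hmap := hmax (Q.map H.subtype) (Subgroup.map_subtype_le Q) (hQ.map H.subtype) (by
          have := Subgroup.map_mono (f := H.subtype) hle
          rwa [Subgroup.subgroupOf_map_subtype, inf_eq_left.2 hA] at this)
        rw [← hmap, Subgroup.subgroupOf, Subgroup.comap_map_eq_self_of_injective H.subtype_injective] }
  obtain ⟨P, hP⟩ := IsPGroup.exists_le_sylow (p := p) (hBp.comap_of_injective H.subtype H.subtype_injective)
  obtain ⟨w, hw⟩ := MulAction.exists_smul_eq H P₀ P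
  have hBP : B.subgroupOf H = (P : Subgroup H) := by
    refine Subgroup.eq_of_le_of_card_ge hP (le_of_eq ?_)
    rw [← hw, Sylow.coe_subgroup_smul, Nat.card_congr
      (Subgroup.equivSMul (MulAut.conj w) (P₀ : Subgroup H)).symm.toEquiv]
    change Nat.card (A.subgroupOf H) = Nat.card (B.subgroupOf H)
    rw [Nat.card_congr (Subgroup.subgroupOfEquivOfLe hA).toEquiv,
      Nat.card_congr (Subgroup.subgroupOfEquivOfLe hB).toEquiv, hc]
  refine ⟨w, w.2, fun h => ?_⟩
  constructor
  · intro hh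
    have h1 : MulAut.conj w • (⟨h, hA hh⟩ : H) ∈ (P : Subgroup H) := by
      rw [← hw, Sylow.coe_subgroup_smul]
      exact Subgroup.smul_mem_pointwise_smul _ _ _ (Subgroup.mem_subgroupOf.2 hh)
    rw [← hBP, Subgroup.mem_subgroupOf] at h1
    exact h1
  · intro hh
    have h2 : (⟨_, hB hh⟩ : H) ∈ B.subgroupOf H := Subgroup.mem_subgroupOf.2 hh
    rw [hBP, ← hw, Sylow.coe_subgroup_smul, Subgroup.mem_pointwise_smul_iff_inv_smul_mem] at h2
    have h3 := Subgroup.mem_subgroupOf.1 h2
    simp [MulAut.smul_def, mul_assoc] at h3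
    exact h3

variable {G : Subgroup (Perm α)} {k : ℕ}

/-- The points fixed by a subgroup. -/
noncomputable def fixSet (R : Subgroup (Perm α)) : Finset α := by
  classical exact Finset.univ.filter fun x => ∀ r ∈ R, r x = x

theorem mem_fixSet {R : Subgroup (Perm α)} {x : α} : x ∈ fixSet R ↔ ∀ r ∈ R, r x = x := by
  simp [fixSet]

theorem le_fixer_of_subset {R : Subgroup (Perm α)} (hR : R ≤ G) {S : Finset α} (hS : S ⊆ fixSet R) :
    R ≤ fixer G S :=
  fun r hr => mem_fixer.2 ⟨hR hr, fun _ hx => mem_fixSet.1 (hS hx) r hr⟩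

theorem normalizer_apply_mem {R : Subgroup (Perm α)} {g : Perm α}
    (hg : ∀ h, h ∈ R ↔ g * h * g⁻¹ ∈ R) {x : α} (hx : x ∈ fixSet R) : g x ∈ fixSet R := by
  refine mem_fixSet.2 fun r hr => ?_
  have h1 : g⁻¹ * r * g ∈ R := (hg _).2 (by simpa [mul_assoc] using hr)
  have h2 := congrArg g (mem_fixSet.1 hx _ h1)
  rwa [← Perm.mul_apply, ← mul_assoc, ← mul_assoc, mul_inv_cancel, one_mul, Perm.mul_apply] at h2

/-- The normaliser of a maximal `p`-subgroup fixing more than `k` points is transitive enough. -/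
theorem normalizer_transitive {p : ℕ} [hp : Fact p.Prime] (hT : Trans G k) {R : Subgroup (Perm α)}
    (hRG : R ≤ G) (hRp : IsPGroup p R)
    (hmax : ∀ P, P ≤ G → IsPGroup p P → R < P → (fixSet P).card ≤ k)
    {S : Finset α} (hS : S ⊆ fixSet R) (hSc : S.card + 1 = k) {x y : α}
    (hx : x ∈ fixSet R \ S) (hy : y ∈ fixSet R \ S) :
    ∃ g ∈ G, (∀ h, h ∈ R ↔ g * h * g⁻¹ ∈ R) ∧ (∀ z ∈ S, g z = z) ∧ g x = y := by
  classical
  obtain ⟨hxF, hxS⟩ := Finset.mem_sdiff.1 hx
  obtain ⟨hyF, hyS⟩ := Finset.mem_sdiff.1 hy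
  by_cases hsyl : ∃ T : Finset α, T ⊆ fixSet R ∧ T.card = k ∧
      ∀ P, P ≤ fixer G T → IsPGroup p P → R ≤ P → P = R
  · -- Witt's argument
    obtain ⟨T, hTF, hTc, hTmax⟩ := hsyl
    have hS1 : (insert x S).card = k := by rw [Finset.card_insert_of_notMem hxS]; exact hSc
    have hS2 : (insert y S).card = k := by rw [Finset.card_insert_of_notMem hyS]; exact hSc
    obtain ⟨g, hg, hg'⟩ := hT (insert x S) (fun z => if z = x then y else z) hS1.le (by
      intro u hu v hv e
      simp only at e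
      simp only [Finset.coe_insert, Set.mem_insert_iff, Finset.mem_coe] at hu hv
      have hne : ∀ z ∈ S, z ≠ x := fun z hz h => hxS (by rw [← h]; exact hz)
      have hney : ∀ z ∈ S, z ≠ y := fun z hz h => hyS (by rw [← h]; exact hz)
      rcases hu with rfl | hu <;> rcases hv with rfl | hv
      · rfl
      · rw [if_pos rfl, if_neg (hne v hv)] at e
        exact absurd e.symm (hney v hv)
      · rw [if_pos rfl, if_neg (hne u hu)] at e
        exact absurd e (hney u hu)
      · rw [if_neg (hne u hu), if_neg (hne v hv)] at e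
        exact e)
    have hgx : g x = y := (hg' x (Finset.mem_insert_self _ _)).trans (if_pos rfl)
    have hgS : ∀ z ∈ S, g z = z := fun z hz =>
      (hg' z (Finset.mem_insert_of_mem hz)).trans (if_neg fun h => hxS (by rw [← h]; exact hz))
    obtain ⟨g₀, hg₀, hg₀T⟩ := hT.homog T (insert y S) hTc hS2
    -- transport the maximal subgroup
    set A := R.map (MulAut.conj g₀).toMonoidHom with hA
    have hmemA : ∀ {a : Perm α} {g : Perm α}, a ∈ R.map (MulAut.conj g).toMonoidHom ↔
        g⁻¹ * a * g ∈ R := fun {a g} => by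
      rw [Subgroup.mem_map]
      constructor
      · rintro ⟨r, hr, rfl⟩; simpa [mul_assoc] using hr
      · exact fun h => ⟨_, h, by simp [mul_assoc]⟩
    have hcard : ∀ g : Perm α, Nat.card (R.map (MulAut.conj g).toMonoidHom) = Nat.card R := fun g =>
      Subgroup.card_map_of_injective (MulAut.conj g).injective
    have hsub : ∀ {g : Perm α} {U V : Finset α}, g ∈ G → U ⊆ fixSet R → U.image g = V →
        R.map (MulAut.conj g).toMonoidHom ≤ fixer G V := by
      intro g U V hg hU hUV a ha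
      rw [hmemA] at ha
      refine mem_fixer.2 ⟨?_, fun z hz => ?_⟩
      · have := G.mul_mem (G.mul_mem hg (hRG ha)) (G.inv_mem hg)
        simpa [mul_assoc] using this
      · rw [← hUV] at hz
        obtain ⟨u, hu, rfl⟩ := Finset.mem_image.1 hz
        have := congrArg g (mem_fixSet.1 (hU hu) _ ha)
        simpa using this
    have hAmax : ∀ P, P ≤ fixer G (insert y S) → IsPGroup p P → A ≤ P → P = A := by
      intro P hP hPp hle
      have h := hTmax (P.map (MulAut.conj g₀⁻¹).toMonoidHom) ?_ (hPp.map _) ?_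
      · refine le_antisymm (fun a ha => hmemA.2 ?_) hle
        rw [← h, Subgroup.mem_map]
        exact ⟨a, ha, by simp [mul_assoc]⟩
      · rintro _ ⟨a, ha, rfl⟩
        obtain ⟨haG, haS⟩ := mem_fixer.1 (hP ha)
        refine mem_fixer.2 ⟨?_, fun z hz => ?_⟩
        · simpa [mul_assoc] using G.mul_mem (G.mul_mem (G.inv_mem hg₀) haG) hg₀
        · have := haS (g₀ z) (hg₀T ▸ Finset.mem_image_of_mem _ hz)
          simp [this]
      · intro r hr
        exact ⟨g₀ * r * g₀⁻¹, hle (hmemA.2 (by simpa [mul_assoc] using hr)), by simp [mul_assoc]⟩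
    obtain ⟨w₁, hw₁, hw₁'⟩ := exists_conj_of_card (B := R) (hsub hg₀ hTF hg₀T)
      (le_fixer_of_subset hRG (Finset.insert_subset hyF hS)) (hRp.map _) hRp hAmax (hcard g₀).symm
    have hgim : (insert x S).image g = insert y S := by
      rw [Finset.image_insert, hgx]
      congr 1
      exact (Finset.image_congr fun z hz => hgS z hz).trans Finset.image_id'
    obtain ⟨w₂, hw₂, hw₂'⟩ := exists_conj_of_card (hsub hg₀ hTF hg₀T)
      (hsub hg (Finset.insert_subset hxF hS) hgim) (hRp.map _) (hRp.map _) hAmax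
      ((hcard g).trans (hcard g₀).symm)
    obtain ⟨hw₁G, hw₁S⟩ := mem_fixer.1 hw₁
    obtain ⟨hw₂G, hw₂S⟩ := mem_fixer.1 hw₂
    have hw₂i : ∀ z ∈ insert y S, w₂⁻¹ z = z := fun z hz => by rw [Perm.inv_eq_iff_eq, hw₂S z hz]
    refine ⟨w₁ * w₂⁻¹ * g, G.mul_mem (G.mul_mem hw₁G (G.inv_mem hw₂G)) hg, fun h => ?_,
      fun z hz => ?_, ?_⟩
    · have e1 : h ∈ R ↔ g * h * g⁻¹ ∈ R.map (MulAut.conj g).toMonoidHom := by
        rw [hmemA]; simp [mul_assoc]
      have e2 := hw₂' (w₂⁻¹ * (g * h * g⁻¹) * w₂)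
      have e3 := hw₁' (w₂⁻¹ * (g * h * g⁻¹) * w₂)
      rw [show w₂ * (w₂⁻¹ * (g * h * g⁻¹) * w₂) * w₂⁻¹ = g * h * g⁻¹ by group] at e2
      rw [e1, ← e2, e3, show w₁ * (w₂⁻¹ * (g * h * g⁻¹) * w₂) * w₁⁻¹ =
        w₁ * w₂⁻¹ * g * h * (w₁ * w₂⁻¹ * g)⁻¹ by group]
    · rw [Perm.mul_apply, hgS z hz, Perm.mul_apply, hw₂i z (Finset.mem_insert_of_mem hz),
        hw₁S z (Finset.mem_insert_of_mem hz)]
    · rw [Perm.mul_apply, hgx, Perm.mul_apply, hw₂i y (Finset.mem_insert_self _ _),
        hw₁S y (Finset.mem_insert_self _ _)]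
  · -- Gleason's argument
    push Not at hsyl
    have hu : ∀ T : Finset α, T ⊆ fixSet R → T.card = k → ∃ u ∈ G, (∀ h, h ∈ R ↔ u * h * u⁻¹ ∈ R) ∧
        (∃ m : ℕ, u ^ p ^ m = 1) ∧ ∀ z ∈ fixSet R, u z = z ↔ z ∈ T := by
      intro T hTF hTc
      obtain ⟨P, hP, hPp, hRP, hne⟩ := hsyl T hTF hTc
      have hlt : R < P := lt_of_le_of_ne hRP (Ne.symm hne)
      have hPnil : Group.IsNilpotent P := hPp.isNilpotent
      have hR' : R.subgroupOf P < ⊤ := lt_top_iff_ne_top.2 fun h => hlt.not_ge fun a ha => by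
        have h' := h.symm ▸ Subgroup.mem_top (⟨a, ha⟩ : P)
        exact Subgroup.mem_subgroupOf.1 h'
      obtain ⟨u, hu, huR⟩ := SetLike.exists_of_lt (normalizerCondition_of_isNilpotent _ hR')
      rw [Subgroup.mem_normalizer_iff] at hu
      rw [Subgroup.mem_subgroupOf] at huR
      obtain ⟨huG, huT⟩ := mem_fixer.1 (hP u.2)
      refine ⟨u, huG, fun h => ?_, ?_, fun z hz => ⟨fun he => ?_, huT z⟩⟩
      · constructor
        · intro hh
          have := (hu ⟨h, hRP hh⟩).1 (Subgroup.mem_subgroupOf.2 hh)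
          exact Subgroup.mem_subgroupOf.1 this
        · intro hh
          have hh' : h ∈ P := by
            have := P.mul_mem (P.mul_mem (P.inv_mem u.2) (hRP hh)) u.2
            simpa [mul_assoc] using this
          exact Subgroup.mem_subgroupOf.1 ((hu ⟨h, hh'⟩).2 (Subgroup.mem_subgroupOf.2 hh))
      · obtain ⟨m, hm⟩ := hPp u
        exact ⟨m, congrArg Subtype.val hm⟩
      · by_contra hzT
        have hQ : R ⊔ Subgroup.zpowers (u : Perm α) ≤ P :=
          sup_le hRP (Subgroup.zpowers_le.2 u.2)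
        have h1 := hmax _ (hQ.trans (hP.trans inf_le_left)) (hPp.to_le hQ)
          (lt_of_le_of_ne le_sup_left fun e => huR (e ▸ le_sup_right (a := R) (Subgroup.mem_zpowers _)))
        have h2 := Finset.card_le_card (show insert z T ⊆ fixSet (R ⊔ Subgroup.zpowers (u : Perm α)) by
          intro a ha
          have hau : (u : Perm α) a = a ∧ a ∈ fixSet R := by
            rcases Finset.mem_insert.1 ha with rfl | ha
            · exact ⟨he, hz⟩
            · exact ⟨huT a ha, hTF ha⟩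
          refine mem_fixSet.2 fun r hr => ?_
          have hle : R ⊔ Subgroup.zpowers (u : Perm α) ≤ MulAction.stabilizer (Perm α) a :=
            sup_le (fun r hr => mem_fixSet.1 hau.2 r hr) (Subgroup.zpowers_le.2 hau.1)
          exact hle hr)
        rw [Finset.card_insert_of_notMem hzT, hTc] at h2
        omega
    let Z := fixSet R \ S
    let P' : Perm α → Prop := fun g => g ∈ G ∧ (∀ h, h ∈ R ↔ g * h * g⁻¹ ∈ R) ∧ ∀ z ∈ S, g z = z
    have hmul : ∀ f g, P' f → P' g → P' (f * g) := by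
      rintro f g ⟨f1, f2, f3⟩ ⟨g1, g2, g3⟩
      refine ⟨G.mul_mem f1 g1, fun h => ?_, fun z hz => by rw [Perm.mul_apply, g3 z hz, f3 z hz]⟩
      rw [g2 h, f2 (g * h * g⁻¹)]
      simp [mul_assoc]
    let O := Z.filter fun w => ∃ g, P' g ∧ g x = w
    have hxO : x ∈ O := Finset.mem_filter.2
      ⟨hx, 1, ⟨G.one_mem, fun h => by simp, fun _ _ => rfl⟩, rfl⟩
    by_contra hno
    have hyO : y ∉ O := fun h => by
      obtain ⟨-, g, ⟨g1, g2, g3⟩, g4⟩ := Finset.mem_filter.1 h
      exact hno ⟨g, g1, g2, g3, g4⟩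
    have hstab : ∀ z ∈ Z, ∃ (u : Perm α) (m : ℕ), u ^ p ^ m = 1 ∧ (∀ w ∈ O, u w ∈ O) ∧
        (∀ w ∈ O, u w = w ↔ w = z) := by
      intro z hz
      obtain ⟨hzF, hzS⟩ := Finset.mem_sdiff.1 hz
      obtain ⟨u, huG, huR, ⟨m, hm⟩, hufix⟩ := hu (insert z S) (Finset.insert_subset hzF hS)
        (by rw [Finset.card_insert_of_notMem hzS]; exact hSc)
      have huS : ∀ w ∈ S, u w = w := fun w hw => (hufix w (hS hw)).2 (Finset.mem_insert_of_mem hw)
      refine ⟨u, m, hm, fun w hw => ?_, fun w hw => ?_⟩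
      · obtain ⟨hwZ, g, hg, rfl⟩ := Finset.mem_filter.1 hw
        obtain ⟨hwF, hwS⟩ := Finset.mem_sdiff.1 hwZ
        refine Finset.mem_filter.2 ⟨Finset.mem_sdiff.2 ⟨normalizer_apply_mem huR hwF, fun h => hwS ?_⟩,
          u * g, hmul u g ⟨huG, huR, huS⟩ hg, rfl⟩
        rwa [u.injective (huS _ h)] at h
      · obtain ⟨hwF, hwS⟩ := Finset.mem_sdiff.1 (Finset.mem_filter.1 hw).1
        rw [hufix w hwF, Finset.mem_insert]
        simp [hwS]
    obtain ⟨u, m, hm, hO, hfix⟩ := hstab x hx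
    obtain ⟨u', m', hm', hO', hfix'⟩ := hstab y hy
    have h1 := card_modEq_fixed u O hm hO
    have h2 := card_modEq_fixed u' O hm' hO'
    rw [show O.filter (fun w => u w = w) = {x} from Finset.ext fun w => by
      simp only [Finset.mem_filter, Finset.mem_singleton]
      exact ⟨fun ⟨hw, he⟩ => (hfix w hw).1 he, fun he => he ▸ ⟨hxO, (hfix x hxO).2 rfl⟩⟩,
      Finset.card_singleton] at h1
    rw [show O.filter (fun w => u' w = w) = ∅ from Finset.filter_eq_empty_iff.2 fun w hw he =>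
      hyO ((hfix' w hw).1 he ▸ hw), Finset.card_empty] at h2
    have h3 : p ∣ 1 := Nat.modEq_zero_iff_dvd.1 (h1.symm.trans h2)
    exact hp.out.not_dvd_one h3

/-- Existence of a `(k+1)`-set with all even permutations induced. -/
theorem exists_fullAlt_aux : ∀ (n : ℕ) {α : Type*} [Fintype α] [DecidableEq α]
    (G : Subgroup (Perm α)) (k : ℕ), Fintype.card α = n → 4 ≤ k → k < n → Trans G k →
    ∃ Δ : Finset α, Δ.card = k + 1 ∧ FullAlt G Δ := by
  intro n
  induction n using Nat.strong_induction_on with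
  | _ n ih =>
  intro α _ _ G k hn hk hkn hT
  classical
  by_cases hsemi : ∀ g ∈ G, k + 1 ≤ (fix g).card → g = 1
  · exact exists_fullAlt_of_semiregular hT (hn ▸ hkn) hsemi hk
  push Not at hsemi
  obtain ⟨g, hg, hgfix, hg1⟩ := hsemi
  obtain ⟨p, hp, hpd⟩ := Nat.exists_prime_and_dvd (show orderOf g ≠ 1 by simpa using hg1)
  have : Fact p.Prime := ⟨hp⟩
  have hh : orderOf (g ^ (orderOf g / p)) = p := by
    rw [orderOf_pow_of_dvd (Nat.div_pos (Nat.le_of_dvd (orderOf_pos g) hpd) hp.pos).ne'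
      (Nat.div_dvd_of_dvd hpd), Nat.div_div_self hpd (orderOf_pos g).ne']
  have := Fintype.ofFinite (Subgroup (Perm α))
  let C : Finset (Subgroup (Perm α)) := Finset.univ.filter fun R =>
    R ≤ G ∧ IsPGroup p R ∧ R ≠ ⊥ ∧ k + 1 ≤ (fixSet R).card
  have hC : C.Nonempty := by
    refine ⟨Subgroup.zpowers (g ^ (orderOf g / p)), Finset.mem_filter.2 ⟨Finset.mem_univ _,
      Subgroup.zpowers_le.2 (G.pow_mem hg _), ?_, ?_, ?_⟩⟩
    · exact IsPGroup.of_card (n := 1) (by rw [Nat.card_zpowers, hh, pow_one])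
    · rw [Ne, Subgroup.zpowers_eq_bot, ← orderOf_eq_one_iff, hh]
      exact hp.one_lt.ne'
    · refine hgfix.trans (Finset.card_le_card fun x hx => mem_fixSet.2 fun r hr => ?_)
      have hle : Subgroup.zpowers (g ^ (orderOf g / p)) ≤ MulAction.stabilizer (Perm α) x :=
        Subgroup.zpowers_le.2 (pow_mem (show g ∈ MulAction.stabilizer (Perm α) x from mem_fix.1 hx) _)
      exact hle hr
  obtain ⟨R, hR, hRmax⟩ := Finset.exists_max_image C (fun R => Nat.card R) hC
  simp only [C, Finset.mem_filter, Finset.mem_univ, true_and] at hR hRmax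
  obtain ⟨hRG, hRp, hRne, hRfix⟩ := hR
  have hmax : ∀ P, P ≤ G → IsPGroup p P → R < P → (fixSet P).card ≤ k := by
    intro P hP hPp hlt
    by_contra h
    have := hRmax P ⟨hP, hPp, fun e => hlt.not_ge (e ▸ bot_le), by omega⟩
    exact hlt.ne (Subgroup.eq_of_le_of_card_ge hlt.le this)
  let F := fixSet R
  have hFn : Fintype.card {x // x ∈ F} < n := by
    rw [Fintype.card_coe, ← hn, ← Finset.card_univ]
    refine Finset.card_lt_card (Finset.ssubset_univ_iff.2 fun e => hRne ?_)
    rw [Subgroup.eq_bot_iff_forall]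
    exact fun r hr => Equiv.ext fun x => mem_fixSet.1 (show x ∈ fixSet R by rw [show fixSet R = Finset.univ from e]; exact Finset.mem_univ x) r hr
  -- the normaliser
  let N : Subgroup (Perm α) := G ⊓ Subgroup.normalizer (R : Set (Perm α))
  let M : Subgroup (Perm {x // x ∈ F}) := (ind N F).comap Perm.ofSubtype
  have hMT : Trans M k := by
    refine trans_of_fixer_transitive (by rw [Fintype.card_coe]; exact hRfix) fun S hS x y hx hy => ?_
    obtain ⟨u, huG, huR, huS, hux⟩ := normalizer_transitive hT hRG hRp hmax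
      (S := S.image Subtype.val) (fun z hz => by
        obtain ⟨z, -, rfl⟩ := Finset.mem_image.1 hz; exact z.2)
      (by rw [Finset.card_image_of_injective _ Subtype.val_injective]; exact hS)
      (x := x) (y := y) (Finset.mem_sdiff.2 ⟨x.2, by simpa using hx⟩)
      (Finset.mem_sdiff.2 ⟨y.2, by simpa using hy⟩)
    have hpres : ∀ z, u z ∈ F ↔ z ∈ F := fun z => by
      constructor
      · intro hz
        have hinv : ∀ h, h ∈ R ↔ u⁻¹ * h * u⁻¹⁻¹ ∈ R := fun h => by
          rw [huR (u⁻¹ * h * u⁻¹⁻¹)]; simp [mul_assoc]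
        simpa using normalizer_apply_mem hinv hz
      · exact normalizer_apply_mem huR
    refine ⟨u.subtypePerm hpres, mem_fixer.2 ⟨?_, fun z hz => Subtype.ext ?_⟩, Subtype.ext hux⟩
    · exact ⟨fun z hz => ofSubtype_mem_supp _ z hz, u,
        ⟨huG, Subgroup.mem_normalizer_iff.2 huR⟩, fun z hz => by
          rw [Perm.ofSubtype_apply_of_mem _ hz]; rfl⟩
    · exact huS z (Finset.mem_image_of_mem _ hz)
  obtain ⟨Δ', hΔ', hfull⟩ := ih _ hFn M k rfl hk (by rw [Fintype.card_coe]; exact hRfix) hMT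
  refine ⟨Δ'.image Subtype.val, by rw [Finset.card_image_of_injective _ Subtype.val_injective, hΔ'],
    fun σ hσ hs => ⟨hσ, ?_⟩⟩
  have hsupp : ∀ z, σ z ≠ z → z ∈ F := fun z hz => by
    by_contra h
    refine hz (hσ z fun h' => h ?_)
    obtain ⟨w, -, rfl⟩ := Finset.mem_image.1 h'
    exact w.2
  have hpres : ∀ z, σ z ∈ F ↔ z ∈ F := fun z =>
    apply_mem_iff_of_supp (fun w hw => by by_contra h; exact hw (hsupp w h))
  obtain ⟨-, τ, ⟨-, u, hu, hu'⟩, hτ⟩ := hfull (σ.subtypePerm hpres) (fun z hz => Subtype.ext (hσ z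
    (by simpa using hz))) (by convert (Perm.sign_subtypePerm σ hpres hsupp).trans hs using 3 <;> exact Subsingleton.elim _ _)
  refine ⟨u, hu.1, fun z hz => ?_⟩
  obtain ⟨w, hw, rfl⟩ := Finset.mem_image.1 hz
  rw [hu' w w.2, Perm.ofSubtype_apply_coe, hτ w hw]
  rfl

/-- A `k`-transitive group with `4 ≤ k < n` induces all even permutations on some `(k+1)`-set. -/
theorem exists_fullAlt {G : Subgroup (Perm α)} {k : ℕ} (hk : 4 ≤ k) (hkn : k < Fintype.card α)
    (hT : Trans G k) : ∃ Δ : Finset α, Δ.card = k + 1 ∧ FullAlt G Δ :=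
  exists_fullAlt_aux _ G k rfl hk hkn hT

end Cfsg.Agent.Lib.Homogeneous
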