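import Cfsg.Agent.Lib.Homogeneous.Moment

/-!
# Tools for the exceptional homogeneous groups
-/

set_option autoImplicit false

namespace Cfsg.Agent.Lib.Homogeneous

open Equiv

variable {α : Type*} [Fintype α] [DecidableEq α] {G : Subgroup (Perm α)}

theorem trans_top (k : ℕ) : Trans (⊤ : Subgroup (Perm α)) k := fun _ _ _ hf => by
  obtain ⟨τ, hτ⟩ := exists_perm_eq_on hf
  exact ⟨τ, Subgroup.mem_top _, hτ⟩

theorem eq_alternating_of_card [Nontrivial α]
    (h : 2 * Nat.card G = (Fintype.card α).factorial) : G = alternatingGroup α :=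
  Perm.eq_alternatingGroup_of_index_eq_two (Nat.eq_of_mul_eq_mul_left (Nat.card_pos (α := G)) (by
    rw [Subgroup.card_mul_index, Nat.card_perm, Nat.card_eq_fintype_card, ← h, mul_comm]))

/-- An involution fixing `T` induces a transposition on `T + x + i x`. -/
theorem swap_mem_ind_of_involution {i : Perm α} (hi : i ∈ G) (hii : i * i = 1) {T : Finset α}
    (hT : ∀ t ∈ T, i t = t) {x : α} (hx : i x ≠ x) :
    swap x (i x) ∈ ind G (insert x (insert (i x) T)) ∧
      (insert x (insert (i x) T)).card = T.card + 2 := by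
  have hxT : x ∉ T := fun h => hx (hT x h)
  have hixT : i x ∉ T := fun h => hx (i.injective (hT _ h))
  refine ⟨⟨fun y hy => ?_, i, hi, fun y hy => ?_⟩, ?_⟩
  · simp only [Finset.mem_insert, not_or] at hy
    exact swap_apply_of_ne_of_ne hy.1 hy.2.1
  · simp only [Finset.mem_insert] at hy
    rcases hy with rfl | rfl | hy
    · rw [swap_apply_left]
    · rw [swap_apply_right, inv_apply_self hii]
    · rw [swap_apply_of_ne_of_ne (fun e => hxT (by rw [← e]; exact hy))
        (fun e => hixT (by rw [← e]; exact hy)), hT y hy]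
  · rw [Finset.card_insert_of_notMem (by simp [hxT, Ne.symm hx]),
      Finset.card_insert_of_notMem hixT]

omit [Fintype α] in
theorem exists_involution {H : Subgroup (Perm α)} [Finite H] (h : Even (Nat.card H)) :
    ∃ i ∈ H, i * i = 1 ∧ ∃ x, i x ≠ x := by
  have : Fact (Nat.Prime 2) := ⟨Nat.prime_two⟩
  obtain ⟨i, hi⟩ := exists_prime_orderOf_dvd_card' (G := H) 2 (even_iff_two_dvd.1 h)
  refine ⟨i, i.2, ?_, ?_⟩
  · rw [← Subgroup.coe_mul, ← pow_two, ← hi, pow_orderOf_eq_one]; rfl
  · by_contra! hc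
    have : (i : Perm α) = 1 := Equiv.ext hc
    rw [← Subgroup.orderOf_coe, this, orderOf_one] at hi
    omega

theorem card_dvd_factorial_of_supp {H : Subgroup (Perm α)} (Δ : Finset α)
    (h : ∀ σ ∈ H, ∀ x, x ∉ Δ → σ x = x) : Nat.card H ∣ Δ.card.factorial := by
  have hle : H ≤ (Perm.ofSubtype : Perm {x // x ∈ Δ} →* Perm α).range := fun σ hσ =>
    ⟨σ.subtypePerm fun x => apply_mem_iff_of_supp (h σ hσ),
      Perm.ofSubtype_subtypePerm _ fun x hx => by by_contra h'; exact hx (h σ hσ x h')⟩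
  have := Subgroup.card_dvd_of_le hle
  rwa [← Nat.card_congr (MonoidHom.ofInjective Perm.ofSubtype_injective).toEquiv, Nat.card_perm,
    Nat.card_eq_finsetCard] at this

/-- An induced group of half the symmetric order consists of the even permutations. -/
theorem sign_of_mem_ind {Δ : Finset α} (hΔ : 2 ≤ Δ.card)
    (h : 2 * Nat.card (ind G Δ) = Δ.card.factorial) {σ : Perm α} (hσ : σ ∈ ind G Δ) :
    Perm.sign σ = 1 := by
  classical
  have : Nontrivial {x // x ∈ Δ} := Finset.one_lt_card_iff_nontrivial.1 (by omega) |>.coe_sort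
  let ι : Perm {x // x ∈ Δ} →* Perm α := Perm.ofSubtype
  have hle : ind G Δ ≤ ι.range := by
    rintro τ ⟨hτ, -⟩
    exact ⟨τ.subtypePerm fun x => apply_mem_iff_of_supp hτ,
      Perm.ofSubtype_subtypePerm _ fun x hx => by by_contra h; exact hx (hτ x h)⟩
  have hK : Nat.card ((ind G Δ).comap ι) = Nat.card (ind G Δ) := by
    rw [← Subgroup.card_map_of_injective (K := (ind G Δ).comap ι) Perm.ofSubtype_injective,
      Subgroup.map_comap_eq, inf_eq_right.2 hle]
  have halt : (ind G Δ).comap ι = alternatingGroup {x // x ∈ Δ} := eq_alternating_of_card (by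
    rw [hK, h, Fintype.card_coe])
  obtain ⟨τ, rfl⟩ := hle hσ
  have : τ ∈ (ind G Δ).comap ι := hσ
  rw [halt, Perm.mem_alternatingGroup] at this
  rw [Perm.sign_ofSubtype, this]

theorem orderOf_dvd_card_ind {Δ : Finset α} {σ : Perm α} (h : σ ∈ ind G Δ) :
    orderOf σ ∣ Nat.card (ind G Δ) := by
  have := orderOf_dvd_natCard (⟨σ, h⟩ : ind G Δ)
  rwa [Subgroup.orderOf_mk] at this

/-- The restriction to an invariant set is induced. -/
theorem restrict_mem_ind {g : Perm α} (hg : g ∈ G) {Δ : Finset α} (h : ∀ x, g x ∈ Δ ↔ x ∈ Δ) :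
    Perm.ofSubtype (g.subtypePerm h) ∈ ind G Δ :=
  ⟨fun x hx => ofSubtype_mem_supp _ x hx, g, hg, fun x hx => by
    rw [Perm.ofSubtype_apply_of_mem _ hx]; rfl⟩

theorem mem_iff_of_mapsTo {g : Perm α} {Δ : Finset α} (h : ∀ x ∈ Δ, g x ∈ Δ) (x : α) :
    g x ∈ Δ ↔ x ∈ Δ := by
  refine ⟨fun hx => ?_, h x⟩
  have hsub : Δ.image g ⊆ Δ := fun y hy => by
    obtain ⟨z, hz, rfl⟩ := Finset.mem_image.1 hy
    exact h z hz
  rw [← Finset.eq_of_subset_of_card_le hsub (by rw [Finset.card_image_of_injective _ g.injective]),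
    g.injective.mem_finset_image] at hx
  exact hx

end Cfsg.Agent.Lib.Homogeneous
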