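import Cfsg.Agent.Lib.Homogeneous.PairGraph

/-!
# Homogeneous groups: `k = 5`
-/

set_option autoImplicit false

namespace Cfsg.Agent.Lib.Homogeneous

open Equiv

variable {α : Type*} [Fintype α] [DecidableEq α] {G : Subgroup (Perm α)}

/-- With induced groups of order six, every involution is a transposition. -/
theorem lw_five_six (hT : Trans G 3) (heven : Even (Nat.card G))
    (he : ∀ Δ : Finset α, Δ.card = 4 → Nat.card (ind G Δ) = 6) : G = ⊤ := by
  classical
  obtain ⟨i, hi, hii, x, hx⟩ := exists_involution heven
  by_cases hy : ∃ y, y ≠ x ∧ y ≠ i x ∧ i y ≠ y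
  · exfalso
    obtain ⟨y, hyx, hyix, hy⟩ := hy
    have hΔ : ({x, i x, y, i y} : Finset α).card = 4 := Finset.card_eq_four.2
      ⟨x, i x, y, i y, Ne.symm hx, Ne.symm hyx,
        fun e => hyix (by rw [e]; exact (inv_apply_self hii y).symm), Ne.symm hyix,
        fun e => hyx (i.injective e).symm, Ne.symm hy, rfl⟩
    set Δ : Finset α := {x, i x, y, i y} with hΔdef
    have hpres : ∀ z, i z ∈ Δ ↔ z ∈ Δ := mem_iff_of_mapsTo fun z hz => by
      simp only [hΔdef, Finset.mem_insert, Finset.mem_singleton] at hz ⊢
      rcases hz with rfl | rfl | rfl | rfl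
      · tauto
      · exact Or.inl (inv_apply_self hii x)
      · tauto
      · exact Or.inr (Or.inr (Or.inl (inv_apply_self hii y)))
    set v := Perm.ofSubtype (i.subtypePerm hpres)
    have hv : v ∈ ind G Δ := restrict_mem_ind hi hpres
    have hvval : ∀ z ∈ Δ, v z = i z := fun z hz => by
      change Perm.ofSubtype _ z = _
      rw [Perm.ofSubtype_apply_of_mem _ hz]; rfl
    have hvfpf : ∀ z ∈ Δ, v z ≠ z := by
      intro z hz
      rw [hvval z hz]
      simp only [hΔdef, Finset.mem_insert, Finset.mem_singleton] at hz
      rcases hz with rfl | rfl | rfl | rfl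
      · exact hx
      · rw [inv_apply_self hii]; exact Ne.symm hx
      · exact hy
      · rw [inv_apply_self hii]; exact Ne.symm hy
    have : Fact (Nat.Prime 3) := ⟨Nat.prime_three⟩
    obtain ⟨t, ht⟩ := exists_prime_orderOf_dvd_card' (G := ind G Δ) 3 (by rw [he Δ hΔ]; norm_num)
    have hidx : (Subgroup.zpowers t).index = 2 := by
      have := Subgroup.index_mul_card (Subgroup.zpowers t)
      rw [he Δ hΔ, Nat.card_zpowers, ht] at this
      omega
    have := Subgroup.normal_of_index_eq_two hidx
    have hmem := this.conj_mem t (Subgroup.mem_zpowers t) ⟨v, hv⟩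
    have ht3 : orderOf (t : Perm α) = 3 := by rw [Subgroup.orderOf_coe, ht]
    have hcyc : (t : Perm α).IsThreeCycle := by
      rw [← card_support_eq_three_iff]
      have hsub : (t : Perm α).support ⊆ Δ := fun z hz => by
        by_contra h
        exact (Perm.mem_support.1 hz) (t.2.1 z h)
      have h1 := Finset.card_le_card hsub
      have h2 : 3 ∣ (t : Perm α).support.card := by
        rw [← Perm.sum_cycleType, Perm.cycleType_of_pow_prime_eq_one (p := 3)
          (by rw [← ht3]; exact pow_orderOf_eq_one _), Multiset.sum_replicate]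
        exact Dvd.intro_left _ rfl
      have h3 : (t : Perm α).support.card ≠ 0 := by
        rw [Ne, Finset.card_eq_zero, Perm.support_eq_empty_iff]
        intro e
        rw [e, orderOf_one] at ht3
        omega
      omega
    obtain ⟨p, hp, hpt⟩ := Finset.exists_mem_notMem_of_card_lt_card
      (s := (t : Perm α).support) (t := Δ) (by rw [hcyc.card_support, hΔ]; omega)
    rw [Perm.notMem_support] at hpt
    obtain ⟨m, hm⟩ := hmem
    have hm' : (t : Perm α) ^ m = v * (t : Perm α) * v⁻¹ := congrArg Subtype.val hm
    have hstab : (t : Perm α) ^ m ∈ MulAction.stabilizer (Perm α) p := zpow_mem hpt m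
    rw [hm'] at hstab
    have h4 : v ((t : Perm α) (v⁻¹ p)) = p := hstab
    have h5 : (t : Perm α) (v⁻¹ p) = v⁻¹ p := by
      rw [Perm.eq_inv_iff_eq]; exact h4
    have hq : v⁻¹ p ∈ Δ := by
      rw [← apply_mem_iff_of_supp hv.1]
      rw [Perm.coe_inv, Equiv.apply_symm_apply]; exact hp
    have h6 : v⁻¹ p = p := by
      by_contra hne
      have hsub : (t : Perm α).support ⊆ Δ \ {p, v⁻¹ p} := fun z hz => by
        simp only [Finset.mem_sdiff, Finset.mem_insert, Finset.mem_singleton, not_or]
        refine ⟨by by_contra h; exact (Perm.mem_support.1 hz) (t.2.1 z h), fun e => ?_, fun e => ?_⟩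
        · exact (Perm.mem_support.1 hz) (by rw [e]; exact hpt)
        · exact (Perm.mem_support.1 hz) (by rw [e]; exact h5)
      have := Finset.card_le_card hsub
      rw [hcyc.card_support, Finset.card_sdiff_of_subset (Finset.insert_subset hp (Finset.singleton_subset_iff.2 hq)),
        Finset.card_pair (Ne.symm hne), hΔ] at this
      omega
    exact hvfpf p hp (Perm.inv_eq_iff_eq.1 h6).symm
  · push Not at hy
    have hsw : i = swap x (i x) := Equiv.ext fun z => by
      rcases eq_or_ne z x with rfl | hzx
      · rw [swap_apply_left]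
      rcases eq_or_ne z (i x) with rfl | hzx'
      · rw [swap_apply_right, inv_apply_self hii]
      rw [swap_apply_of_ne_of_ne hzx hzx', hy z hzx hzx']
    exact Perm.subgroup_eq_top_of_isPreprimitive_of_isSwap_mem
      (MulAction.isPreprimitive_of_is_two_pretransitive (mult_of_trans (hT.mono (by norm_num))))
      i ⟨x, i x, Ne.symm hx, hsw⟩ hi

set_option maxHeartbeats 1000000 in
theorem lw_five (hT : Trans G 3) (hnt : ¬ Trans G 4) (hn : 5 ≤ Fintype.card α)
    (hh1 : MulAction.IsPretransitive G (Set.powersetCard α 4))
    (hh : MulAction.IsPretransitive G (Set.powersetCard α 5)) :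
    (Fintype.card α = 5 ∧ G = alternatingGroup α) ∨
      (Fintype.card α = 6 ∧ Nat.card G = 120) ∨
      (Fintype.card α = 9 ∧ (Nat.card G = 504 ∨ Nat.card G = 1512)) := by
  classical
  obtain ⟨r, D, X, e, hr, hD, hre, hnD, hX, he, horb, hG⟩ := moment hT hnt hn hh1 hh
  have hf2 : (3 + 1).factorial = 24 := rfl
  have hf3 : (3 + 2).factorial = 120 := rfl
  rw [hf2] at hre
  rw [hf3] at hX
  set n := Fintype.card α with hndef
  obtain ⟨S, -, hS⟩ := Finset.exists_subset_card_eq (s := (Finset.univ : Finset α)) (n := 3)
    (by rw [Finset.card_univ]; omega)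
  obtain ⟨y, hy⟩ := Finset.card_pos.1 (show 0 < (Finset.univ \ S).card by
    rw [Finset.card_sdiff_of_subset (Finset.subset_univ _), Finset.card_univ]; omega)
  have hyS := (Finset.mem_sdiff.1 hy).2
  have hcard3 : Nat.card G = n.descFactorial 3 * Nat.card (fixer G S) := card_eq_desc_mul hT hS
  have hD1 : D = 1 → Nat.card G = n.descFactorial 3 := by
    rintro rfl
    rw [hcard3, fixer_eq_bot_of_orb_card_one fun x hx => horb S hS x hx, Subgroup.card_bot, mul_one]
  have heven : Even (Nat.card G) := by
    rw [hcard3, Nat.descFactorial_eq_factorial_mul_choose]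
    exact ((show Even (Nat.factorial 3) by decide).mul_right _).mul_right _
  -- the induced groups have even order
  have he2 : Even e := by
    obtain ⟨i, hi, hii, x, hx⟩ := exists_involution heven
    have key : ∀ (Δ : Finset α), Δ.card = 4 → x ∈ Δ → ∀ h : (∀ z, i z ∈ Δ ↔ z ∈ Δ), Even e := by
      intro Δ hΔ hxΔ hpres
      have hmem := restrict_mem_ind hi hpres
      have h1 := orderOf_dvd_card_ind hmem
      rw [he Δ hΔ] at h1
      have : Fact (Nat.Prime 2) := ⟨Nat.prime_two⟩
      rw [orderOf_eq_prime (p := 2) (by
        rw [pow_two, ← map_mul]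
        convert map_one (Perm.ofSubtype : Perm {x // x ∈ Δ} →* Perm α)
        exact Equiv.ext fun z => Subtype.ext (inv_apply_self hii z)) (fun e' => hx (by
          have := Equiv.congr_fun e' x
          rwa [Perm.ofSubtype_apply_of_mem _ hxΔ] at this))] at h1
      exact even_iff_two_dvd.2 h1
    by_cases hy' : ∃ y, y ≠ x ∧ y ≠ i x ∧ i y ≠ y
    · obtain ⟨y', hyx, hyix, hy'⟩ := hy'
      refine key {x, i x, y', i y'} (Finset.card_eq_four.2
        ⟨x, i x, y', i y', Ne.symm hx, Ne.symm hyx,
          fun e' => hyix (by rw [e']; exact (inv_apply_self hii y').symm), Ne.symm hyix,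
          fun e' => hyx (i.injective e').symm, Ne.symm hy', rfl⟩) (by simp)
        (mem_iff_of_mapsTo fun z hz => ?_)
      simp only [Finset.mem_insert, Finset.mem_singleton] at hz ⊢
      rcases hz with rfl | rfl | rfl | rfl
      · tauto
      · exact Or.inl (inv_apply_self hii x)
      · tauto
      · exact Or.inr (Or.inr (Or.inl (inv_apply_self hii y')))
    · push Not at hy'
      obtain ⟨T, hTsub, hTc⟩ := Finset.exists_subset_card_eq
        (s := (Finset.univ \ {x, i x} : Finset α)) (n := 2) (by
          rw [Finset.card_sdiff_of_subset (Finset.subset_univ _), Finset.card_univ,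
            Finset.card_pair (Ne.symm hx)]
          omega)
      have hTfix : ∀ z ∈ T, i z = z := fun z hz => by
        have h1 := hTsub hz
        simp only [Finset.mem_sdiff, Finset.mem_univ, true_and, Finset.mem_insert,
          Finset.mem_singleton, not_or] at h1
        exact hy' z h1.1 h1.2
      refine key (insert x (insert (i x) T)) ?_ (Finset.mem_insert_self _ _)
        (mem_iff_of_mapsTo fun z hz => ?_)
      · rw [(swap_mem_ind_of_involution hi hii hTfix hx).2, hTc]
      · simp only [Finset.mem_insert] at hz ⊢
        rcases hz with rfl | rfl | hz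
        · tauto
        · exact Or.inl (inv_apply_self hii x)
        · exact Or.inr (Or.inr (by rw [hTfix z hz]; exact hz))
  have hrle := Nat.le_of_dvd (by omega) (Dvd.intro e hre)
  obtain ⟨e', rfl⟩ := even_iff_two_dvd.1 he2
  interval_cases r
  all_goals try (exfalso; omega)
  · -- `r = 2`: no transpositions
    have hDs : D = 1 ∨ D = 2 ∨ D = 3 ∨ D = 8 := by
      rcases Nat.lt_or_ge X 30 with h | h
      · interval_cases X <;> omega
      · have h2 : 2 * (2 * D - 1) * 30 ≤ 2 * (2 * D - 1) * X := Nat.mul_le_mul_left _ h
        omega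
    have hno : ∀ {Δ : Finset α}, Δ.card = 4 → ∀ {u v : α}, u ≠ v → swap u v ∉ ind G Δ := by
      intro Δ hΔ u v huv h
      have := sign_of_mem_ind (by omega) (by rw [he Δ hΔ, hΔ]; change 2 * (2 * e') = 24; omega) h
      rw [Perm.sign_swap huv] at this
      exact absurd this (by decide)
    have hnoinv : ∀ i ∈ G, i * i = 1 → ∀ T : Finset α, T.card = 2 → (∀ t ∈ T, i t = t) → i = 1 := by
      intro i hi hii T hT2 hfix
      refine Equiv.ext fun z => ?_
      by_contra hz
      obtain ⟨hs, hc⟩ := swap_mem_ind_of_involution hi hii hfix hz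
      exact hno (by rw [hc, hT2]) (Ne.symm hz) hs
    by_cases hD3 : D = 3
    · right; right
      refine ⟨by omega, Or.inr ?_⟩
      subst hD3
      have hn9 : n = 9 := by omega
      obtain ⟨a, b, c, hab, hac, hbc, rfl⟩ := Finset.card_eq_three.1 hS
      have htriv : fixer G (insert y ({a, b, c} : Finset α)) = ⊥ := by
        refine (Subgroup.eq_bot_iff_forall _).2 fun g hg => ?_
        obtain ⟨hgG, hgS⟩ := mem_fixer.1 hg
        have hodd : Odd (orderOf g) := by
          by_contra hev
          rw [Nat.not_odd_iff_even] at hev
          obtain ⟨m, hm⟩ := hev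
          have h1 : g ^ m * g ^ m = 1 := by rw [← pow_add, ← hm, pow_orderOf_eq_one]
          have hm0 : 0 < m := by have := orderOf_pos g; omega
          exact pow_ne_one_of_lt_orderOf (by omega) (by omega)
            (hnoinv _ (G.pow_mem hgG m) h1 {a, b} (Finset.card_pair hab) fun t ht => by
              have h2 : g ∈ MulAction.stabilizer (Perm α) t := hgS t (by
                simp only [Finset.mem_insert, Finset.mem_singleton] at ht ⊢; tauto)
              exact (MulAction.stabilizer (Perm α) t).pow_mem h2 m)
        have hgf : g ∈ fixer G {a, b, c} := fixer_anti (Finset.subset_insert _ _) hg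
        set O := orb G {a, b, c} y
        have hOc : O.card = 3 := horb _ hS y hyS
        have hOinv : ∀ z w, w ∈ orb G {a, b, c} z → g w ∈ orb G {a, b, c} z := fun z w hw => by
          obtain ⟨h, hh, rfl⟩ := mem_orb.1 hw
          exact mem_orb.2 ⟨g * h, mul_mem hgf hh, rfl⟩
        have hgy : g y = y := hgS y (Finset.mem_insert_self _ _)
        have hfixO : ∀ w ∈ O, g w = w := by
          intro w hw
          by_contra hne
          have hwy : w ≠ y := fun e => hne (by rw [e]; exact hgy)
          have hgwy : g w ≠ y := fun e => hwy (g.injective (e.trans hgy.symm))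
          have hO3 : O = {y, w, g w} := (Finset.eq_of_subset_of_card_le
            (by simp only [Finset.insert_subset_iff, Finset.singleton_subset_iff]
                exact ⟨self_mem_orb _ _, hw, hOinv y w hw⟩)
            (by rw [hOc, Finset.card_eq_three.2 ⟨y, w, g w, hwy.symm, hgwy.symm, Ne.symm hne, rfl⟩])).symm
          have h4 := hOinv y (g w) (hOinv y w hw)
          change g (g w) ∈ O at h4
          rw [hO3] at h4
          simp only [Finset.mem_insert, Finset.mem_singleton] at h4
          rcases h4 with e | e | e
          · exact hgwy (g.injective (e.trans hgy.symm))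
          · obtain ⟨l, hl⟩ := hodd
            have h2 : g ^ 2 ∈ MulAction.stabilizer (Perm α) w := by
              change (g ^ 2) w = w
              rw [pow_two, Perm.mul_apply, e]
            have h3 := (MulAction.stabilizer (Perm α) w).pow_mem h2 (l + 1)
            rw [← pow_mul, show 2 * (l + 1) = orderOf g + 1 by omega, pow_succ, pow_orderOf_eq_one,
              one_mul] at h3
            exact hne h3
          · exact hne (g.injective e)
        by_contra hg1
        have hsub : g.support ⊆ Finset.univ \ ({a, b, c} ∪ O) := fun z hz => by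
          rw [Perm.mem_support] at hz
          simp only [Finset.mem_sdiff, Finset.mem_univ, true_and, Finset.mem_union, not_or]
          exact ⟨fun h => hz (hgS z (Finset.mem_insert_of_mem h)), fun h => hz (hfixO z h)⟩
        have hsc := Finset.card_le_card hsub
        rw [Finset.card_sdiff_of_subset (Finset.subset_univ _), Finset.card_univ,
          Finset.card_union_of_disjoint (Finset.disjoint_left.2 fun z hz hz' =>
            (Finset.mem_sdiff.1 (orb_subset hyS hz')).2 hz), hS, hOc, ← hndef, hn9] at hsc
        have hs2 : 2 ≤ g.support.card := Perm.two_le_card_support_of_ne_one hg1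
        have hs3 : g.support.card = 3 := by
          rcases (show g.support.card = 2 ∨ g.support.card = 3 by omega) with h | h
          · exfalso
            have h2 : g.IsSwap := Perm.card_support_eq_two.1 h
            obtain ⟨u, v, huv, rfl⟩ := h2
            have ho : orderOf (swap u v) = 2 := by
              have : Fact (Nat.Prime 2) := ⟨Nat.prime_two⟩
              exact orderOf_eq_prime (by rw [pow_two, swap_mul_self]) hg1
            rw [ho] at hodd
            exact absurd hodd (by decide)
          · exact h
        have hA := Perm.alternatingGroup_le_of_isPreprimitive_of_isThreeCycle_mem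
          (MulAction.isPreprimitive_of_is_two_pretransitive (mult_of_trans (hT.mono (by norm_num))))
          (card_support_eq_three_iff.1 hs3) hgG
        refine hnt ?_
        have h7 : MulAction.IsMultiplyPretransitive (alternatingGroup α) α 4 := by
          have := alternatingGroup.isMultiplyPretransitive α
          refine MulAction.isMultiplyPretransitive_of_le (n := Nat.card α - 2) ?_ ?_
          · rw [Nat.card_eq_fintype_card, ← hndef, hn9]; norm_num
          · simp
        intro S' f hS' hf
        obtain ⟨g', hg', hg''⟩ := trans_of_mult (by omega) h7 S' f hS' hf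
        exact ⟨g', hA hg', hg''⟩
      rw [hcard3, card_fixer_eq_orb_mul _ y, horb _ hS y hyS, htriv, Subgroup.card_bot, hn9]
      rfl
    · by_cases hD1' : D = 1
      · left
        have hcard : n = 5 := by omega
        have : Nontrivial α := Fintype.one_lt_card_iff_nontrivial.1 (by omega)
        refine ⟨hcard, eq_alternating_of_card ?_⟩
        rw [hD1 hD1', ← hndef, hcard]
        rfl
      exfalso
      obtain ⟨i, hi, hii, x, hx⟩ := exists_involution (H := fixer G S) (by
        rw [card_fixer_eq_orb_mul S y, horb S hS y hyS]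
        exact (show Even D by rw [Nat.even_iff]; omega).mul_right _)
      obtain ⟨T, hTS, hTc⟩ := Finset.exists_subset_card_eq (s := S) (n := 2) (by omega)
      have := hnoinv i (mem_fixer.1 hi).1 hii T hTc fun t ht => (mem_fixer.1 hi).2 t (hTS ht)
      rw [this] at hx
      exact hx rfl
  · -- `r = 3`: dihedral groups
    have hDs : D = 1 ∨ D = 2 ∨ D = 3 ∨ D = 7 ∨ D = 27 := by
      rcases Nat.lt_or_ge X 14 with h | h
      · interval_cases X <;> omega
      · have h2 : 3 * (3 * D - 1) * 14 ≤ 3 * (3 * D - 1) * X := Nat.mul_le_mul_left _ h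
        omega
    have he8 : ∀ Δ : Finset α, Δ.card = 4 → Nat.card (ind G Δ) = 8 := fun Δ hΔ => by
      rw [he Δ hΔ]; omega
    by_cases hD1' : D = 1
    · right; left
      have hcard : n = 6 := by omega
      exact ⟨hcard, by rw [hD1 hD1', hcard]; rfl⟩
    by_cases hD27 : D = 2 ∨ D = 7
    · exact (no_pair_graph hD27 (by omega) hT (homog_of_pretransitive hh1) he8 horb).elim
    exfalso
    have : Fact (Nat.Prime 3) := ⟨Nat.prime_three⟩
    obtain ⟨t, ht⟩ := exists_prime_orderOf_dvd_card' (G := fixer G S) 3 (by
      rw [card_fixer_eq_orb_mul S y, horb S hS y hyS]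
      exact Dvd.dvd.mul_right (by omega) _)
    obtain ⟨htG, htS⟩ := mem_fixer.1 t.2
    set g : Perm α := (t : Perm α)
    have hg3 : g ^ 3 = 1 := by rw [← ht]; exact congrArg Subtype.val (pow_orderOf_eq_one t)
    obtain ⟨x, hx⟩ : ∃ x, g x ≠ x := by
      by_contra! h
      rw [← Subgroup.orderOf_coe, show (t : Perm α) = 1 from Equiv.ext h, orderOf_one] at ht
      omega
    obtain ⟨a, ha⟩ := Finset.card_pos.1 (show 0 < S.card by omega)
    have hg3x : g (g (g x)) = x := by
      have := Equiv.congr_fun hg3 x
      rwa [pow_succ, pow_succ, pow_one, Perm.mul_apply, Perm.mul_apply] at this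
    have hga := htS a ha
    have hΔ : ({a, x, g x, g (g x)} : Finset α).card = 4 := by
      refine Finset.card_eq_four.2 ⟨a, x, g x, g (g x), ?_, ?_, ?_, Ne.symm hx, ?_, ?_, rfl⟩
      · intro e; exact hx (by rw [← e, hga])
      · intro e
        have h1 : x = a := g.injective (e.symm.trans hga.symm)
        exact hx (by rw [h1]; exact hga)
      · intro e
        have h1 : g x = a := g.injective (e.symm.trans hga.symm)
        have h2 : x = a := g.injective (h1.trans hga.symm)
        exact hx (by rw [h2]; exact hga)
      · intro e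
        apply hx
        conv_rhs => rw [← hg3x, ← e]
      · intro e; exact hx (g.injective e).symm
    have hpres : ∀ z, g z ∈ ({a, x, g x, g (g x)} : Finset α) ↔ z ∈ ({a, x, g x, g (g x)} : Finset α) :=
      mem_iff_of_mapsTo fun z hz => by
        simp only [Finset.mem_insert, Finset.mem_singleton] at hz ⊢
        rcases hz with rfl | rfl | rfl | rfl
        · exact Or.inl hga
        · tauto
        · tauto
        · exact Or.inr (Or.inl hg3x)
    have hmem := restrict_mem_ind htG hpres
    have h1 := orderOf_dvd_card_ind hmem
    rw [orderOf_eq_prime (p := 3) (by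
      rw [← map_pow]
      convert map_one (Perm.ofSubtype : Perm {z // z ∈ ({a, x, g x, g (g x)} : Finset α)} →* Perm α)
      refine Equiv.ext fun z => Subtype.ext ?_
      rw [Perm.subtypePerm_pow]
      exact Equiv.congr_fun hg3 z) (fun e => hx (by
        have := Equiv.congr_fun e x
        rwa [Perm.ofSubtype_apply_of_mem _ (by simp)] at this)), he8 _ hΔ] at h1
    norm_num at h1
  · -- `r = 4`
    exfalso
    have := lw_five_six hT heven fun Δ hΔ => by rw [he Δ hΔ]; omega
    exact hnt (this ▸ trans_top 4)
  · -- `r = 6`
    right; right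
    have hD' : D = 1 := by
      rcases Nat.lt_or_ge X 4 with h | h
      · interval_cases X <;> omega
      · have h2 : 6 * (6 * D - 1) * 4 ≤ 6 * (6 * D - 1) * X := Nat.mul_le_mul_left _ h
        omega
    have hcard : n = 9 := by omega
    exact ⟨hcard, Or.inl (by rw [hD1 hD', hcard]; rfl)⟩
  · -- `r = 12`
    exfalso
    have hD' : D = 1 := by
      rcases Nat.eq_zero_or_pos X with h | h
      · subst h; omega
      · have h2 : 12 * (12 * D - 1) * 1 ≤ 12 * (12 * D - 1) * X := Nat.mul_le_mul_left _ h
        omega
    have hcard : n = 15 := by omega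
    have hGc : Nat.card G = 2730 := by rw [hD1 hD', hcard]; rfl
    obtain ⟨a, ha⟩ := Finset.card_pos.1 (show 0 < S.card by omega)
    set H := fixer G ({a} : Finset α) with hH
    have hHc : Nat.card H = 182 := by
      have := card_eq_desc_mul (hT.mono (by norm_num : 1 ≤ 3)) (Finset.card_singleton a)
      rw [hGc, ← hndef, hcard, show Nat.descFactorial 15 1 = 15 from rfl, ← hH] at this
      omega
    have : Fact (Nat.Prime 7) := ⟨by norm_num⟩
    obtain ⟨P⟩ : Nonempty (Sylow 7 H) := inferInstance
    have hPc : Nat.card (P : Subgroup H) = 7 := by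
      rw [show Nat.card (P : Subgroup H) = Nat.card P from rfl, Sylow.card_eq_multiplicity, hHc,
        Nat.factorization_def _ (by norm_num : Nat.Prime 7), show (182 : ℕ) = 7 * 26 from rfl,
        padicValNat.mul (by norm_num) (by norm_num), padicValNat_self,
        padicValNat.eq_zero_of_not_dvd (show ¬ 7 ∣ 26 by norm_num), add_zero, pow_one]
    have hone : Nat.card (Sylow 7 H) = 1 := by
      have h1 := Sylow.card_dvd_index P
      have h2 := card_sylow_modEq_one 7 H
      have hidx : (P : Subgroup H).index = 26 := by
        have := Subgroup.index_mul_card (P : Subgroup H)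
        rw [hHc, hPc] at this
        omega
      rw [hidx] at h1
      have h3 := Nat.le_of_dvd (by norm_num) h1
      unfold Nat.ModEq at h2
      generalize hs : Nat.card (Sylow 7 H) = s at h1 h2 h3 ⊢
      interval_cases s <;> omega
    have : Subsingleton (Sylow 7 H) := (Nat.card_eq_one_iff_unique.1 hone).1
    have hnorm : (P : Subgroup H).Normal := P.normal_of_subsingleton
    obtain ⟨⟨p, hp⟩, hq⟩ := (Subgroup.ne_bot_iff_exists_ne_one (H := (P : Subgroup H))).1
      (fun e => by rw [e, Subgroup.card_bot] at hPc; omega)
    have hp1 : p ≠ 1 := fun e => hq (Subtype.ext e)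
    obtain ⟨x, hx⟩ : ∃ x, (p : Perm α) x ≠ x := by
      by_contra! h
      exact hp1 (Subtype.ext (Equiv.ext h))
    have hpa : (p : Perm α) a = a := (mem_fixer.1 p.2).2 a (Finset.mem_singleton_self a)
    have hxa : x ≠ a := fun e => hx (by rw [e, hpa])
    have hyx' : (p : Perm α) x ≠ a := fun e => hxa ((p : Perm α).injective (e.trans hpa.symm))
    let := Fintype.ofFinite (P : Subgroup H)
    have hsub : (Finset.univ.erase a) ⊆
        Finset.image (fun q : (P : Subgroup H) => ((q : H) : Perm α) x) Finset.univ := by
      intro z hz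
      rcases eq_or_ne z x with rfl | hzx
      · exact Finset.mem_image.2 ⟨1, Finset.mem_univ _, rfl⟩
      have hza := (Finset.mem_erase.1 hz).1
      obtain ⟨g, hg, hg'⟩ := hT {a, x, (p : Perm α) x}
        (fun w => if w = a then a else if w = x then x else z) Finset.card_le_three (by
          intro u hu v hv e'
          simp only [Finset.coe_insert, Finset.coe_singleton, Set.mem_insert_iff,
            Set.mem_singleton_iff] at hu hv
          rcases hu with rfl | rfl | rfl <;> rcases hv with rfl | rfl | rfl <;>
            simp [hxa, hyx', hx, Ne.symm hxa, Ne.symm hyx', Ne.symm hx, hza, Ne.symm hza, hzx,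
              Ne.symm hzx] at e' ⊢)
      have ga : g a = a := (hg' a (by simp)).trans (if_pos rfl)
      have gx : g x = x := by rw [hg' x (by simp), if_neg hxa, if_pos rfl]
      have gy : g ((p : Perm α) x) = z := by rw [hg' _ (by simp), if_neg hyx', if_neg hx]
      let g' : H := ⟨g, mem_fixer.2 ⟨hg, by simpa using ga⟩⟩
      refine Finset.mem_image.2 ⟨⟨_, hnorm.conj_mem p hp g'⟩, Finset.mem_univ _, ?_⟩
      change (g * (p : Perm α) * g⁻¹) x = z
      rw [Perm.mul_apply, Perm.mul_apply, show g⁻¹ x = x by rw [Perm.inv_eq_iff_eq, gx], gy]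
    have h := (Finset.card_le_card hsub).trans Finset.card_image_le
    rw [Finset.card_erase_of_mem (Finset.mem_univ _), Finset.card_univ, Finset.card_univ, ← hndef,
      ← Nat.card_eq_fintype_card, hPc, hcard] at h
    omega

end Cfsg.Agent.Lib.Homogeneous
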