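import Cfsg.Agent.Lib.Homogeneous.Induced
import Cfsg.Agent.Lib.Homogeneous.LWBasic

/-!
# Homogeneous groups: large `k`
-/

set_option autoImplicit false

namespace Cfsg.Agent.Lib.Homogeneous

open Equiv

variable {α : Type*} [Fintype α] [DecidableEq α] {G : Subgroup (Perm α)}

/-- All `(j+1)`-sets carry exactly the alternating group unless `G` is `(j+1)`-transitive. -/
theorem fullAlt_noSwap_of_not_trans {j : ℕ} (hj : 4 ≤ j) (hn : j < Fintype.card α) (hT : Trans G j)
    (hnt : ¬ Trans G (j + 1)) (hh1 : Homog G (j + 1)) :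
    ∀ Δ : Finset α, Δ.card = j + 1 → FullAlt G Δ ∧ NoSwap G Δ := by
  obtain ⟨Δ₀, hΔ₀, hfull⟩ := exists_fullAlt hj hn hT
  have hall : ∀ Δ : Finset α, Δ.card = j + 1 → FullAlt G Δ := by
    intro Δ hΔ
    obtain ⟨g, hg, rfl⟩ := hh1 Δ₀ Δ hΔ₀ hΔ
    exact hfull.image hg
  refine fun Δ hΔ => ⟨hall Δ hΔ, fun a ha b hb hab hs => hnt ?_⟩
  refine trans_of_ind (by omega) hh1 fun Φ hΦ σ hσ => ?_
  obtain ⟨g, hg, rfl⟩ := hh1 Δ Φ hΔ hΦ
  exact ind_full_of_alt (hall _ hΦ) (Finset.mem_image_of_mem g ha) (Finset.mem_image_of_mem g hb)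
    (g.injective.ne hab) (swap_mem_ind_image hg hs) σ hσ

theorem lw_large {j : ℕ} (hj : 4 ≤ j) (hn : j + 2 ≤ Fintype.card α) (hT : Trans G j)
    (hnt : ¬ Trans G (j + 1)) (hh1 : Homog G (j + 1)) :
    Fintype.card α = j + 2 ∧ G = alternatingGroup α := by
  classical
  have hall := fullAlt_noSwap_of_not_trans hj (by omega) hT hnt hh1
  have hn2 : Fintype.card α = j + 2 := by
    by_contra hne
    exact not_fullAlt_noSwap hj (by omega) hT (fun Δ hΔ => (hall Δ hΔ).1) fun Δ hΔ => (hall Δ hΔ).2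
  refine ⟨hn2, ?_⟩
  have hle : alternatingGroup α ≤ G := by
    rw [← Perm.closure_three_cycles_eq_alternating, Subgroup.closure_le]
    intro σ hσ
    have hσ' : σ.IsThreeCycle := hσ
    obtain ⟨z, -, hz⟩ := Finset.exists_mem_notMem_of_card_lt_card
      (s := σ.support) (t := (Finset.univ : Finset α)) (by
        rw [hσ'.card_support, Finset.card_univ]; omega)
    rw [Perm.notMem_support] at hz
    obtain ⟨-, g, hg, hgσ⟩ := (hall (Finset.univ.erase z) (by
      rw [Finset.card_erase_of_mem (Finset.mem_univ _), Finset.card_univ]; omega)).1 σ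
      (fun x hx => by
        have : x = z := by simpa using hx
        rw [this, hz]) hσ'.sign
    suffices σ = g by rw [this]; exact hg
    refine Equiv.ext fun x => ?_
    by_cases hxz : x = z
    · subst hxz
      rw [hz]
      by_contra hne
      have h1 : g x ∈ Finset.univ.erase x := Finset.mem_erase.2 ⟨Ne.symm hne, Finset.mem_univ _⟩
      have h2 : σ.symm (g x) ∈ Finset.univ.erase x := Finset.mem_erase.2
        ⟨fun e => hne (by rw [Equiv.symm_apply_eq, hz] at e; exact e.symm), Finset.mem_univ _⟩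
      have h3 := hgσ _ h2
      rw [Equiv.apply_symm_apply] at h3
      exact (Finset.mem_erase.1 h2).1 (g.injective h3)
    · exact (hgσ x (Finset.mem_erase.2 ⟨hxz, Finset.mem_univ _⟩)).symm
  have hne : G ≠ ⊤ := fun e => hnt (e ▸ trans_top _)
  have : Nontrivial α := Fintype.one_lt_card_iff_nontrivial.1 (by omega)
  refine Perm.eq_alternatingGroup_of_index_eq_two ?_
  have h1 := Subgroup.index_dvd_of_le hle
  rw [alternatingGroup.index_eq_two] at h1
  rcases (Nat.dvd_prime Nat.prime_two).1 h1 with h | h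
  · exact absurd (Subgroup.index_eq_one.1 h) hne
  · exact h

end Cfsg.Agent.Lib.Homogeneous
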