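import Cfsg.Agent.Lib.Homogeneous.LWBasic

/-!
# Homogeneous groups: `k = 3` and `k = 4`
-/

set_option autoImplicit false

namespace Cfsg.Agent.Lib.Homogeneous

open Equiv

variable {α : Type*} [Fintype α] [DecidableEq α] {G : Subgroup (Perm α)}

theorem fixer_singleton_eq_stabilizer (a : α) :
    fixer G ({a} : Finset α) = G ⊓ MulAction.stabilizer (Perm α) a := by
  ext g
  simp [mem_fixer, MulAction.mem_stabilizer_iff]

theorem lw_three (hT : Trans G 1) (hnt : ¬ Trans G 2) (hn : 3 ≤ Fintype.card α)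
    (hh1 : MulAction.IsPretransitive G (Set.powersetCard α 2))
    (hh : MulAction.IsPretransitive G (Set.powersetCard α 3)) :
    Fintype.card α = 3 ∧ G = alternatingGroup α := by
  obtain ⟨r, D, X, e, hr, hD, hre, hnD, hX, he, horb, hG⟩ := moment hT hnt hn hh1 hh
  have hf2 : (1 + 1).factorial = 2 := rfl
  have hf3 : (1 + 2).factorial = 6 := rfl
  rw [hf2] at hre
  rw [hf3] at hX
  have hr2 : r = 2 := le_antisymm (Nat.le_of_dvd (by omega) ⟨e, hre.symm⟩) hr
  subst hr2
  have he1 : e = 1 := by omega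
  have hX2 : D = 1 ∨ D = 2 := by
    rcases Nat.lt_or_ge X 3 with h | h
    · interval_cases X <;> omega
    · have h2 : 2 * (2 * D - 1) * 3 ≤ 2 * (2 * D - 1) * X := Nat.mul_le_mul_left _ h
      omega
  rcases hX2 with rfl | rfl
  · have hcard : Fintype.card α = 3 := by omega
    have : Nontrivial α := Fintype.one_lt_card_iff_nontrivial.1 (by omega)
    refine ⟨hcard, eq_alternating_of_card ?_⟩
    obtain ⟨a, -⟩ := Finset.card_pos.1 (show 0 < (Finset.univ : Finset α).card by
      rw [Finset.card_univ]; omega)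
    rw [card_eq_desc_mul hT (Finset.card_singleton a),
      fixer_eq_bot_of_orb_card_one (fun x hx => horb _ (Finset.card_singleton a) x hx),
      Subgroup.card_bot, hcard]
    rfl
  · exfalso
    obtain ⟨Δ₀, -, hΔ₀⟩ := Finset.exists_subset_card_eq (s := (Finset.univ : Finset α)) (n := 2)
      (by rw [Finset.card_univ]; omega)
    obtain ⟨i, hi, hii, x, hx⟩ := exists_involution (H := G) (by
      rw [hG Δ₀ hΔ₀]
      exact ((even_two_mul _).mul_left _))
    obtain ⟨hs, hc⟩ := swap_mem_ind_of_involution hi hii (T := ∅) (by simp) hx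
    have h := orderOf_dvd_card_ind hs
    rw [he _ hc, he1, Nat.dvd_one, orderOf_eq_one_iff] at h
    have h' := Equiv.congr_fun h x
    rw [swap_apply_left] at h'
    exact hx h'

/-- The case `n = 11` of `k = 4`. -/
theorem lw_four_eleven (hn : Fintype.card α = 11) (hT : Trans G 2) (hh1 : Homog G 3)
    (hh : Homog G 4) (he : ∀ Δ : Finset α, Δ.card = 3 → Nat.card (ind G Δ) = 2)
    (horb : ∀ S : Finset α, S.card = 2 → ∀ x, x ∉ S → (orb G S x).card = 3) : False := by
  classical
  have : Fact (Nat.Prime 2) := ⟨Nat.prime_two⟩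
  -- every triangle has one apex
  have huniq : ∀ (Δ : Finset α), Δ.card = 3 → ∀ σ τ, σ ∈ ind G Δ → τ ∈ ind G Δ → σ ≠ 1 → τ ≠ 1 →
      σ = τ := by
    intro Δ hΔ σ τ hσ hτ h1 h2
    have hc := he Δ hΔ
    have := (Nat.card_eq_two_iff' (1 : ind G Δ)).1 hc
    exact congrArg Subtype.val (this.unique (y₁ := ⟨σ, hσ⟩) (y₂ := ⟨τ, hτ⟩)
      (fun e => h1 (congrArg Subtype.val e)) fun e => h2 (congrArg Subtype.val e))
  have hswap_ne : ∀ {u v : α}, u ≠ v → swap u v ≠ 1 := fun {u v} h e => h (by
    have := Equiv.congr_fun e u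
    rw [swap_apply_left] at this
    exact this.symm)
  have hexists : ∀ Δ : Finset α, Δ.card = 3 → ∃ u ∈ Δ, ∃ v ∈ Δ, u ≠ v ∧ swap u v ∈ ind G Δ := by
    intro Δ hΔ
    obtain ⟨σ, hσ, hσσ, x, hx⟩ := exists_involution (H := ind G Δ) (by rw [he Δ hΔ]; exact even_two)
    have hxΔ : x ∈ Δ := by by_contra h; exact hx (hσ.1 x h)
    have hσx : σ x ∈ Δ := apply_mem_of_supp hσ.1 hxΔ
    refine ⟨x, hxΔ, σ x, hσx, Ne.symm hx, ?_⟩
    suffices swap x (σ x) = σ by rw [this]; exact hσ
    refine Equiv.ext fun y => ?_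
    rcases eq_or_ne y x with rfl | hyx
    · rw [swap_apply_left]
    rcases eq_or_ne y (σ x) with rfl | hyx'
    · rw [swap_apply_right, inv_apply_self hσσ]
    rw [swap_apply_of_ne_of_ne hyx hyx']
    by_contra hy
    have hyΔ : y ∈ Δ := by by_contra h; exact hy (hσ.1 y h).symm
    have hσy := apply_mem_of_supp hσ.1 hyΔ
    have hsub : ({x, σ x, y, σ y} : Finset α) ⊆ Δ := by
      simp [Finset.insert_subset_iff, hxΔ, hσx, hyΔ, hσy]
    have := Finset.card_le_card hsub
    rw [Finset.card_eq_four.2 ⟨x, σ x, y, σ y, Ne.symm hx, Ne.symm hyx,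
      fun e => hyx' (by rw [e]; exact (inv_apply_self hσσ y).symm), Ne.symm hyx',
      fun e => hyx (σ.injective e).symm, hy, rfl⟩, hΔ] at this
    omega
  -- the graph at a point
  let N : α → α → Finset α := fun a x =>
    Finset.univ.filter fun y => y ≠ a ∧ y ≠ x ∧ swap x y ∈ ind G {a, x, y}
  have hN : ∀ {a x y}, y ∈ N a x ↔ y ≠ a ∧ y ≠ x ∧ swap x y ∈ ind G {a, x, y} := by simp [N]
  have hNsymm : ∀ {a x y}, x ≠ a → y ∈ N a x → x ∈ N a y := fun {a x y} hxa h => by
    rw [hN] at h ⊢
    refine ⟨hxa, h.2.1.symm, ?_⟩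
    rw [swap_comm, Finset.pair_comm y x]
    exact h.2.2
  have hNinv : ∀ {a x y} {g : Perm α}, g ∈ G → y ∈ N a x → g y ∈ N (g a) (g x) := fun hg h => by
    rw [hN] at h ⊢
    refine ⟨(Equiv.injective _).ne h.1, (Equiv.injective _).ne h.2.1, ?_⟩
    have := swap_mem_ind_image hg h.2.2
    simpa [Finset.image_insert] using this
  -- the three kinds of third points for a pair
  let P : α → α → Finset α := fun a x =>
    Finset.univ.filter fun y => y ≠ a ∧ y ≠ x ∧ swap a x ∈ ind G {a, x, y}
  have hP : ∀ {a x y}, y ∈ P a x ↔ y ≠ a ∧ y ≠ x ∧ swap a x ∈ ind G {a, x, y} := by simp [P]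
  have hc3 : ∀ {a x y : α}, a ≠ x → y ≠ a → y ≠ x → ({a, x, y} : Finset α).card = 3 :=
    fun h1 h2 h3 => Finset.card_eq_three.2 ⟨_, _, _, h1, Ne.symm h2, Ne.symm h3, rfl⟩
  obtain ⟨Δ₀, -, hΔ₀⟩ := Finset.exists_subset_card_eq (s := (Finset.univ : Finset α)) (n := 3)
    (by rw [Finset.card_univ]; omega)
  obtain ⟨u, hu, v, hv, huv, hs⟩ := hexists Δ₀ hΔ₀
  obtain ⟨w, hw, hwn⟩ := Finset.exists_mem_notMem_of_card_lt_card
    (s := ({u, v} : Finset α)) (t := Δ₀) (by rw [Finset.card_pair huv]; omega)
  simp only [Finset.mem_insert, Finset.mem_singleton, not_or] at hwn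
  have hΔeq : Δ₀ = {u, v, w} := (Finset.eq_of_subset_of_card_le
    (by simp [Finset.insert_subset_iff, hu, hv, hw]) (by rw [hc3 huv hwn.1 hwn.2, hΔ₀])).symm
  have hmap : ∀ a x s t : α, a ≠ x → s ≠ t → ∃ g ∈ G, g s = a ∧ g t = x := by
    intro a x s t hax hst
    obtain ⟨g, hg, hg'⟩ := hT {s, t} (fun z => if z = s then a else x) Finset.card_le_two (by
      intro p hp q hq e
      simp only [Finset.coe_insert, Finset.coe_singleton, Set.mem_insert_iff,
        Set.mem_singleton_iff] at hp hq
      rcases hp with rfl | rfl <;> rcases hq with rfl | rfl <;>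
        simp only [if_true, if_neg hst.symm] at e <;>
        first | rfl | exact absurd e hax | exact absurd e.symm hax)
    refine ⟨g, hg, (hg' s (by simp)).trans (if_pos rfl), (hg' t (by simp)).trans (if_neg hst.symm)⟩
  have hge : ∀ a x, a ≠ x → ∀ (Q : Finset α),
      (∀ g ∈ fixer G {a, x}, ∀ y ∈ Q, g y ∈ Q) → (∀ y ∈ Q, y ≠ a ∧ y ≠ x) → Q.Nonempty →
      3 ≤ Q.card := by
    intro a x hax Q hinv hout hne
    obtain ⟨y, hy⟩ := hne
    obtain ⟨h1, h2⟩ := hout y hy
    rw [← horb {a, x} (Finset.card_pair hax) y (by simp [h1, h2])]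
    refine Finset.card_le_card fun z hz => ?_
    obtain ⟨g, hg, rfl⟩ := mem_orb.1 hz
    exact hinv g hg y hy
  have hdeg : ∀ a x, a ≠ x → (N a x).card = 3 := by
    intro a x hax
    have hfx : ∀ g ∈ fixer G {a, x}, g ∈ G ∧ g a = a ∧ g x = x := fun g hg =>
      ⟨(mem_fixer.1 hg).1, (mem_fixer.1 hg).2 a (by simp), (mem_fixer.1 hg).2 x (by simp)⟩
    have hPinv : ∀ g ∈ fixer G {a, x}, ∀ y ∈ P a x, g y ∈ P a x := by
      intro g hg y hy
      obtain ⟨hgG, ga, gx⟩ := hfx g hg
      rw [hP] at hy ⊢
      refine ⟨fun e => hy.1 (g.injective (e.trans ga.symm)),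
        fun e => hy.2.1 (g.injective (e.trans gx.symm)), ?_⟩
      have := swap_mem_ind_image hgG hy.2.2
      simpa [Finset.image_insert, ga, gx] using this
    have hNinv' : ∀ a' x', ({a', x'} : Finset α) = {a, x} → ∀ g ∈ fixer G {a, x}, ∀ y ∈ N a' x',
        g y ∈ N a' x' := by
      intro a' x' heq g hg y hy
      rw [← heq] at hg
      have h := hNinv (mem_fixer.1 hg).1 hy
      rwa [(mem_fixer.1 hg).2 a' (by simp), (mem_fixer.1 hg).2 x' (by simp)] at h
    have n1 : (P a x).Nonempty := by
      obtain ⟨g, hg, gu, gv⟩ := hmap a x u v hax huv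
      refine ⟨g w, hP.2 ⟨fun e => hwn.1 (g.injective (e.trans gu.symm)),
        fun e => hwn.2 (g.injective (e.trans gv.symm)), ?_⟩⟩
      have := swap_mem_ind_image hg hs
      simpa [hΔeq, Finset.image_insert, gu, gv] using this
    have n2 : ∀ a' x', a' ≠ x' → (N a' x').Nonempty := by
      intro a' x' h
      obtain ⟨g, hg, gw, gu⟩ := hmap a' x' w u h hwn.1
      refine ⟨g v, hN.2 ⟨fun e => hwn.2 (g.injective (gw.trans e.symm)),
        fun e => huv (g.injective (gu.trans e.symm)), ?_⟩⟩
      have := swap_mem_ind_image hg hs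
      rw [hΔeq, Finset.image_insert, Finset.image_insert, Finset.image_singleton, gu, gw] at this
      rwa [Finset.pair_comm (g v) a', Finset.insert_comm] at this
    have h1 := hge a x hax (P a x) hPinv (fun y hy => ⟨(hP.1 hy).1, (hP.1 hy).2.1⟩) n1
    have h2 := hge a x hax (N a x) (hNinv' a x rfl) (fun y hy => ⟨(hN.1 hy).1, (hN.1 hy).2.1⟩)
      (n2 a x hax)
    have h3 := hge a x hax (N x a) (hNinv' x a (Finset.pair_comm x a))
      (fun y hy => ⟨(hN.1 hy).2.1, (hN.1 hy).1⟩) (n2 x a hax.symm)
    have e1 : ({x, a} : Finset α) = {a, x} := Finset.pair_comm _ _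
    have d12 : Disjoint (P a x) (N a x) := Finset.disjoint_left.2 fun y hy hy' => by
      rw [hP] at hy; rw [hN] at hy'
      have := Equiv.congr_fun (huniq _ (hc3 hax hy.1 hy.2.1) _ _ hy.2.2 hy'.2.2 (hswap_ne hax)
        (hswap_ne hy'.2.1.symm)) a
      rw [swap_apply_left, swap_apply_of_ne_of_ne hax (Ne.symm hy.1)] at this
      exact hax this.symm
    have d13 : Disjoint (P a x) (N x a) := Finset.disjoint_left.2 fun y hy hy' => by
      rw [hP] at hy; rw [hN, Finset.insert_comm] at hy'
      have := Equiv.congr_fun (huniq _ (hc3 hax hy.1 hy.2.1) _ _ hy.2.2 hy'.2.2 (hswap_ne hax)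
        (hswap_ne hy'.2.1.symm)) a
      rw [swap_apply_left, swap_apply_left] at this
      exact hy.2.1 this.symm
    have d23 : Disjoint (N a x) (N x a) := Finset.disjoint_left.2 fun y hy hy' => by
      rw [hN] at hy; rw [hN, Finset.insert_comm] at hy'
      have := Equiv.congr_fun (huniq _ (hc3 hax hy.1 hy.2.1) _ _ hy.2.2 hy'.2.2
        (hswap_ne hy.2.1.symm) (hswap_ne hy'.2.1.symm)) a
      rw [swap_apply_left, swap_apply_of_ne_of_ne hax (Ne.symm hy.1)] at this
      exact hy.1 this.symm
    have hsub : P a x ∪ (N a x ∪ N x a) ⊆ Finset.univ \ {a, x} := by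
      intro y hy
      simp only [Finset.mem_union, hP, hN] at hy
      simp only [Finset.mem_sdiff, Finset.mem_univ, true_and, Finset.mem_insert,
        Finset.mem_singleton, not_or]
      rcases hy with h | h | h <;> exact ⟨by first | exact h.1 | exact h.2.1,
        by first | exact h.2.1 | exact h.1⟩
    have := Finset.card_le_card hsub
    rw [Finset.card_union_of_disjoint (Finset.disjoint_union_right.2 ⟨d12, d13⟩),
      Finset.card_union_of_disjoint d23, Finset.card_sdiff_of_subset (Finset.subset_univ _),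
      Finset.card_univ, Finset.card_pair hax, hn] at this
    omega
  -- no triangles
  have htri : ∀ a x y z, x ≠ a → y ∈ N a x → z ∈ N a x → z ∈ N a y → False := by
    intro a x y z hxa hy hz hyz
    obtain ⟨hya, hyx, -⟩ := hN.1 hy
    obtain ⟨hza, hzx, -⟩ := hN.1 hz
    have hzy := (hN.1 hyz).2.1
    let Φ₁ : Finset α := {a, x, y, z}
    have hΦ₁ : Φ₁.card = 4 := Finset.card_eq_four.2
      ⟨a, x, y, z, Ne.symm hxa, Ne.symm hya, Ne.symm hza, Ne.symm hyx, Ne.symm hzx, Ne.symm hzy, rfl⟩
    have hall : ∀ Φ : Finset α, Φ.card = 4 → ∃ b ∈ Φ, ∀ p ∈ Φ.erase b, ∀ q ∈ Φ.erase b, p ≠ q →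
        q ∈ N b p := by
      intro Φ hΦ
      obtain ⟨g, hg, rfl⟩ := hh Φ₁ Φ hΦ₁ hΦ
      refine ⟨g a, Finset.mem_image_of_mem _ (by simp [Φ₁]), fun p hp q hq hpq => ?_⟩
      rw [← Finset.image_erase g.injective, Finset.mem_image] at hp hq
      obtain ⟨p, hp, rfl⟩ := hp
      obtain ⟨q, hq, rfl⟩ := hq
      refine hNinv hg ?_
      simp only [Φ₁, Finset.mem_erase, Finset.mem_insert, Finset.mem_singleton] at hp hq
      obtain ⟨hpa, hp⟩ := hp
      obtain ⟨hqa, hq⟩ := hq
      rcases hp with rfl | rfl | rfl | rfl <;> rcases hq with rfl | rfl | rfl | rfl <;>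
        first
          | exact absurd rfl hpa | exact absurd rfl hqa | exact absurd rfl hpq | assumption
          | exact hNsymm (Ne.symm (Ne.symm hxa)) (by assumption)
          | exact hNsymm hya (by assumption)
    choose b hb hbN using hall
    let A : Finset (Σ Φ : Finset α, α) :=
      ((Finset.univ : Finset α).powersetCard 4).sigma fun Φ =>
        if h : Φ.card = 4 then Φ.erase (b Φ h) else ∅
    let B : Finset (Σ _ : α, Σ _ : α, Finset α) :=
      (Finset.univ : Finset α).sigma fun c => (Finset.univ.erase c).sigma fun p =>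
        (N c p).powersetCard 2
    have hA : A.card = 990 := by
      rw [Finset.card_sigma, Finset.sum_congr rfl (g := fun _ => 3) fun Φ hΦ => ?_, Finset.sum_const,
        Finset.card_powersetCard, Finset.card_univ, hn]
      · rfl
      · have h := (Finset.mem_powersetCard.1 hΦ).2
        rw [dif_pos h, Finset.card_erase_of_mem (hb Φ h), h]
    have hB : B.card = 330 := by
      rw [Finset.card_sigma, Finset.sum_congr rfl (g := fun _ => 30) fun c _ => ?_, Finset.sum_const,
        Finset.card_univ, hn]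
      · rfl
      · rw [Finset.card_sigma, Finset.sum_congr rfl (g := fun _ => 3) fun p hp => ?_, Finset.sum_const,
          Finset.card_erase_of_mem (Finset.mem_univ _), Finset.card_univ, hn]
        · rfl
        · rw [Finset.card_powersetCard, hdeg c p (Finset.mem_erase.1 hp).1.symm]
          rfl
    have hle : A.card ≤ B.card := by
      refine Finset.card_le_card_of_injOn
        (fun s => if h : s.1.card = 4 then ⟨b s.1 h, s.2, (s.1.erase (b s.1 h)).erase s.2⟩
          else ⟨s.2, s.2, ∅⟩) ?_ ?_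
      · rintro ⟨Φ, p⟩ hs
        simp only [Finset.mem_coe, A, Finset.mem_sigma] at hs
        have h := (Finset.mem_powersetCard.1 hs.1).2
        have hp := hs.2
        rw [dif_pos h] at hp
        simp only [Finset.mem_coe, B, dif_pos h, Finset.mem_sigma, Finset.mem_univ, true_and,
          Finset.mem_powersetCard, Finset.mem_erase, and_true]
        refine ⟨(Finset.mem_erase.1 hp).1, fun q hq => hbN Φ h p hp q (Finset.mem_of_mem_erase hq)
          (Finset.mem_erase.1 hq).1.symm, ?_⟩
        rw [Finset.card_erase_of_mem hp, Finset.card_erase_of_mem (hb Φ h), h]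
      · rintro ⟨Φ, p⟩ hs ⟨Φ', p'⟩ hs' e
        simp only [Finset.mem_coe, A, Finset.mem_sigma] at hs hs'
        have h := (Finset.mem_powersetCard.1 hs.1).2
        have h' := (Finset.mem_powersetCard.1 hs'.1).2
        have hp := hs.2
        have hp' := hs'.2
        rw [dif_pos h] at hp
        rw [dif_pos h'] at hp'
        simp only [dif_pos h, dif_pos h', Sigma.mk.injEq] at e
        obtain ⟨e1, e2⟩ := e
        rw [heq_eq_eq, Sigma.mk.injEq, heq_eq_eq] at e2
        obtain ⟨e2, e3⟩ := e2
        have hΦ : Φ = Φ' := by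
          rw [← Finset.insert_erase (hb Φ h), ← Finset.insert_erase hp,
            ← Finset.insert_erase (hb Φ' h'), ← Finset.insert_erase hp', e3, e1, e2]
        subst hΦ
        rw [e2]
    omega
  -- point stabilisers of order 30
  obtain ⟨a, -⟩ := Finset.card_pos.1 (show 0 < (Finset.univ : Finset α).card by
    rw [Finset.card_univ]; omega)
  obtain ⟨x, hxa⟩ : ∃ x, x ≠ a := Fintype.exists_ne_of_one_lt_card (by omega) a
  obtain ⟨y, hy⟩ := Finset.card_pos.1 (show 0 < (N a x).card by rw [hdeg a x hxa.symm]; omega)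
  obtain ⟨hya, hyx, hyxs⟩ := hN.1 hy
  have htriv : fixer G {a, x, y} = ⊥ := by
    refine (Subgroup.eq_bot_iff_forall _).2 fun g hg => ?_
    obtain ⟨hgG, hgS⟩ := mem_fixer.1 hg
    have ga : g a = a := hgS a (by simp)
    have key : ∀ p q, p ≠ a → g p = p → q ∈ N a p → g q = q → ∀ s ∈ N a p, g s = s := by
      intro p q hpa gp hq gq s hs
      by_contra hne
      have hgs : g s ∈ N a p := by
        have := hNinv hgG hs
        rwa [ga, gp] at this
      have hsq : s ≠ q := fun e => hne (by rw [e]; exact gq)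
      have hgsq : g s ≠ q := fun e => hsq (g.injective (e.trans gq.symm))
      have h3 := hdeg a p hpa.symm
      have hN3 : N a p = {q, s, g s} := (Finset.eq_of_subset_of_card_le
        (by simp [Finset.insert_subset_iff, hq, hs, hgs]) (by
          rw [h3, Finset.card_eq_three.2 ⟨q, s, g s, hsq.symm, hgsq.symm, Ne.symm hne, rfl⟩])).symm
      have hgg : g (g s) = s := by
        have h4 := hNinv hgG hgs
        rw [ga, gp, hN3] at h4
        simp only [Finset.mem_insert, Finset.mem_singleton] at h4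
        rcases h4 with e | e | e
        · exact absurd (g.injective (e.trans gq.symm)) hgsq
        · exact e
        · exact absurd (g.injective e) hne
      refine htri a p s (g s) hpa hs hgs (hN.2 ⟨fun e => (hN.1 hs).1 (g.injective (e.trans ga.symm)),
        hne, ⟨fun z hz => ?_, g, hgG, fun z hz => ?_⟩⟩)
      · simp only [Finset.mem_insert, Finset.mem_singleton, not_or] at hz
        exact swap_apply_of_ne_of_ne hz.2.1 hz.2.2
      · simp only [Finset.mem_insert, Finset.mem_singleton] at hz
        rcases hz with rfl | rfl | rfl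
        · rw [ga, swap_apply_of_ne_of_ne (Ne.symm (hN.1 hs).1) (Ne.symm (hN.1 hgs).1)]
        · rw [swap_apply_left]
        · rw [swap_apply_right, hgg]
    let C : Finset α := Finset.univ.filter fun p => p ≠ a ∧ g p = p ∧ ∀ q ∈ N a p, g q = q
    have hC : ∀ p ∈ C, ∀ q ∈ N a p, q ∈ C := by
      intro p hp q hq
      obtain ⟨hpa, gp, gN⟩ := (Finset.mem_filter.1 hp).2
      exact Finset.mem_filter.2 ⟨Finset.mem_univ _, (hN.1 hq).1, gN q hq,
        key q p (hN.1 hq).1 (gN q hq) (hNsymm hpa hq) gp⟩
    have hxC : x ∈ C := Finset.mem_filter.2 ⟨Finset.mem_univ _, hxa, hgS x (by simp),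
      key x y hxa (hgS x (by simp)) hy (hgS y (by simp))⟩
    have hsix : ∀ W : Finset α, (∀ p ∈ W, p ≠ a) → (∀ p ∈ W, ∀ q ∈ N a p, q ∈ W) → W.Nonempty →
        6 ≤ W.card := by
      intro W hWa hW ⟨p, hp⟩
      obtain ⟨q, hq⟩ := Finset.card_pos.1 (show 0 < (N a p).card by
        rw [hdeg a p (hWa p hp).symm]; omega)
      have hd : Disjoint (N a p) (N a q) := Finset.disjoint_left.2 fun z hz hz' =>
        htri a p q z (hWa p hp) hq hz hz'
      have := Finset.card_le_card (Finset.union_subset (hW p hp) (hW q (hW p hp q hq)))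
      rw [Finset.card_union_of_disjoint hd, hdeg a p (hWa p hp).symm,
        hdeg a q (hWa q (hW p hp q hq)).symm] at this
      exact this
    have h6 := hsix C (fun p hp => (Finset.mem_filter.1 hp).2.1) hC ⟨x, hxC⟩
    have hC' : Finset.univ.erase a \ C = ∅ := by
      by_contra hne
      have h6' := hsix (Finset.univ.erase a \ C)
        (fun p hp => (Finset.mem_erase.1 (Finset.mem_sdiff.1 hp).1).1)
        (fun p hp q hq => Finset.mem_sdiff.2 ⟨Finset.mem_erase.2 ⟨(hN.1 hq).1, Finset.mem_univ _⟩,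
          fun hqC => (Finset.mem_sdiff.1 hp).2 (hC q hqC p (hNsymm
            (Finset.mem_erase.1 (Finset.mem_sdiff.1 hp).1).1 hq))⟩)
        (Finset.nonempty_iff_ne_empty.2 hne)
      have := Finset.card_sdiff_add_card_eq_card (show C ⊆ Finset.univ.erase a from fun p hp =>
        Finset.mem_erase.2 ⟨(Finset.mem_filter.1 hp).2.1, Finset.mem_univ _⟩)
      rw [Finset.card_erase_of_mem (Finset.mem_univ _), Finset.card_univ, hn] at this
      omega
    refine Equiv.ext fun p => ?_
    rcases eq_or_ne p a with rfl | hpa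
    · exact ga
    · have : p ∈ C := by
        by_contra h
        exact Finset.notMem_empty p (hC' ▸ Finset.mem_sdiff.2
          ⟨Finset.mem_erase.2 ⟨hpa, Finset.mem_univ _⟩, h⟩)
      exact (Finset.mem_filter.1 this).2.2.1
  have hax2 : ({a, x} : Finset α).card = 2 := Finset.card_pair hxa.symm
  have h3 : Nat.card (fixer G {a, x}) = 3 := by
    rw [card_fixer_eq_orb_mul _ y, horb _ hax2 y (by simp [hya, hyx]),
      show insert y ({a, x} : Finset α) = {a, x, y} by
        ext; simp; tauto, htriv, Subgroup.card_bot]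
  have hGc : Nat.card G = 330 := by
    rw [card_eq_desc_mul hT hax2, h3, hn]
    rfl
  have hT1 : Trans G 1 := hT.mono (by norm_num)
  have hGa : Nat.card (fixer G {a}) = 30 := by
    have := card_eq_desc_mul hT1 (Finset.card_singleton a)
    rw [hGc, hn, show Nat.descFactorial 11 1 = 11 from rfl] at this
    omega
  -- the normal Sylow 11-subgroup
  have : Fact (Nat.Prime 11) := ⟨by norm_num⟩
  obtain ⟨P₁⟩ : Nonempty (Sylow 11 G) := inferInstance
  have hPcard : Nat.card P₁ = 11 := by
    rw [Sylow.card_eq_multiplicity, hGc, Nat.factorization_def _ (by norm_num : Nat.Prime 11),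
      show (330 : ℕ) = 11 * 30 from rfl, padicValNat.mul (by norm_num) (by norm_num),
      padicValNat_self, padicValNat.eq_zero_of_not_dvd (show ¬ 11 ∣ 30 by norm_num), pow_one]
  have hone : Nat.card (Sylow 11 G) = 1 := by
    have h1 := Sylow.card_dvd_index P₁
    have h2 := card_sylow_modEq_one 11 G
    have hidx : (P₁ : Subgroup G).index = 30 := by
      have := Subgroup.index_mul_card (P₁ : Subgroup G)
      rw [hGc] at this
      have e : Nat.card (P₁ : Subgroup G) = 11 := hPcard
      rw [e] at this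
      omega
    rw [hidx] at h1
    have h3 := Nat.le_of_dvd (by norm_num) h1
    unfold Nat.ModEq at h2
    generalize hs : Nat.card (Sylow 11 G) = s at h1 h2 h3 ⊢
    interval_cases s <;> omega
  have : Subsingleton (Sylow 11 G) := (Nat.card_eq_one_iff_unique.1 hone).1
  have : (P₁ : Subgroup G).Normal := P₁.normal_of_subsingleton
  obtain ⟨p, hp⟩ := isCyclic_of_prime_card (α := P₁) hPcard
  have hpo : orderOf ((p.1 : G) : Perm α) = 11 := by
    rw [Subgroup.orderOf_coe, Subgroup.orderOf_coe, orderOf_eq_card_of_forall_mem_zpowers hp, hPcard]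
  have hmove : ∀ z : α, ((p.1 : G) : Perm α) z ≠ z := by
    intro z hz
    have hcard : Nat.card (fixer G {z}) = 30 := by
      have := card_eq_desc_mul hT1 (Finset.card_singleton z)
      rw [hGc, hn, show Nat.descFactorial 11 1 = 11 from rfl] at this
      omega
    have h := orderOf_dvd_natCard (⟨_, mem_fixer.2 ⟨(p.1 : G).2, by simpa using hz⟩⟩ : fixer G {z})
    rw [Subgroup.orderOf_mk, hpo, hcard] at h
    norm_num at h
  have horbP : ∀ z, ∃ k : ℕ, (((p.1 : G) : Perm α) ^ k) a = z := by
    have hinj : Function.Injective fun k : Fin 11 => (((p.1 : G) : Perm α) ^ (k : ℕ)) a := by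
      intro k l e
      by_contra hkl
      wlog hlt : (k : ℕ) < l generalizing k l
      · exact this e.symm (Ne.symm hkl) (lt_of_le_of_ne (not_lt.1 hlt) fun e' => hkl (Fin.ext e'.symm))
      have he' : (((p.1 : G) : Perm α) ^ ((l : ℕ) - k)) a = a := by
        simp only at e
        rw [show (l : ℕ) = ((l : ℕ) - k) + k by omega, pow_add] at e
        set q := ((p.1 : G) : Perm α)
        have hc : (q ^ ((l : ℕ) - k)) ((q ^ (k : ℕ)) a) = (q ^ (k : ℕ)) a := e.symm
        rw [← Perm.mul_apply, ← pow_add, add_comm, pow_add, Perm.mul_apply] at hc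
        exact (q ^ (k : ℕ)).injective hc
      obtain ⟨m, hm⟩ := exists_pow_eq_self_of_coprime (x := ((p.1 : G) : Perm α))
        (n := (l : ℕ) - k) (by
          rw [hpo, Nat.coprime_comm, (show Nat.Prime 11 by norm_num).coprime_iff_not_dvd]
          exact Nat.not_dvd_of_pos_of_lt (by omega) (by omega))
      refine hmove a ?_
      rw [← hm]
      exact (MulAction.stabilizer (Perm α) a).pow_mem he' m
    have hsurj := (Fintype.bijective_iff_injective_and_card _).2 ⟨hinj, by rw [Fintype.card_fin, hn]⟩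
    intro z
    obtain ⟨k, hk⟩ := hsurj.2 z
    exact ⟨k, hk⟩
  let φ : fixer G {a} →* MulAut (P₁ : Subgroup G) :=
    MulAut.conjNormal.comp (Subgroup.inclusion (show fixer G {a} ≤ G from inf_le_left))
  have hφ : Function.Injective φ := by
    rw [injective_iff_map_eq_one]
    intro g hg
    refine Subtype.ext (Equiv.ext fun z => ?_)
    obtain ⟨k, rfl⟩ := horbP z
    have h1 : (g : Perm α) * ((p.1 : G) : Perm α) * (g : Perm α)⁻¹ = ((p.1 : G) : Perm α) :=
      congrArg (fun q : (P₁ : Subgroup G) => ((q : G) : Perm α)) (DFunLike.congr_fun hg p)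
    have h2 : Commute (g : Perm α) ((p.1 : G) : Perm α) := by
      rw [commute_iff_eq]
      exact mul_inv_eq_iff_eq_mul.1 h1
    change (g : Perm α) _ = _
    rw [← Perm.mul_apply, (h2.pow_right k).eq, Perm.mul_apply,
      (mem_fixer.1 g.2).2 a (Finset.mem_singleton_self a)]
    rfl
  have hAut : Nat.card (MulAut (P₁ : Subgroup G)) = 10 := by
    have : IsCyclic (P₁ : Subgroup G) := isCyclic_of_prime_card hPcard
    rw [← Nat.card_congr (IsCyclic.mulAutMulEquiv (P₁ : Subgroup G)).symm.toEquiv,
      show Nat.card (P₁ : Subgroup G) = 11 from hPcard, Nat.card_eq_fintype_card, ZMod.card_units_eq_totient,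
      Nat.totient_prime (by norm_num)]
  have := Nat.card_le_card_of_injective φ hφ
  rw [hGa, hAut] at this
  omega

theorem lw_four (hT : Trans G 2) (hnt : ¬ Trans G 3) (hn : 4 ≤ Fintype.card α)
    (hh1 : MulAction.IsPretransitive G (Set.powersetCard α 3))
    (hh : MulAction.IsPretransitive G (Set.powersetCard α 4)) :
    (Fintype.card α = 4 ∧ G = alternatingGroup α) ∨
      (Fintype.card α = 5 ∧ Nat.card G = 20) := by
  obtain ⟨r, D, X, e, hr, hD, hre, hnD, hX, he, horb, hG⟩ := moment hT hnt hn hh1 hh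
  have hf2 : (2 + 1).factorial = 6 := rfl
  have hf3 : (2 + 2).factorial = 24 := rfl
  rw [hf2] at hre
  rw [hf3] at hX
  obtain ⟨S, -, hS⟩ := Finset.exists_subset_card_eq (s := (Finset.univ : Finset α)) (n := 2)
    (by rw [Finset.card_univ]; omega)
  have hD1 : D = 1 → Nat.card G = (Fintype.card α).descFactorial 2 := by
    rintro rfl
    rw [card_eq_desc_mul hT hS, fixer_eq_bot_of_orb_card_one fun x hx => horb S hS x hx,
      Subgroup.card_bot, mul_one]
  have hrle := Nat.le_of_dvd (by omega) (Dvd.intro e hre)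
  interval_cases r
  · -- e = 3
    have hD' : D = 1 ∨ D = 2 := by
      rcases Nat.lt_or_ge X 6 with h | h
      · interval_cases X <;> omega
      · have h2 : 2 * (2 * D - 1) * 6 ≤ 2 * (2 * D - 1) * X := Nat.mul_le_mul_left _ h
        omega
    rcases hD' with rfl | rfl
    · left
      have hcard : Fintype.card α = 4 := by omega
      have : Nontrivial α := Fintype.one_lt_card_iff_nontrivial.1 (by omega)
      refine ⟨hcard, eq_alternating_of_card ?_⟩
      rw [hD1 rfl, hcard]
      rfl
    · exfalso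
      obtain ⟨y, hy⟩ := Finset.card_pos.1 (show 0 < (Finset.univ \ S).card by
        rw [Finset.card_sdiff_of_subset (Finset.subset_univ _), Finset.card_univ]; omega)
      have hyS := (Finset.mem_sdiff.1 hy).2
      obtain ⟨i, hi, hii, x, hx⟩ := exists_involution (H := fixer G S) (by
        rw [card_fixer_eq_orb_mul S y, horb S hS y hyS]
        exact even_two_mul _)
      obtain ⟨a, ha⟩ := Finset.card_pos.1 (show 0 < S.card by omega)
      obtain ⟨hs, hc⟩ := swap_mem_ind_of_involution (mem_fixer.1 hi).1 hii (T := {a})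
        (by simpa using (mem_fixer.1 hi).2 a ha) hx
      rw [Finset.card_singleton] at hc
      have h := orderOf_dvd_card_ind hs
      rw [he _ hc] at h
      have ho : orderOf (swap x (i x)) = 2 := by
        have : Fact (Nat.Prime 2) := ⟨Nat.prime_two⟩
        refine orderOf_eq_prime (by rw [pow_two, swap_mul_self]) fun e' => hx ?_
        have := Equiv.congr_fun e' x
        rwa [swap_apply_left] at this
      rw [ho] at h
      omega
  · -- e = 2
    have hD' : D = 1 ∨ D = 3 := by
      rcases Nat.lt_or_ge X 3 with h | h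
      · interval_cases X <;> omega
      · have h2 : 3 * (3 * D - 1) * 3 ≤ 3 * (3 * D - 1) * X := Nat.mul_le_mul_left _ h
        omega
    rcases hD' with rfl | rfl
    · right
      have hcard : Fintype.card α = 5 := by omega
      exact ⟨hcard, by rw [hD1 rfl, hcard]; rfl⟩
    · exact (lw_four_eleven (by omega) hT (homog_of_pretransitive hh1) (homog_of_pretransitive hh)
        (fun Δ hΔ => by rw [he Δ hΔ]; omega) horb).elim
  all_goals try (exfalso; omega)
  -- e = 1
  exfalso
  have hD' : D = 1 := by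
    rcases Nat.eq_zero_or_pos X with h | h
    · subst h; omega
    · have h2 : 6 * (6 * D - 1) * 1 ≤ 6 * (6 * D - 1) * X := Nat.mul_le_mul_left _ h
      omega
  obtain ⟨Φ, -, hΦ⟩ := Finset.exists_subset_card_eq (s := (Finset.univ : Finset α)) (n := 4)
    (by rw [Finset.card_univ]; omega)
  have h1 := card_eq_choose_mul hh hΦ
  have hcard : Fintype.card α = 8 := by omega
  rw [hD1 hD', hcard, show Nat.descFactorial 8 2 = 56 from rfl, show Nat.choose 8 4 = 70 from rfl] at h1
  omega

end Cfsg.Agent.Lib.Homogeneous
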