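import Cfsg.Agent.Lib.Homogeneous.Basic

/-!
# Involutions lifting a given permutation of a set whose pointwise stabiliser has odd order
-/

set_option autoImplicit false

namespace Cfsg.Agent.Lib.Homogeneous

open Equiv

variable {α : Type*} [Fintype α] [DecidableEq α] (G : Subgroup (Perm α))

/-- Elements of `G` of order at most two that agree with `π` on `S`. -/
def lifts (S : Finset α) (π : Perm α) : Set (Perm α) :=
  {i | i ∈ G ∧ i * i = 1 ∧ ∀ x ∈ S, i x = π x}

/-- The elements of the pointwise stabiliser commuting with `i`. -/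
def cfixer (S : Finset α) (i : Perm α) : Subgroup (Perm α) :=
  fixer G S ⊓ Subgroup.centralizer {i}

variable {G}

theorem mem_cfixer {S : Finset α} {i g : Perm α} :
    g ∈ cfixer G S i ↔ g ∈ fixer G S ∧ i * g = g * i := by
  simp [cfixer, Subgroup.mem_centralizer_singleton_iff, eq_comm]

theorem cfixer_le (S : Finset α) (i : Perm α) : cfixer G S i ≤ fixer G S := inf_le_left

theorem odd_fixer_of {S : Finset α}
    (h : ∀ i ∈ fixer G S, i * i = 1 → i = 1) : Odd (Nat.card (fixer G S)) := by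
  by_contra hc
  have : Fact (Nat.Prime 2) := ⟨Nat.prime_two⟩
  obtain ⟨i, hi⟩ := exists_prime_orderOf_dvd_card' (G := fixer G S) 2
    (even_iff_two_dvd.1 (Nat.not_odd_iff_even.1 hc))
  have h1 : (i : Perm α) = 1 := h i i.2 (by
    rw [← Subgroup.coe_mul, ← pow_two, ← hi, pow_orderOf_eq_one]; rfl)
  rw [← Subgroup.orderOf_coe, h1, orderOf_one] at hi
  omega

/-- An element agreeing with an involution on `S` has an involutive lift among its powers. -/
theorem exists_lift_pow {S : Finset α} {π g : Perm α} (hodd : Odd (Nat.card (fixer G S)))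
    (hπ : π * π = 1) (hπS : ∀ x ∈ S, π x ∈ S) (hg : g ∈ G) (hgπ : ∀ x ∈ S, g x = π x) :
    ∃ m : ℕ, g ^ m ∈ lifts G S π := by
  have h2 : g ^ 2 ∈ fixer G S := by
    rw [mem_fixer]
    refine ⟨G.pow_mem hg 2, fun x hx => ?_⟩
    rw [pow_two, Perm.mul_apply, hgπ x hx, hgπ _ (hπS x hx)]
    exact inv_apply_self hπ x
  obtain ⟨l, hl⟩ : Odd (orderOf (g ^ 2)) := by
    refine hodd.of_dvd_nat ?_
    have := orderOf_dvd_natCard (⟨g ^ 2, h2⟩ : fixer G S)
    rwa [Subgroup.orderOf_mk] at this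
  refine ⟨orderOf (g ^ 2), G.pow_mem hg _, ?_, fun x hx => ?_⟩
  · rw [← pow_add, ← two_mul, pow_mul, pow_orderOf_eq_one]
  · rw [hl, pow_succ, pow_mul, Perm.mul_apply, hgπ x hx]
    exact (mem_fixer.1 ((fixer G S).pow_mem h2 l)).2 _ (hπS x hx)

theorem lifts_nonempty {S : Finset α} {π g : Perm α} (hodd : Odd (Nat.card (fixer G S)))
    (hπ : π * π = 1) (hπS : ∀ x ∈ S, π x ∈ S) (hg : g ∈ G) (hgπ : ∀ x ∈ S, g x = π x) :
    (lifts G S π).Nonempty := by
  obtain ⟨m, hm⟩ := exists_lift_pow hodd hπ hπS hg hgπ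
  exact ⟨_, hm⟩

/-- Two lifts are conjugate under the pointwise stabiliser. -/
theorem exists_conj_lift {S : Finset α} {π i i' : Perm α} (hodd : Odd (Nat.card (fixer G S)))
    (hπS : ∀ x ∈ S, π x ∈ S) (hi : i ∈ lifts G S π) (hi' : i' ∈ lifts G S π) :
    ∃ w ∈ fixer G S, i' = w * i * w⁻¹ := by
  obtain ⟨hiG, hii, hiπ⟩ := hi
  obtain ⟨hiG', hii', hiπ'⟩ := hi'
  have hiv : i⁻¹ = i := inv_eq_of_mul_eq_one_left hii
  have hd : i * i' ∈ fixer G S := by
    rw [mem_fixer]
    refine ⟨G.mul_mem hiG hiG', fun x hx => ?_⟩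
    rw [Perm.mul_apply, hiπ' x hx, hiπ _ (hπS x hx)]
    have h1 := inv_apply_self hii x
    rwa [hiπ x hx, hiπ _ (hπS x hx)] at h1
  obtain ⟨l, hl⟩ : Odd (orderOf (i * i')) := by
    refine hodd.of_dvd_nat ?_
    have := orderOf_dvd_natCard (⟨_, hd⟩ : fixer G S)
    rwa [Subgroup.orderOf_mk] at this
  set d := i * i' with hd'
  have hinv : i * d * i⁻¹ = d⁻¹ := by
    rw [hd', mul_inv_rev, hiv, inv_eq_of_mul_eq_one_left hii', ← mul_assoc i i i', hii, one_mul]
  refine ⟨d ^ l, (fixer G S).pow_mem hd l, ?_⟩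
  have h1 : i * (d ^ l)⁻¹ * i⁻¹ = d ^ l := by
    rw [← inv_pow, ← conj_pow, ← conj_inv, hinv, inv_inv]
  have h2 : d ^ l * i = i * (d ^ l)⁻¹ := by
    calc d ^ l * i = i * (d ^ l)⁻¹ * i⁻¹ * i := by rw [h1]
      _ = i * (d ^ l)⁻¹ := by rw [inv_mul_cancel_right]
  rw [h2, mul_assoc, ← mul_inv_rev, ← pow_add]
  have h3 : (d ^ (l + l))⁻¹ = d := by
    refine inv_eq_of_mul_eq_one_right ?_
    rw [← pow_succ, ← two_mul, ← hl, pow_orderOf_eq_one]
  rw [h3, hd', ← mul_assoc, hii, one_mul]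

theorem mem_lifts_conj {S : Finset α} {π i w : Perm α} (hπS : ∀ x ∈ S, π x ∈ S)
    (hi : i ∈ lifts G S π) (hw : w ∈ fixer G S) : w * i * w⁻¹ ∈ lifts G S π := by
  obtain ⟨hiG, hii, hiπ⟩ := hi
  rw [mem_fixer] at hw
  refine ⟨G.mul_mem (G.mul_mem hw.1 hiG) (G.inv_mem hw.1), ?_, fun x hx => ?_⟩
  · rw [show w * i * w⁻¹ * (w * i * w⁻¹) = w * (i * i) * w⁻¹ by group, hii, mul_one, mul_inv_cancel]
  · have : w⁻¹ x = x := by rw [Perm.inv_eq_iff_eq, hw.2 x hx]
    rw [Perm.mul_apply, Perm.mul_apply, this, hiπ x hx, hw.2 _ (hπS x hx)]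

/-- Orbit-stabiliser for lifts. -/
theorem card_lifts_mul {S : Finset α} {π i : Perm α} (hodd : Odd (Nat.card (fixer G S)))
    (hπS : ∀ x ∈ S, π x ∈ S) (hi : i ∈ lifts G S π) :
    Nat.card (lifts G S π) * Nat.card (cfixer G S i) = Nat.card (fixer G S) := by
  let C := (cfixer G S i).subgroupOf (fixer G S)
  let φ : fixer G S ⧸ C → lifts G S π := Quotient.lift
    (fun w => ⟨(w : Perm α) * i * (w : Perm α)⁻¹, mem_lifts_conj hπS hi w.2⟩) (by
      intro w w' h
      have h' : w⁻¹ * w' ∈ C := QuotientGroup.leftRel_apply.1 h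
      rw [Subgroup.mem_subgroupOf, mem_cfixer] at h'
      refine Subtype.ext ?_
      have h2 := h'.2
      simp only [Subgroup.coe_mul, Subgroup.coe_inv] at h2
      calc (w : Perm α) * i * (w : Perm α)⁻¹
          = (w : Perm α) * (i * ((w : Perm α)⁻¹ * w')) * (w' : Perm α)⁻¹ := by group
        _ = (w' : Perm α) * i * (w' : Perm α)⁻¹ := by rw [h2]; group)
  have hφ : Function.Bijective φ := by
    refine ⟨fun a b => ?_, fun j => ?_⟩
    · induction a using Quotient.inductionOn' with | h w =>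
      induction b using Quotient.inductionOn' with | h w' =>
      intro h
      have h1 : (w : Perm α) * i * (w : Perm α)⁻¹ = (w' : Perm α) * i * (w' : Perm α)⁻¹ :=
        congrArg Subtype.val h
      refine Quotient.sound' (QuotientGroup.leftRel_apply.2 ?_)
      rw [Subgroup.mem_subgroupOf, mem_cfixer]
      refine ⟨(w⁻¹ * w').2, ?_⟩
      simp only [Subgroup.coe_mul, Subgroup.coe_inv]
      calc i * ((w : Perm α)⁻¹ * w')
          = (w : Perm α)⁻¹ * ((w : Perm α) * i * (w : Perm α)⁻¹) * w' := by group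
        _ = (w : Perm α)⁻¹ * w' * i := by rw [h1]; group
    · obtain ⟨w, hw, e⟩ := exists_conj_lift hodd hπS hi j.2
      exact ⟨Quotient.mk'' ⟨w, hw⟩, Subtype.ext e.symm⟩
  rw [← Nat.card_congr (Equiv.ofBijective φ hφ), Subgroup.card_eq_card_quotient_mul_card_subgroup C]
  congr 1
  exact (Nat.card_congr (Subgroup.subgroupOfEquivOfLe (cfixer_le S i)).toEquiv).symm

/-- An involution commuting with `π` on `S` fixes some lift. -/
theorem exists_lift_commute {S : Finset α} {π j : Perm α} (hodd : Odd (Nat.card (fixer G S)))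
    (hπS : ∀ x ∈ S, π x ∈ S) (hne : (lifts G S π).Nonempty)
    (hj : j ∈ G) (hjj : j * j = 1) (hjS : ∀ x ∈ S, j x ∈ S)
    (hjπ : ∀ x ∈ S, j (π (j x)) = π x) :
    ∃ i ∈ lifts G S π, j * i = i * j := by
  classical
  obtain ⟨i₀, hi₀⟩ := hne
  have hmap : ∀ i ∈ lifts G S π, j * i * j ∈ lifts G S π := by
    rintro i ⟨hiG, hii, hiπ⟩
    refine ⟨G.mul_mem (G.mul_mem hj hiG) hj, ?_, fun x hx => ?_⟩
    · rw [show j * i * j * (j * i * j) = j * (i * (j * j) * i) * j by group, hjj, mul_one, hii, mul_one, hjj]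
    · rw [Perm.mul_apply, Perm.mul_apply, hiπ _ (hjS x hx), hjπ x hx]
  let f : Perm (lifts G S π) := Function.Involutive.toPerm (fun i => ⟨j * i * j, hmap i i.2⟩)
    fun i => Subtype.ext (by
      change j * (j * (i : Perm α) * j) * j = i
      rw [show j * (j * (i : Perm α) * j) * j = j * j * i * (j * j) by group, hjj, one_mul, mul_one])
  have hoddL : Odd (Nat.card (lifts G S π)) :=
    hodd.of_dvd_nat ⟨_, (card_lifts_mul hodd hπS hi₀).symm⟩
  have := Fintype.ofFinite (lifts G S π)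
  have hf : f * f = 1 := Equiv.ext fun i => f.symm_apply_apply i
  have hp := card_fix_parity (α := lifts G S π) hf
  rw [← Nat.card_eq_fintype_card, Nat.odd_iff.1 hoddL] at hp
  obtain ⟨i, hi⟩ := Finset.card_pos.1 (show 0 < (fix f).card by omega)
  rw [mem_fix] at hi
  refine ⟨i, i.2, ?_⟩
  have h1 : j * (i : Perm α) * j = i := congrArg Subtype.val hi
  calc j * (i : Perm α) = j * (i : Perm α) * j * j := by rw [mul_assoc _ j, hjj, mul_one]
    _ = (i : Perm α) * j := by rw [h1]

omit [Fintype α] in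
/-- In a finite group of even order the number of involutions is odd. -/
theorem exists_involution_commute {K : Subgroup (Perm α)} [Finite K] (hK : Even (Nat.card K))
    {i : Perm α} (hii : i * i = 1) (hKi : ∀ g ∈ K, i * g * i ∈ K) :
    ∃ t ∈ K, t ≠ 1 ∧ t * t = 1 ∧ i * t = t * i := by
  classical
  have := Fintype.ofFinite K
  set T : Finset K := Finset.univ.filter fun g => g * g = 1
  -- the inversion fixes exactly the elements of `T`
  let inv' : Perm K := Equiv.inv K
  have hinv' : inv' * inv' = 1 := Equiv.ext fun g => inv_inv g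
  have hfix : fix inv' = T := by
    ext g
    simp only [mem_fix, T, Finset.mem_filter, Finset.mem_univ, true_and]
    change g⁻¹ = g ↔ _
    exact inv_eq_iff_mul_eq_one
  have hT : Even T.card := by
    have := card_fix_parity hinv'
    rw [hfix, ← Nat.card_eq_fintype_card, Nat.even_iff.1 hK] at this
    exact Nat.even_iff.2 this
  let f : Perm {g : K // g * g = 1} := Function.Involutive.toPerm
    (fun g => ⟨⟨i * (g.1 : Perm α) * i, hKi _ g.1.2⟩, Subtype.ext (by
      change i * (g.1 : Perm α) * i * (i * (g.1 : Perm α) * i) = 1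
      rw [show i * (g.1 : Perm α) * i * (i * (g.1 : Perm α) * i) =
        i * ((g.1 : Perm α) * (i * i) * (g.1 : Perm α)) * i by group, hii, mul_one,
        show (g.1 : Perm α) * g.1 = 1 from congrArg Subtype.val g.2, mul_one, hii])⟩)
    fun g => Subtype.ext (Subtype.ext (by
      change i * (i * (g.1 : Perm α) * i) * i = g.1
      rw [show i * (i * (g.1 : Perm α) * i) * i = i * i * g.1 * (i * i) by group, hii, one_mul, mul_one]))
  have hp := card_fix_parity (g := f) (Equiv.ext fun g => f.symm_apply_apply g)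
  have hcard : Fintype.card {g : K // g * g = 1} = T.card := Fintype.card_subtype _
  rw [hcard, Nat.even_iff.1 hT] at hp
  have hone : (⟨1, one_mul 1⟩ : {g : K // g * g = 1}) ∈ fix f := by
    rw [mem_fix]
    refine Subtype.ext (Subtype.ext ?_)
    change i * 1 * i = 1
    rw [mul_one, hii]
  have hpos := Finset.card_pos.2 ⟨_, hone⟩
  obtain ⟨t, ht, htne⟩ := Finset.exists_mem_ne (show 1 < (fix f).card by omega)
    (⟨1, one_mul 1⟩ : {g : K // g * g = 1})
  rw [mem_fix] at ht
  refine ⟨t.1, t.1.2, fun e => htne (Subtype.ext (Subtype.ext e)), congrArg Subtype.val t.2, ?_⟩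
  have h1 : i * (t.1 : Perm α) * i = t.1 :=
    congrArg (fun g : {g : K // g * g = 1} => (g.1 : Perm α)) ht
  calc i * (t.1 : Perm α) = i * (t.1 : Perm α) * i * i := by rw [mul_assoc _ i, hii, mul_one]
    _ = (t.1 : Perm α) * i := by rw [h1]

end Cfsg.Agent.Lib.Homogeneous
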