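import Cfsg.Agent.Lib.Homogeneous.Basic

/-!
# Counting in a `j`-transitive group which is `(j+1)`- and `(j+2)`-homogeneous
-/

set_option autoImplicit false

namespace Cfsg.Agent.Lib.Homogeneous

open Equiv

variable {α : Type*} [Fintype α] [DecidableEq α] {G : Subgroup (Perm α)} {j : ℕ}

variable (G) in
/-- The orbit of `x` under the pointwise stabiliser of `S`. -/
noncomputable def orb (S : Finset α) (x : α) : Finset α := by
  classical exact Finset.univ.filter fun y => ∃ g ∈ fixer G S, g x = y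

theorem mem_orb {S : Finset α} {x y : α} : y ∈ orb G S x ↔ ∃ g ∈ fixer G S, g x = y := by
  simp [orb]

theorem self_mem_orb (S : Finset α) (x : α) : x ∈ orb G S x :=
  mem_orb.2 ⟨1, one_mem _, rfl⟩

theorem orb_subset {S : Finset α} {x : α} (hx : x ∉ S) : orb G S x ⊆ Finset.univ \ S := by
  intro y hy
  obtain ⟨g, hg, rfl⟩ := mem_orb.1 hy
  refine Finset.mem_sdiff.2 ⟨Finset.mem_univ _, fun h => hx ?_⟩
  have := (mem_fixer.1 hg).2 _ h
  rwa [g.injective this] at h

theorem card_fixer_eq_orb_mul (S : Finset α) (x : α) :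
    Nat.card (fixer G S) = (orb G S x).card * Nat.card (fixer G (insert x S)) := by
  classical
  rw [← Subgroup.index_mul_card (MulAction.stabilizer (fixer G S) x)]
  congr 1
  · rw [MulAction.index_stabilizer, ← Set.ncard_coe_finset]
    congr 1
    ext y
    simp only [MulAction.mem_orbit_iff, Finset.mem_coe, mem_orb, Subgroup.smul_def, Perm.smul_def]
    exact ⟨fun ⟨g, hg⟩ => ⟨g, g.2, hg⟩, fun ⟨g, hg, e⟩ => ⟨⟨g, hg⟩, e⟩⟩
  · refine Nat.card_congr ⟨fun g => ⟨(g.1 : Perm α), ?_⟩, fun g => ⟨⟨g.1, ?_⟩, ?_⟩, fun g => rfl,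
      fun g => rfl⟩
    · obtain ⟨hG, hS⟩ := mem_fixer.1 g.1.2
      refine mem_fixer.2 ⟨hG, fun y hy => ?_⟩
      rcases Finset.mem_insert.1 hy with rfl | hy
      · exact g.2
      · exact hS y hy
    · exact fixer_anti (Finset.subset_insert x S) g.2
    · exact (mem_fixer.1 g.2).2 x (Finset.mem_insert_self x S)

/-- The order of a `j`-transitive group. -/
theorem card_eq_desc_mul (hT : Trans G j) {S : Finset α} (hS : S.card = j) :
    Nat.card G = (Fintype.card α).descFactorial j * Nat.card (fixer G S) := by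
  classical
  let x : Fin j ↪ α := (S.equivFinOfCardEq hS).symm.toEmbedding.trans (Function.Embedding.subtype _)
  have := mult_of_trans hT
  have horbx : MulAction.orbit G x = Set.univ := Set.eq_univ_of_forall fun y => by
    obtain ⟨g, hg⟩ := MulAction.exists_smul_eq G x y
    exact ⟨g, Function.Embedding.ext fun i => DFunLike.congr_fun hg i⟩
  have hi : (MulAction.stabilizer G x).index = Nat.card (Fin j ↪ α) :=
    (MulAction.index_stabilizer G x).trans ((congrArg Set.ncard horbx).trans (Set.ncard_univ _))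
  rw [← Subgroup.index_mul_card (MulAction.stabilizer G x), hi, Nat.card_eq_fintype_card (α := Fin j ↪ α), Fintype.card_embedding_eq,
    Fintype.card_fin]
  congr 1
  have hxS : ∀ z ∈ S, ∃ i, x i = z := fun z hz => ⟨S.equivFinOfCardEq hS ⟨z, hz⟩, by
    simp [x]⟩
  have hxm : ∀ i, x i ∈ S := fun i => ((S.equivFinOfCardEq hS).symm i).2
  refine Nat.card_congr ⟨fun g => ⟨(g.1 : Perm α), ?_⟩, fun g => ⟨⟨g.1, (mem_fixer.1 g.2).1⟩, ?_⟩,
    fun g => rfl, fun g => rfl⟩
  · refine mem_fixer.2 ⟨g.1.2, fun z hz => ?_⟩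
    obtain ⟨i, rfl⟩ := hxS z hz
    exact DFunLike.congr_fun g.2 i
  · exact Function.Embedding.ext fun i => (mem_fixer.1 g.2).2 _ (hxm i)

theorem card_ind_dvd (Δ : Finset α) : Nat.card (ind G Δ) ∣ Δ.card.factorial := by
  have h : ind G Δ ≤ (Perm.ofSubtype : Perm {x // x ∈ Δ} →* Perm α).range := by
    rintro σ ⟨hσ, -⟩
    exact ⟨σ.subtypePerm fun x => apply_mem_iff_of_supp hσ,
      Perm.ofSubtype_subtypePerm _ fun x hx => by by_contra h; exact hx (hσ x h)⟩
  have := Subgroup.card_dvd_of_le h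
  rwa [← Nat.card_congr (MonoidHom.ofInjective Perm.ofSubtype_injective).toEquiv, Nat.card_perm,
    Nat.card_eq_finsetCard] at this

theorem ind_full_of_card {Δ : Finset α} (h : Nat.card (ind G Δ) = Δ.card.factorial) (σ : Perm α)
    (hσ : ∀ x, x ∉ Δ → σ x = x) : σ ∈ ind G Δ := by
  have hle : ind G Δ ≤ (Perm.ofSubtype : Perm {x // x ∈ Δ} →* Perm α).range := by
    rintro σ ⟨hσ, -⟩
    exact ⟨σ.subtypePerm fun x => apply_mem_iff_of_supp hσ,
      Perm.ofSubtype_subtypePerm _ fun x hx => by by_contra h; exact hx (hσ x h)⟩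
  rw [Subgroup.eq_of_le_of_card_ge hle (le_of_eq (by
    rw [h, ← Nat.card_congr (MonoidHom.ofInjective Perm.ofSubtype_injective).toEquiv, Nat.card_perm,
      Nat.card_eq_finsetCard]))]
  exact ⟨σ.subtypePerm fun x => apply_mem_iff_of_supp hσ,
    Perm.ofSubtype_subtypePerm _ fun x hx => by by_contra h; exact hx (hσ x h)⟩

theorem card_ind_image {Δ : Finset α} {g : Perm α} (hg : g ∈ G) :
    Nat.card (ind G (Δ.image g)) = Nat.card (ind G Δ) := by
  refine (Nat.card_congr ((MulAut.conj g).toEquiv.subtypeEquiv fun x => ?_)).symm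
  simp only [MulEquiv.toEquiv_eq_coe, EquivLike.coe_coe, MulAut.conj_apply]
  refine ⟨conj_mem_ind hg, fun h => ?_⟩
  have := conj_mem_ind (G.inv_mem hg) h
  rw [Finset.image_image] at this
  simp only [Perm.coe_inv, Equiv.symm_comp_self, Finset.image_id] at this
  simpa [mul_assoc] using this

/-- The set stabiliser maps onto the induced group. -/
theorem card_eq_choose_mul {m : ℕ} (hh : MulAction.IsPretransitive G (Set.powersetCard α m))
    {Δ : Finset α} (hΔ : Δ.card = m) :
    Nat.card G = (Fintype.card α).choose m * (Nat.card (ind G Δ) * Nat.card (fixer G Δ)) := by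
  classical
  let x : Set.powersetCard α m := Set.powersetCard.ofCard hΔ
  rw [← Subgroup.index_mul_card (MulAction.stabilizer G x), MulAction.index_stabilizer_of_transitive G x,
    Set.powersetCard.card, Nat.card_eq_fintype_card (α := α)]
  congr 1
  have hmem : ∀ g : MulAction.stabilizer G x, ∀ y, (g.1 : Perm α) y ∈ Δ ↔ y ∈ Δ := fun g y => by
    have h : Δ.image (g.1 : Perm α) = Δ := congrArg Subtype.val g.2
    conv_lhs => rw [← h]
    exact (g.1 : Perm α).injective.mem_finset_image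
  let ψ : MulAction.stabilizer G x →* Perm α :=
    { toFun := fun g => Perm.ofSubtype ((g.1 : Perm α).subtypePerm (hmem g))
      map_one' := by rw [← map_one (Perm.ofSubtype : Perm {x // x ∈ Δ} →* Perm α)]; congr 1
      map_mul' := fun g h => by rw [← map_mul]; congr 1 }
  have hval : ∀ g, ∀ y ∈ Δ, ψ g y = (g.1 : Perm α) y := fun g y hy => by
    change Perm.ofSubtype _ y = _
    rw [Perm.ofSubtype_apply_of_mem _ hy]
    rfl
  have hout : ∀ g, ∀ y, y ∉ Δ → ψ g y = y := fun g y hy => ofSubtype_mem_supp _ y hy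
  have hrange : ψ.range = ind G Δ := by
    refine le_antisymm ?_ ?_
    · rintro _ ⟨g, rfl⟩
      exact ⟨hout g, g.1, g.1.2, fun y hy => (hval g y hy).symm⟩
    · rintro σ ⟨hσ, g, hg, hgσ⟩
      have h : Δ.image g = Δ := by
        refine Finset.eq_of_subset_of_card_le (fun y hy => ?_)
          (by rw [Finset.card_image_of_injective _ g.injective])
        obtain ⟨z, hz, rfl⟩ := Finset.mem_image.1 hy
        rw [hgσ z hz]
        exact apply_mem_of_supp hσ hz
      refine ⟨⟨⟨g, hg⟩, Subtype.ext h⟩, Equiv.ext fun y => ?_⟩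
      by_cases hy : y ∈ Δ
      · rw [hval _ y hy]; exact hgσ y hy
      · rw [hout _ y hy, hσ y hy]
  rw [← Subgroup.index_mul_card ψ.ker, Subgroup.index_ker, hrange]
  congr 1
  refine Nat.card_congr ⟨fun g => ⟨(g.1.1 : Perm α), mem_fixer.2 ⟨g.1.1.2, fun y hy => ?_⟩⟩,
    fun g => ⟨⟨⟨g.1, (mem_fixer.1 g.2).1⟩, Subtype.ext ?_⟩, ?_⟩, fun g => rfl, fun g => rfl⟩
  · rw [← hval g.1 y hy, g.2]
    rfl
  · exact (Finset.image_congr fun y hy => (mem_fixer.1 g.2).2 y hy).trans Finset.image_id'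
  · refine Equiv.ext fun y => ?_
    by_cases hy : y ∈ Δ
    · rw [hval _ y hy]; exact (mem_fixer.1 g.2).2 y hy
    · rw [hout _ y hy]; rfl

/-- The arithmetical consequences. -/
theorem moment (hT : Trans G j) (hnt : ¬ Trans G (j + 1))
    (hn : j + 2 ≤ Fintype.card α)
    (hh1 : MulAction.IsPretransitive G (Set.powersetCard α (j + 1)))
    (hh : MulAction.IsPretransitive G (Set.powersetCard α (j + 2))) :
    ∃ r D X e : ℕ, 2 ≤ r ∧ 1 ≤ D ∧ r * e = (j + 1).factorial ∧ Fintype.card α = j + r * D ∧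
      (j + 2).factorial * (D - 1) = r * (r * D - 1) * X ∧
      (∀ Δ : Finset α, Δ.card = j + 1 → Nat.card (ind G Δ) = e) ∧
      (∀ S : Finset α, S.card = j → ∀ x, x ∉ S → (orb G S x).card = D) ∧
      (∀ Δ : Finset α, Δ.card = j + 1 →
        Nat.card G = (Fintype.card α).descFactorial j * (D * Nat.card (fixer G Δ))) := by
  classical
  set n := Fintype.card α
  obtain ⟨Δ₀, -, hΔ₀⟩ := Finset.exists_subset_card_eq (s := (Finset.univ : Finset α)) (n := j + 1)
    (by rw [Finset.card_univ]; omega)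
  have he : ∀ Δ : Finset α, Δ.card = j + 1 → Nat.card (ind G Δ) = Nat.card (ind G Δ₀) := by
    intro Δ hΔ
    obtain ⟨g, hg, rfl⟩ := homog_of_pretransitive hh1 Δ₀ Δ hΔ₀ hΔ
    exact card_ind_image hg
  obtain ⟨e, hedef⟩ : ∃ e, e = Nat.card (ind G Δ₀) := ⟨_, rfl⟩
  have hepos : 0 < e := hedef ▸ Nat.card_pos
  have hdesc : n.descFactorial (j + 1) = n.descFactorial j * (n - j) := by
    rw [Nat.descFactorial_succ, mul_comm]
  have hdesc0 : 0 < n.descFactorial j := Nat.descFactorial_pos.2 (by omega)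
  have horb : ∀ S : Finset α, S.card = j → ∀ x, x ∉ S →
      (orb G S x).card * (j + 1).factorial = (n - j) * e := by
    intro S hS x hx
    have hins : (insert x S).card = j + 1 := by rw [Finset.card_insert_of_notMem hx, hS]
    have h1 := card_eq_desc_mul hT hS
    rw [card_fixer_eq_orb_mul S x, card_eq_choose_mul hh1 hins, he _ hins, ← hedef,
      ← mul_assoc, ← mul_assoc] at h1
    have h2 := Nat.eq_of_mul_eq_mul_right Nat.card_pos h1
    have h3 : n.descFactorial (j + 1) * e =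
        n.descFactorial j * ((orb G S x).card * (j + 1).factorial) := by
      rw [Nat.descFactorial_eq_factorial_mul_choose, mul_assoc, h2]
      ring
    rw [hdesc, mul_assoc] at h3
    exact (Nat.eq_of_mul_eq_mul_left hdesc0 h3).symm
  obtain ⟨x₀, hx₀⟩ := Finset.card_pos.1 (show 0 < Δ₀.card by omega)
  have hS₀ : (Δ₀.erase x₀).card = j := by rw [Finset.card_erase_of_mem hx₀]; omega
  obtain ⟨D, hDdef⟩ : ∃ D, D = (orb G (Δ₀.erase x₀) x₀).card := ⟨_, rfl⟩
  have hD : ∀ S : Finset α, S.card = j → ∀ x, x ∉ S → (orb G S x).card = D := fun S hS x hx =>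
    Nat.eq_of_mul_eq_mul_right (Nat.factorial_pos _) (by
      rw [horb S hS x hx, hDdef, horb _ hS₀ x₀ (Finset.notMem_erase _ _)])
  have hDpos : 1 ≤ D := hDdef ▸ Finset.card_pos.2 ⟨_, self_mem_orb _ _⟩
  obtain ⟨r, hr⟩ := hΔ₀ ▸ hedef ▸ card_ind_dvd (G := G) Δ₀
  have hr2 : 2 ≤ r := by
    rcases Nat.lt_or_ge r 2 with h | h
    · interval_cases r
      · exact absurd (hr.trans (mul_zero e)) (Nat.factorial_ne_zero _)
      · refine absurd (trans_of_ind (by omega) (homog_of_pretransitive hh1) fun Δ hΔ => ?_) hnt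
        refine ind_full_of_card ?_
        rw [he Δ hΔ, ← hedef, hΔ, hr, mul_one]
    · exact h
  have hnj : n - j = r * D := by
    have h := horb _ hS₀ x₀ (Finset.notMem_erase _ _)
    rw [← hDdef, hr] at h
    exact (Nat.eq_of_mul_eq_mul_right hepos (by rw [← h]; ring)).symm
  -- the second count
  let t₀ : Fin j ↪ α :=
    ((Δ₀.erase x₀).equivFinOfCardEq hS₀).symm.toEmbedding.trans (Function.Embedding.subtype _)
  have ht₀ : ∀ z, z ∈ Δ₀.erase x₀ ↔ ∃ i, t₀ i = z := fun z =>
    ⟨fun hz => ⟨(Δ₀.erase x₀).equivFinOfCardEq hS₀ ⟨z, hz⟩, by simp [t₀]⟩,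
      fun ⟨i, hi⟩ => hi ▸ (((Δ₀.erase x₀).equivFinOfCardEq hS₀).symm i).2⟩
  let O : (Fin j ↪ α) → α → Prop := fun t x => ∃ g ∈ G, (∀ i, g (t₀ i) = t i) ∧ g x₀ = x
  let P : Finset ((Fin j ↪ α) × α × α) :=
    Finset.univ.filter fun p => p.2.1 ≠ p.2.2 ∧ O p.1 p.2.1 ∧ O p.1 p.2.2
  have : MulAction.IsPretransitive G (Fin j ↪ α) := mult_of_trans hT
  have hP : P.card = n.descFactorial j * (D * D - D) := by
    rw [Finset.card_eq_sum_card_fiberwise (f := Prod.fst) (t := Finset.univ) (fun _ _ => by simp),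
      show n.descFactorial j = Fintype.card (Fin j ↪ α) by
        rw [Fintype.card_embedding_eq, Fintype.card_fin], ← Finset.card_univ, ← smul_eq_mul,
      ← Finset.sum_const]
    refine Finset.sum_congr rfl fun t _ => ?_
    obtain ⟨g, hg⟩ := MulAction.exists_smul_eq G t₀ t
    have hgt : ∀ i, (g : Perm α) (t₀ i) = t i := fun i => DFunLike.congr_fun hg i
    have hO : ∀ x, O t x ↔ x ∈ (orb G (Δ₀.erase x₀) x₀).image (g : Perm α) := fun x => by
      simp only [O, Finset.mem_image, mem_orb]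
      constructor
      · rintro ⟨h, hh, hht, rfl⟩
        refine ⟨_, ⟨(g : Perm α)⁻¹ * h, mem_fixer.2 ⟨G.mul_mem (G.inv_mem g.2) hh, fun z hz => ?_⟩,
          rfl⟩, by simp⟩
        obtain ⟨i, rfl⟩ := (ht₀ z).1 hz
        rw [Perm.mul_apply, hht, ← hgt]
        simp
      · rintro ⟨_, ⟨h, hh, rfl⟩, rfl⟩
        exact ⟨(g : Perm α) * h, G.mul_mem g.2 (mem_fixer.1 hh).1, fun i => by
          rw [Perm.mul_apply, (mem_fixer.1 hh).2 _ ((ht₀ _).2 ⟨i, rfl⟩), hgt], rfl⟩
    rw [hDdef, ← Finset.card_image_of_injective _ (g : Perm α).injective, ← Finset.offDiag_card]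
    refine Finset.card_bij' (fun p _ => p.2) (fun u _ => (t, u)) ?_ ?_ ?_ ?_
    · intro p hp
      simp only [P, Finset.mem_filter, Finset.mem_univ, true_and] at hp
      obtain ⟨⟨h1, h2, h3⟩, rfl⟩ := hp
      exact Finset.mem_offDiag.2 ⟨(hO _).1 h2, (hO _).1 h3, h1⟩
    · intro u hu
      obtain ⟨h1, h2, h3⟩ := Finset.mem_offDiag.1 hu
      simp only [P, Finset.mem_filter, Finset.mem_univ, true_and]
      exact ⟨⟨h3, (hO _).2 h1, (hO _).2 h2⟩, trivial⟩
    · intro p hp
      exact Prod.ext (Finset.mem_filter.1 hp).2.symm rfl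
    · intros; rfl
  let f : (Fin j ↪ α) × α × α → Finset α := fun p => insert p.2.1 (insert p.2.2 (Finset.univ.image p.1))
  have hOout : ∀ t x, O t x → x ∉ Finset.univ.image t := by
    rintro t x ⟨g, -, hgt, rfl⟩ h
    obtain ⟨i, -, hi⟩ := Finset.mem_image.1 h
    rw [← hgt i] at hi
    exact Finset.notMem_erase x₀ Δ₀ (g.injective hi ▸ (ht₀ _).2 ⟨i, rfl⟩)
  have hf : ∀ p ∈ P, (f p).card = j + 2 := by
    intro p hp
    obtain ⟨h1, h2, h3⟩ := (Finset.mem_filter.1 hp).2
    rw [Finset.card_insert_of_notMem (by simp only [Finset.mem_insert, not_or]; exact ⟨h1, hOout _ _ h2⟩),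
      Finset.card_insert_of_notMem (hOout _ _ h3), Finset.card_image_of_injective _ p.1.injective,
      Finset.card_univ, Fintype.card_fin]
  have hfib : ∀ (Φ : Finset α) (g : Perm α), g ∈ G →
      (P.filter fun p => f p = Φ).card ≤ (P.filter fun p => f p = Φ.image g).card := by
    intro Φ g hg
    refine Finset.card_le_card_of_injOn
      (fun p => (p.1.trans g.toEmbedding, g p.2.1, g p.2.2)) ?_ ?_
    · intro p hp
      simp only [Finset.mem_coe, Finset.mem_filter, P, Finset.mem_univ, true_and] at hp ⊢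
      obtain ⟨⟨h1, ⟨a, ha, hat, hax⟩, b, hb, hbt, hbx⟩, rfl⟩ := hp
      refine ⟨⟨g.injective.ne h1, ⟨g * a, G.mul_mem hg ha, fun i => ?_, ?_⟩,
        ⟨g * b, G.mul_mem hg hb, fun i => ?_, ?_⟩⟩, ?_⟩
      · simp [Perm.mul_apply, hat]
      · rw [Perm.mul_apply, hax]
      · simp [Perm.mul_apply, hbt]
      · rw [Perm.mul_apply, hbx]
      · simp only [f, Finset.image_insert, Finset.image_image]
        rfl
    · intro p _ q _ e
      simp only [Prod.mk.injEq] at e
      refine Prod.ext (Function.Embedding.ext fun i => g.injective ?_)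
        (Prod.ext (g.injective e.2.1) (g.injective e.2.2))
      exact DFunLike.congr_fun e.1 i
  obtain ⟨Φ₀, -, hΦ₀⟩ := Finset.exists_subset_card_eq (s := (Finset.univ : Finset α)) (n := j + 2)
    (by rw [Finset.card_univ]; omega)
  have hPX : P.card = n.choose (j + 2) * (P.filter fun p => f p = Φ₀).card := by
    rw [Finset.card_eq_sum_card_fiberwise (f := f) (t := Finset.univ.powersetCard (j + 2))
      (fun p hp => Finset.mem_powersetCard.2 ⟨Finset.subset_univ _, hf p hp⟩),
      show n.choose (j + 2) = ((Finset.univ : Finset α).powersetCard (j + 2)).card by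
        rw [Finset.card_powersetCard, Finset.card_univ], ← smul_eq_mul, ← Finset.sum_const]
    refine Finset.sum_congr rfl fun Φ hΦ => le_antisymm ?_ ?_
    · obtain ⟨g, hg, e⟩ := homog_of_pretransitive hh Φ Φ₀ (Finset.mem_powersetCard.1 hΦ).2 hΦ₀
      exact e ▸ hfib Φ g hg
    · obtain ⟨g, hg, e⟩ := homog_of_pretransitive hh Φ₀ Φ hΦ₀ (Finset.mem_powersetCard.1 hΦ).2
      exact e ▸ hfib Φ₀ g hg
  obtain ⟨X, hX⟩ : ∃ X, X = (P.filter fun p => f p = Φ₀).card := ⟨_, rfl⟩
  rw [← hX, hP] at hPX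
  refine ⟨r, D, X, e, hr2, hDpos, by rw [hr, mul_comm], by omega, ?_, fun Δ hΔ => (he Δ hΔ).trans hedef.symm,
    hD, fun Δ hΔ => ?_⟩
  · have h1 : n.descFactorial j * ((D * D - D) * (j + 2).factorial) =
        n.descFactorial j * ((n - j) * ((n - (j + 1)) * X)) := by
      rw [← mul_assoc, hPX, mul_assoc, mul_comm X, ← mul_assoc, mul_comm (n.choose _),
        ← Nat.descFactorial_eq_factorial_mul_choose, Nat.descFactorial_succ, hdesc]
      ring
    have h2 := Nat.eq_of_mul_eq_mul_left hdesc0 h1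
    rw [show n - (j + 1) = r * D - 1 by omega, hnj, show D * D - D = D * (D - 1) by
      rw [Nat.mul_sub, mul_one]] at h2
    refine Nat.eq_of_mul_eq_mul_left (show 0 < D by omega) ?_
    calc D * ((j + 2).factorial * (D - 1)) = D * (D - 1) * (j + 2).factorial := by ring
      _ = _ := by rw [h2]; ring
  · obtain ⟨x, hx⟩ := Finset.card_pos.1 (show 0 < Δ.card by omega)
    have hS : (Δ.erase x).card = j := by rw [Finset.card_erase_of_mem hx]; omega
    rw [card_eq_desc_mul hT hS, card_fixer_eq_orb_mul _ x, hD _ hS x (Finset.notMem_erase _ _),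
      Finset.insert_erase hx]

/-- When the orbits are single points, the stabiliser is trivial. -/
theorem fixer_eq_bot_of_orb_card_one {S : Finset α}
    (h : ∀ x, x ∉ S → (orb G S x).card = 1) : fixer G S = ⊥ := by
  refine (Subgroup.eq_bot_iff_forall _).2 fun g hg => Equiv.ext fun x => ?_
  by_cases hx : x ∈ S
  · exact (mem_fixer.1 hg).2 x hx
  · exact Finset.card_le_one.1 (h x hx).le _ (mem_orb.2 ⟨g, hg, rfl⟩) _ (self_mem_orb S x)

end Cfsg.Agent.Lib.Homogeneous
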