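import Cfsg.Agent.Lib.Homogeneous.Lift

/-!
# A `k`-transitive group cannot induce exactly the alternating group on all `(k+1)`-sets

(unless the degree is at most `k + 2`; here `k ≥ 4`).
-/

set_option autoImplicit false

namespace Cfsg.Agent.Lib.Homogeneous

open Equiv

variable {α : Type*} [Fintype α] [DecidableEq α] {G : Subgroup (Perm α)}

omit [Fintype α] in
theorem pairs_apply {a b c d : α} (hac : a ≠ c) (had : a ≠ d) (hbc : b ≠ c) (hbd : b ≠ d) :
    (swap a b * swap c d) a = b ∧ (swap a b * swap c d) b = a ∧ (swap a b * swap c d) c = d ∧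
      (swap a b * swap c d) d = c ∧
      ∀ x, x ≠ a → x ≠ b → x ≠ c → x ≠ d → (swap a b * swap c d) x = x := by
  refine ⟨?_, ?_, ?_, ?_, fun x h1 h2 h3 h4 => ?_⟩
  · rw [Perm.mul_apply, swap_apply_of_ne_of_ne hac had, swap_apply_left]
  · rw [Perm.mul_apply, swap_apply_of_ne_of_ne hbc hbd, swap_apply_right]
  · rw [Perm.mul_apply, swap_apply_left, swap_apply_of_ne_of_ne had.symm hbd.symm]
  · rw [Perm.mul_apply, swap_apply_right, swap_apply_of_ne_of_ne hac.symm hbc.symm]
  · rw [Perm.mul_apply, swap_apply_of_ne_of_ne h3 h4, swap_apply_of_ne_of_ne h1 h2]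

omit [Fintype α] in
theorem pairs_mem {S : Finset α} {a b c d : α} (ha : a ∈ S) (hb : b ∈ S) (hc : c ∈ S) (hd : d ∈ S)
    {x : α} (hx : x ∈ S) : (swap a b * swap c d) x ∈ S := by
  have key : ∀ u v y : α, u ∈ S → v ∈ S → y ∈ S → swap u v y ∈ S := by
    intro u v y hu hv hy
    rw [swap_apply_def]
    split_ifs <;> assumption
  rw [Perm.mul_apply]
  exact key _ _ _ ha hb (key _ _ _ hc hd hx)

omit [Fintype α] in
theorem pairs_sq {a b c d : α} (hac : a ≠ c) (had : a ≠ d) (hbc : b ≠ c) (hbd : b ≠ d) :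
    (swap a b * swap c d) * (swap a b * swap c d) = 1 := by
  obtain ⟨h1, h2, h3, h4, h5⟩ := pairs_apply hac had hbc hbd
  refine Equiv.ext fun x => ?_
  rw [Perm.mul_apply, Perm.one_apply]
  by_cases x1 : x = a
  · rw [x1, h1, h2]
  by_cases x2 : x = b
  · rw [x2, h2, h1]
  by_cases x3 : x = c
  · rw [x3, h3, h4]
  by_cases x4 : x = d
  · rw [x4, h4, h3]
  rw [h5 x x1 x2 x3 x4, h5 x x1 x2 x3 x4]

theorem mem_fix_conj {g w : Perm α} {x : α} : x ∈ fix (w * g * w⁻¹) ↔ w⁻¹ x ∈ fix g := by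
  rw [mem_fix, mem_fix, Perm.mul_apply, Perm.mul_apply, Perm.eq_inv_iff_eq]

/-- Few fixed points: with no induced transposition on `(k+1)`-sets. -/
theorem card_fix_le_of_noSwap {k : ℕ} (hk : 1 ≤ k)
    (hno : ∀ Δ : Finset α, Δ.card = k + 1 → NoSwap G Δ)
    {i : Perm α} (hi : i ∈ G) (hii : i * i = 1) (hne : i ≠ 1) : (fix i).card + 2 ≤ k := by
  by_contra hc
  obtain ⟨x, hx⟩ : ∃ x, i x ≠ x := by
    by_contra! h
    exact hne (Equiv.ext h)
  obtain ⟨R, hR, hRc⟩ := Finset.exists_subset_card_eq (s := fix i) (n := k - 1) (by omega)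
  have hxR : ∀ y, i y ≠ y → y ∉ R := fun y hy h => hy (mem_fix.1 (hR h))
  have hix : i (i x) ≠ i x := fun h => hx (i.injective h)
  refine hno (insert x (insert (i x) R)) ?_ x (by simp) (i x) (by simp) (Ne.symm hx)
    ⟨fun y hy => ?_, i, hi, fun y hy => ?_⟩
  · rw [Finset.card_insert_of_notMem (by simp [hxR x hx, Ne.symm hx]),
      Finset.card_insert_of_notMem (hxR _ hix), hRc]
    omega
  · simp only [Finset.mem_insert, not_or] at hy
    exact swap_apply_of_ne_of_ne hy.1 hy.2.1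
  · simp only [Finset.mem_insert] at hy
    rcases hy with rfl | rfl | hy
    · rw [swap_apply_left]
    · rw [swap_apply_right, inv_apply_self hii]
    · rw [swap_apply_of_ne_of_ne (by rintro rfl; exact hxR _ hx hy) (by rintro rfl; exact hxR _ hix hy)]
      exact mem_fix.1 (hR hy)

section

variable {k : ℕ} (hk : 4 ≤ k) (hn : k + 3 ≤ Fintype.card α) (hT : Trans G k)
  (hA : ∀ Δ : Finset α, Δ.card = k + 1 → FullAlt G Δ)
  (hno : ∀ Δ : Finset α, Δ.card = k + 1 → NoSwap G Δ)

include hk hno in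
theorem odd_fixer_of_noSwap {S : Finset α} (hS : k ≤ S.card) : Odd (Nat.card (fixer G S)) := by
  refine odd_fixer_of fun i hi hii => by_contra fun hne => ?_
  obtain ⟨hiG, hiS⟩ := mem_fixer.1 hi
  have h1 := card_fix_le_of_noSwap (by omega) hno hiG hii hne
  have h2 : S.card ≤ (fix i).card := Finset.card_le_card fun x hx => mem_fix.2 (hiS x hx)
  omega

include hk hT hno in
/-- A transposition lift fixes only the obvious `k - 2` points. -/
theorem fix_lift_swap {S : Finset α} (hS : S.card = k) {a b : α} (ha : a ∈ S) (hb : b ∈ S)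
    (hab : a ≠ b) {j : Perm α} (hj : j ∈ lifts G S (swap a b)) :
    fix j = S \ {a, b} := by
  obtain ⟨hjG, hjj, hjS⟩ := hj
  have hne : j ≠ 1 := fun h => hab (by have := hjS a ha; rw [h, swap_apply_left] at this; exact this)
  have hsub : S \ {a, b} ⊆ fix j := fun x hx => by
    simp only [Finset.mem_sdiff, Finset.mem_insert, Finset.mem_singleton, not_or] at hx
    rw [mem_fix, hjS x hx.1, swap_apply_of_ne_of_ne hx.2.1 hx.2.2]
  refine (Finset.eq_of_subset_of_card_le hsub ?_).symm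
  have h1 := card_fix_le_of_noSwap (by omega) hno hjG hjj hne
  rw [Finset.card_sdiff_of_subset (by simp [Finset.insert_subset_iff, ha, hb]), Finset.card_pair hab, hS]
  omega

include hk hn hT hA hno

theorem parity_of_noSwap : (Fintype.card α) % 2 = k % 2 := by
  obtain ⟨S, -, hS⟩ := Finset.exists_subset_card_eq (s := (Finset.univ : Finset α)) (n := k)
    (by rw [Finset.card_univ]; omega)
  obtain ⟨a, ha, b, hb, hab⟩ := Finset.one_lt_card.1 (show 1 < S.card by omega)
  have hodd := odd_fixer_of_noSwap hk hno (S := S) hS.ge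
  obtain ⟨g, hg, hgS⟩ := hT S (swap a b) hS.le (swap a b).injective.injOn
  obtain ⟨j, hj⟩ := lifts_nonempty hodd (swap_mul_self a b) (fun x hx => by
    rw [swap_apply_def]; split_ifs <;> assumption) hg hgS
  have h1 := card_fix_parity hj.2.1
  rw [fix_lift_swap hk hT hno hS ha hb hab hj, Finset.card_sdiff_of_subset
    (by simp [Finset.insert_subset_iff, ha, hb]), Finset.card_pair hab, hS] at h1
  omega

/-- Commuting lifts of two double transpositions have the same fixed points outside. -/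
theorem fix_eq_of_commuting_lifts {S : Finset α} (hS : S.card = k) {a b c d : α} (ha : a ∈ S)
    (hb : b ∈ S) (hc : c ∈ S) (hd : d ∈ S) (hab : a ≠ b) (hac : a ≠ c) (had : a ≠ d) (hbc : b ≠ c)
    (hbd : b ≠ d) (hcd : c ≠ d) {i₁ i₂ : Perm α} (h₁ : i₁ ∈ lifts G S (swap a b * swap c d))
    (h₂ : i₂ ∈ lifts G S (swap a c * swap b d)) (hcomm : i₁ * i₂ = i₂ * i₁) :
    fix i₁ \ S = fix i₂ \ S := by
  obtain ⟨e, -, he⟩ := Finset.exists_mem_notMem_of_card_lt_card (s := S) (t := Finset.univ)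
    (by rw [Finset.card_univ]; omega)
  have hSe : (insert e S).card = k + 1 := by rw [Finset.card_insert_of_notMem he, hS]
  obtain ⟨p1, p2, p3, p4, p5⟩ := pairs_apply hac had hbc hbd
  obtain ⟨q1, q2, q3, q4, q5⟩ := pairs_apply hab had hbc.symm hcd
  set π := swap a b * swap c d with hπdef
  set ρ := swap a c * swap b d with hρdef
  have hne : ∀ u ∈ S, e ≠ u := fun u hu h => he (h ▸ hu)
  have hπe : π e = e := p5 e (hne a ha) (hne b hb) (hne c hc) (hne d hd)
  have hρe : ρ e = e := q5 e (hne a ha) (hne c hc) (hne b hb) (hne d hd)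
  have hπm : ∀ x ∈ insert e S, π x ∈ insert e S := fun x hx => pairs_mem
    (Finset.mem_insert_of_mem ha) (Finset.mem_insert_of_mem hb) (Finset.mem_insert_of_mem hc)
    (Finset.mem_insert_of_mem hd) hx
  have hρm : ∀ x ∈ insert e S, ρ x ∈ insert e S := fun x hx => pairs_mem
    (Finset.mem_insert_of_mem ha) (Finset.mem_insert_of_mem hc) (Finset.mem_insert_of_mem hb)
    (Finset.mem_insert_of_mem hd) hx
  have hodd' := odd_fixer_of_noSwap hk hno (S := insert e S) (by omega)
  have hind : ∀ u v w x : α, u ∈ S → v ∈ S → w ∈ S → x ∈ S → u ≠ v → w ≠ x →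
      swap u v * swap w x ∈ ind G (insert e S) := fun u v w x hu hv hw hx huv hwx => by
    refine hA _ hSe _ (fun y hy => ?_) (by rw [Perm.sign_mul, Perm.sign_swap huv, Perm.sign_swap hwx]; rfl)
    have hy' : y ∉ S := fun h => hy (Finset.mem_insert_of_mem h)
    rw [Perm.mul_apply, swap_apply_of_ne_of_ne (show y ≠ w from fun e => hy' (e ▸ hw)) (show y ≠ x from fun e => hy' (e ▸ hx)),
      swap_apply_of_ne_of_ne (show y ≠ u from fun e => hy' (e ▸ hu)) (show y ≠ v from fun e => hy' (e ▸ hv))]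
  obtain ⟨-, g, hg, hgS⟩ := hind a b c d ha hb hc hd hab hcd
  obtain ⟨i, hi⟩ := lifts_nonempty hodd' (pairs_sq hac had hbc hbd) hπm hg hgS
  obtain ⟨-, g', hg', hgS'⟩ := hind a c b d ha hc hb hd hac hbd
  have hiπ : ∀ x ∈ insert e S, i x = π x := hi.2.2
  obtain ⟨i', hi', hii'⟩ := exists_lift_commute hodd' hρm
    (lifts_nonempty hodd' (pairs_sq hab had hbc.symm hcd) hρm hg' hgS') hi.1 hi.2.1
    (fun x hx => by rw [hiπ x hx]; exact hπm x hx) (fun x hx => by
      rw [hiπ x hx, hiπ _ (hρm _ (hπm x hx))]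
      by_cases x1 : x = a
      · rw [x1, p1, q3, p4, q1]
      by_cases x2 : x = b
      · rw [x2, p2, q1, p3, q3]
      by_cases x3 : x = c
      · rw [x3, p3, q4, p2, q2]
      by_cases x4 : x = d
      · rw [x4, p4, q2, p1, q4]
      rw [p5 x x1 x2 x3 x4, q5 x x1 x3 x2 x4, p5 x x1 x2 x3 x4])
  -- `i` and `i'` have the same two fixed points outside `S`
  have hout : ∀ (u v w x : α) (t : Perm α), u ∈ S → v ∈ S → w ∈ S → x ∈ S → u ≠ v → u ≠ w → u ≠ x →
      v ≠ w → v ≠ x → w ≠ x → t ∈ lifts G (insert e S) (swap u v * swap w x) →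
      (fix t \ S).card = 2 ∧ e ∈ fix t := by
    intro u v w x t hu hv hw hx huv huw hux hvw hvx hwx ht
    obtain ⟨r1, r2, r3, r4, r5⟩ := pairs_apply huw hux hvw hvx
    obtain ⟨htG, htt, htS⟩ := ht
    have hte : e ∈ fix t := by
      rw [mem_fix, htS e (Finset.mem_insert_self e S),
        r5 e (hne u hu) (hne v hv) (hne w hw) (hne x hx)]
    refine ⟨?_, hte⟩
    have hsub : S \ {u, v, w, x} = fix t ∩ S := by
      ext y
      simp only [Finset.mem_sdiff, Finset.mem_insert, Finset.mem_singleton, Finset.mem_inter, mem_fix, not_or]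
      constructor
      · rintro ⟨hy, y1, y2, y3, y4⟩
        exact ⟨(htS y (Finset.mem_insert_of_mem hy)).trans (r5 y y1 y2 y3 y4), hy⟩
      · rintro ⟨hy, hyS⟩
        rw [htS y (Finset.mem_insert_of_mem hyS)] at hy
        refine ⟨hyS, ?_, ?_, ?_, ?_⟩ <;> rintro rfl
        · exact huv (r1 ▸ hy).symm
        · exact huv (r2 ▸ hy)
        · exact hwx (r3 ▸ hy).symm
        · exact hwx (r4 ▸ hy)
    have hfour : ({u, v, w, x} : Finset α).card = 4 :=
      Finset.card_eq_four.2 ⟨u, v, w, x, huv, huw, hux, hvw, hvx, hwx, rfl⟩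
    have hc1 : (fix t ∩ S).card = k - 4 := by
      rw [← hsub, Finset.card_sdiff_of_subset (by simp [Finset.insert_subset_iff, hu, hv, hw, hx]),
        hfour, hS]
    have hne1 : t ≠ 1 := fun h => huv (by
      have := htS u (Finset.mem_insert_of_mem hu); rw [h, r1] at this; exact this)
    have h1 := card_fix_le_of_noSwap (by omega) hno htG htt hne1
    have h2 := card_fix_parity htt
    have h3 := parity_of_noSwap hk hn hT hA hno
    have h4 := Finset.card_inter_add_card_sdiff (fix t) S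
    have h5 : 0 < (fix t \ S).card := Finset.card_pos.2 ⟨e, Finset.mem_sdiff.2 ⟨hte, he⟩⟩
    omega
  obtain ⟨hci, hei⟩ := hout a b c d i ha hb hc hd hab hac had hbc hbd hcd hi
  obtain ⟨hci', hei'⟩ := hout a c b d i' ha hc hb hd hac hab had hbc.symm hcd hbd hi'
  have hpres : ∀ (t t' : Perm α), t * t' = t' * t → (∀ x ∈ S, t x ∈ S) → t * t = 1 →
      ∀ y ∈ fix t' \ S, t y ∈ fix t' \ S := by
    intro t t' hc' htS htt y hy
    rw [Finset.mem_sdiff] at hy ⊢
    refine ⟨apply_mem_fix hc' hy.1, fun h => hy.2 ?_⟩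
    have := htS _ h
    rwa [inv_apply_self htt] at this
  have heq : fix i \ S = fix i' \ S := by
    have hiS : ∀ x ∈ S, i x ∈ S := fun x hx => by
      rw [hiπ x (Finset.mem_insert_of_mem hx)]; exact pairs_mem ha hb hc hd hx
    refine (Finset.eq_of_subset_of_card_le (fun y hy => ?_) (by omega)).symm
    have hy2 := hpres i i' hii' hiS hi.2.1 y hy
    by_cases hye : y = e
    · rw [hye]; exact Finset.mem_sdiff.2 ⟨hei, he⟩
    have hy3 : i y = y := by
      by_contra hne'
      have h6 : ({e, y, i y} : Finset α) ⊆ fix i' \ S :=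
        Finset.insert_subset (Finset.mem_sdiff.2 ⟨hei', he⟩)
          (Finset.insert_subset hy (Finset.singleton_subset_iff.2 hy2))
      have h7 := Finset.card_le_card h6
      rw [Finset.card_eq_three.2 ⟨e, y, i y, Ne.symm hye,
        fun h => hye (i.injective ((mem_fix.1 hei).trans h)).symm, Ne.symm hne', rfl⟩, hci'] at h7
      omega
    exact Finset.mem_sdiff.2 ⟨mem_fix.2 hy3, (Finset.mem_sdiff.1 hy).2⟩
  -- transport to the given pair
  have hodd := odd_fixer_of_noSwap hk hno (S := S) hS.ge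
  have hres : ∀ {t σ}, t ∈ lifts G (insert e S) σ → t ∈ lifts G S σ := fun {t σ} ht =>
    ⟨ht.1, ht.2.1, fun x hx => ht.2.2 x (Finset.mem_insert_of_mem hx)⟩
  obtain ⟨w, hw, hw1⟩ := exists_conj_lift hodd (fun x hx => pairs_mem ha hb hc hd hx) (hres hi) h₁
  set C : Subgroup (Perm α) := G ⊓ Subgroup.centralizer {i₁} with hC
  have hCc : ∀ g, g ∈ C ↔ g ∈ G ∧ i₁ * g = g * i₁ := fun g => by
    simp [hC, Subgroup.mem_centralizer_singleton_iff, eq_comm]
  have hwt : w * i' * w⁻¹ ∈ lifts C S ρ := by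
    obtain ⟨m1, m2, m3⟩ := mem_lifts_conj (fun x hx => pairs_mem ha hc hb hd hx) (hres hi') hw
    refine ⟨(hCc _).2 ⟨m1, ?_⟩, m2, m3⟩
    rw [hw1, show w * i * w⁻¹ * (w * i' * w⁻¹) = w * (i * i') * w⁻¹ by group, hii']
    group
  have h₂' : i₂ ∈ lifts C S ρ := ⟨(hCc _).2 ⟨h₂.1, hcomm⟩, h₂.2.1, h₂.2.2⟩
  have hoddC : Odd (Nat.card (fixer C S)) := odd_fixer_of fun g hg hgg => by_contra fun hne' => by
    obtain ⟨hgC, hgS⟩ := mem_fixer.1 hg
    have h1 := card_fix_le_of_noSwap (by omega) hno ((hCc g).1 hgC).1 hgg hne'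
    have h2 : S.card ≤ (fix g).card := Finset.card_le_card fun x hx => mem_fix.2 (hgS x hx)
    omega
  obtain ⟨u, hu, hu1⟩ := exists_conj_lift hoddC (fun x hx => pairs_mem ha hc hb hd hx) hwt h₂'
  obtain ⟨huC, huS⟩ := mem_fixer.1 hu
  have hwS := (mem_fixer.1 hw).2
  have hinvS : ∀ (g : Perm α), (∀ x ∈ S, g x = x) → ∀ y, g⁻¹ y ∈ S ↔ y ∈ S := fun g hgS y => by
    constructor
    · intro h
      have := hgS _ h
      rw [Perm.coe_inv, Equiv.apply_symm_apply] at this
      rw [this]; exact h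
    · intro h
      rwa [show g⁻¹ y = y by rw [Perm.inv_eq_iff_eq, hgS y h]]
  have key : ∀ y, (y ∈ fix i₁ ∧ y ∉ S) ↔ (y ∈ fix (w * i' * w⁻¹) ∧ y ∉ S) := fun y => by
    have h0 := (Finset.ext_iff.1 heq) (w⁻¹ y)
    simp only [Finset.mem_sdiff, hinvS w hwS] at h0
    rw [hw1, mem_fix_conj, mem_fix_conj]
    exact h0
  ext y
  have h0 := key (u⁻¹ y)
  rw [hinvS u huS, ← mem_fix_conj (g := w * i' * w⁻¹), ← hu1, ← mem_fix_conj (g := i₁),
    show u * i₁ * u⁻¹ = i₁ by rw [← ((hCc u).1 huC).2, mul_inv_cancel_right]] at h0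
  simp only [Finset.mem_sdiff]
  exact h0

theorem not_fullAlt_noSwap : False := by
  obtain ⟨S, -, hS⟩ := Finset.exists_subset_card_eq (s := (Finset.univ : Finset α)) (n := k)
    (by rw [Finset.card_univ]; omega)
  obtain ⟨Q, hQS, hQ⟩ := Finset.exists_subset_card_eq (s := S) (n := 4) (by omega)
  obtain ⟨a, b, c, d, hab, hac, had, hbc, hbd, hcd, rfl⟩ := Finset.card_eq_four.1 hQ
  simp only [Finset.insert_subset_iff, Finset.singleton_subset_iff] at hQS
  obtain ⟨ha, hb, hc, hd⟩ := hQS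
  obtain ⟨p1, p2, p3, p4, p5⟩ := pairs_apply hac had hbc hbd
  have hodd := odd_fixer_of_noSwap hk hno (S := S) hS.ge
  have hswm : ∀ x ∈ S, swap a b x ∈ S := fun x hx => by rw [swap_apply_def]; split_ifs <;> assumption
  have hπm : ∀ x ∈ S, (swap a b * swap c d) x ∈ S := fun x hx => pairs_mem ha hb hc hd hx
  obtain ⟨g, hg, hgS⟩ := hT S (swap a b) hS.le (swap a b).injective.injOn
  obtain ⟨j, hj⟩ := lifts_nonempty hodd (swap_mul_self a b) hswm hg hgS
  obtain ⟨g', hg', hgS'⟩ := hT S (swap a b * swap c d) hS.le (Equiv.injective _).injOn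
  obtain ⟨v, hv, hjv⟩ := exists_lift_commute hodd hπm
    (lifts_nonempty hodd (pairs_sq hac had hbc hbd) hπm hg' hgS') hj.1 hj.2.1
    (fun x hx => by rw [hj.2.2 x hx]; exact hswm x hx) (fun x hx => by
      rw [hj.2.2 x hx, hj.2.2 _ (hπm _ (hswm x hx))]
      by_cases x1 : x = a
      · rw [x1, swap_apply_left, p2, swap_apply_left, p1]
      by_cases x2 : x = b
      · rw [x2, swap_apply_right, p1, swap_apply_right, p2]
      rw [swap_apply_of_ne_of_ne x1 x2]
      by_cases x3 : x = c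
      · rw [x3, p3, swap_apply_of_ne_of_ne had.symm hbd.symm]
      by_cases x4 : x = d
      · rw [x4, p4, swap_apply_of_ne_of_ne hac.symm hbc.symm]
      rw [p5 x x1 x2 x3 x4, swap_apply_of_ne_of_ne x1 x2])
  obtain ⟨hjG, hjj, hjS⟩ := hj
  obtain ⟨hvG, hvv, hvS⟩ := hv
  have hjvv : j * v * (j * v) = 1 := by
    rw [show j * v * (j * v) = j * (v * j) * v by group, ← hjv,
      show j * (j * v) * v = j * j * (v * v) by group, hjj, hvv, one_mul]
  have hjvl : j * v ∈ lifts G S (swap c d) := by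
    refine ⟨G.mul_mem hjG hvG, hjvv, fun x hx => ?_⟩
    rw [Perm.mul_apply, hvS x hx, hjS _ (hπm x hx), Perm.mul_apply, swap_apply_self]
  have hfj := fix_lift_swap hk hT hno hS ha hb hab ⟨hjG, hjj, hjS⟩
  have hfjv := fix_lift_swap hk hT hno hS hc hd hcd hjvl
  -- a point outside `S` moved by `v`
  obtain ⟨y, hy, hvy⟩ : ∃ y, y ∉ S ∧ v y ≠ y := by
    by_contra! h
    have hsub : (Finset.univ \ S) ⊆ fix v := fun y hy => mem_fix.2 (h y (Finset.mem_sdiff.1 hy).2)
    have h1 := Finset.card_le_card hsub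
    rw [Finset.card_sdiff_of_subset (Finset.subset_univ _), Finset.card_univ, hS] at h1
    have h2 := card_fix_le_of_noSwap (by omega) hno hvG hvv (fun e => hab (by
      have := hvS a ha; rw [e, p1] at this; exact this))
    have h3 : (S \ {a, b, c, d}) ⊆ fix v := fun x hx => by
      simp only [Finset.mem_sdiff, Finset.mem_insert, Finset.mem_singleton, not_or] at hx
      rw [mem_fix, hvS x hx.1, p5 x hx.2.1 hx.2.2.1 hx.2.2.2.1 hx.2.2.2.2]
    have h4 := Finset.card_le_card (Finset.union_subset hsub h3)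
    rw [Finset.card_union_of_disjoint (by
        rw [Finset.disjoint_left]
        exact fun x hx hx' => (Finset.mem_sdiff.1 hx).2 (Finset.mem_sdiff.1 hx').1),
      Finset.card_sdiff_of_subset (Finset.subset_univ _), Finset.card_univ, hS,
      Finset.card_sdiff_of_subset (by simp [Finset.insert_subset_iff, ha, hb, hc, hd]), hQ, hS] at h4
    omega
  have hout : ∀ t : Perm α, (∀ x ∈ S, t x ∈ S) → t * t = 1 → ∀ z, z ∉ S → t z ∉ S :=
    fun t ht htt z hz h => hz (by have := ht _ h; rwa [inv_apply_self htt] at this)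
  have hjm : ∀ x ∈ S, j x ∈ S := fun x hx => by rw [hjS x hx]; exact hswm x hx
  have hvm : ∀ x ∈ S, v x ∈ S := fun x hx => by rw [hvS x hx]; exact hπm x hx
  have hjy : j y ≠ y := fun h => hy (Finset.mem_sdiff.1 (hfj ▸ mem_fix.2 h)).1
  have hjvy : (j * v) y ≠ y := fun h => hy (Finset.mem_sdiff.1 (hfjv ▸ mem_fix.2 h)).1
  have o1 := hout j hjm hjj y hy
  have o2 := hout v hvm hvv y hy
  have o3 : j (v y) ∉ S := hout j hjm hjj _ o2
  set R := S \ {a, b, c, d} with hR
  have hRc : R.card = k - 4 := by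
    rw [hR, Finset.card_sdiff_of_subset (by simp [Finset.insert_subset_iff, ha, hb, hc, hd]), hQ, hS]
  have n1 : y ≠ j y := Ne.symm hjy
  have n2 : y ≠ v y := Ne.symm hvy
  have n3 : y ≠ j (v y) := Ne.symm hjvy
  have n4 : j y ≠ v y := fun h => hjvy (by rw [Perm.mul_apply, ← h, inv_apply_self hjj])
  have n5 : j y ≠ j (v y) := fun h => n2 (j.injective h)
  have n6 : v y ≠ j (v y) := fun h => hjy (by
    have h' : v (j (v y)) = v (v y) := congrArg v h.symm
    rw [inv_apply_self hvv, ← Perm.mul_apply v j, ← hjv, Perm.mul_apply, inv_apply_self hvv] at h'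
    exact h')
  set O : Finset α := {y, j y, v y, j (v y)} with hO
  have hOc : O.card = 4 :=
    Finset.card_eq_four.2 ⟨y, j y, v y, j (v y), n1, n2, n3, n4, n5, n6, rfl⟩
  have hdis : Disjoint R O := by
    rw [Finset.disjoint_left]
    intro x hx hx'
    have hxS : x ∈ S := (Finset.mem_sdiff.1 hx).1
    simp only [hO, Finset.mem_insert, Finset.mem_singleton] at hx'
    rcases hx' with rfl | rfl | rfl | rfl
    exacts [hy hxS, o1 hxS, o2 hxS, o3 hxS]
  have hS2 : (R ∪ O).card = k := by rw [Finset.card_union_of_disjoint hdis, hRc, hOc]; omega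
  have hRfix : ∀ x ∈ R, swap a b x = x ∧ (swap a b * swap c d) x = x ∧ x ∈ S := fun x hx => by
    simp only [hR, Finset.mem_sdiff, Finset.mem_insert, Finset.mem_singleton, not_or] at hx
    exact ⟨swap_apply_of_ne_of_ne hx.2.1 hx.2.2.1, p5 x hx.2.1 hx.2.2.1 hx.2.2.2.1 hx.2.2.2.2, hx.1⟩
  obtain ⟨r1, r2, r3, r4, r5⟩ := pairs_apply n2 n3 n4 n5
  obtain ⟨s1, s2, s3, s4, s5⟩ := pairs_apply n1 n3 n4.symm n6
  have hmemO : ∀ x ∈ R, x ≠ y ∧ x ≠ j y ∧ x ≠ v y ∧ x ≠ j (v y) := fun x hx => by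
    have hxS := (hRfix x hx).2.2
    exact ⟨fun e => hy (e ▸ hxS), fun e => o1 (e ▸ hxS), fun e => o2 (e ▸ hxS), fun e => o3 (e ▸ hxS)⟩
  have hj2 : j ∈ lifts G (R ∪ O) (swap y (j y) * swap (v y) (j (v y))) := by
    refine ⟨hjG, hjj, fun x hx => ?_⟩
    rcases Finset.mem_union.1 hx with h | h
    · obtain ⟨m1, m2, m3, m4⟩ := hmemO x h
      rw [r5 x m1 m2 m3 m4, hjS x (hRfix x h).2.2, (hRfix x h).1]
    · simp only [hO, Finset.mem_insert, Finset.mem_singleton] at h
      rcases h with rfl | rfl | rfl | rfl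
      · rw [r1]
      · rw [r2, inv_apply_self hjj]
      · rw [r3]
      · rw [r4, inv_apply_self hjj]
  have hv2 : v ∈ lifts G (R ∪ O) (swap y (v y) * swap (j y) (j (v y))) := by
    refine ⟨hvG, hvv, fun x hx => ?_⟩
    rcases Finset.mem_union.1 hx with h | h
    · obtain ⟨m1, m2, m3, m4⟩ := hmemO x h
      rw [s5 x m1 m3 m2 m4, hvS x (hRfix x h).2.2, (hRfix x h).2.1]
    · simp only [hO, Finset.mem_insert, Finset.mem_singleton] at h
      rcases h with rfl | rfl | rfl | rfl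
      · rw [s1]
      · rw [s3, ← Perm.mul_apply v j, ← hjv, Perm.mul_apply]
      · rw [s2, inv_apply_self hvv]
      · rw [s4, ← Perm.mul_apply v j, ← hjv, Perm.mul_apply, inv_apply_self hvv]
  have hmem : ∀ z, z ∈ O → z ∈ R ∪ O := fun z h => Finset.mem_union_right _ h
  have := fix_eq_of_commuting_lifts hk hn hT hA hno hS2 (hmem y (by simp [hO]))
    (hmem (j y) (by simp [hO])) (hmem (v y) (by simp [hO])) (hmem (j (v y)) (by simp [hO]))
    n1 n2 n3 n4 n5 n6 hj2 hv2 hjv
  have hcj : c ∈ fix j \ (R ∪ O) := by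
    refine Finset.mem_sdiff.2 ⟨hfj ▸ (by simp [hc, hac.symm, hbc.symm]), fun h => ?_⟩
    rcases Finset.mem_union.1 h with h | h
    · exact (Finset.mem_sdiff.1 h).2 (by simp)
    · simp only [hO, Finset.mem_insert, Finset.mem_singleton] at h
      rcases h with e | e | e | e
      exacts [hy (e ▸ hc), o1 (e ▸ hc), o2 (e ▸ hc), o3 (e ▸ hc)]
  rw [this, Finset.mem_sdiff, mem_fix, hvS c hc, p3] at hcj
  exact hcd hcj.1.symm

end

end Cfsg.Agent.Lib.Homogeneous
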