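import Cfsg.Agent.Lib.Homogeneous.LWBasic

/-!
# Induced dihedral groups on all 4-sets of a 3-transitive group

The graph attached to a pair of points rules out the degrees 9 and 24.
-/

set_option autoImplicit false

namespace Cfsg.Agent.Lib.Homogeneous

open Equiv

variable {α : Type*} [Fintype α] [DecidableEq α] {G : Subgroup (Perm α)}

/-- A group of order 8 on four points: transitive, with two disjoint transpositions. -/
theorem eight_facts {Δ : Finset α} (hΔ : Δ.card = 4) (h8 : Nat.card (ind G Δ) = 8) {a : α}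
    (ha : a ∈ Δ) :
    (∃ b ∈ Δ, b ≠ a ∧ swap a b ∈ ind G Δ) ∧
      (∀ b c, b ≠ a → c ≠ a → swap a b ∈ ind G Δ → swap a c ∈ ind G Δ → b = c) ∧
      ∀ b ∈ Δ, ∃ σ ∈ ind G Δ, σ a = b := by
  classical
  have : Fact (Nat.Prime 2) := ⟨Nat.prime_two⟩
  have hadj : ∀ p q s, q ≠ p → s ≠ p → swap p q ∈ ind G Δ → swap p s ∈ ind G Δ → q = s := by
    intro p q s hq hs h1 h2
    by_contra hne
    have h3 := orderOf_dvd_card_ind (mul_mem h1 h2)
    rw [(Perm.isThreeCycle_swap_mul_swap_same hq.symm hs.symm hne).orderOf, h8] at h3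
    norm_num at h3
  have hstab : ∀ p ∈ Δ, (∃ u v, u ≠ v ∧ u ∈ Δ ∧ v ∈ Δ ∧ u ≠ p ∧ v ≠ p ∧ swap u v ∈ ind G Δ) ∧
      orb (ind G Δ) ∅ p = Δ := by
    intro p hp
    have hfull : fixer (ind G Δ) ∅ = ind G Δ := by
      ext g; simp [mem_fixer]
    have h1 := card_fixer_eq_orb_mul (G := ind G Δ) ∅ p
    rw [hfull, h8] at h1
    have hsub : orb (ind G Δ) ∅ p ⊆ Δ := by
      intro q hq
      obtain ⟨g, hg, rfl⟩ := mem_orb.1 hq
      exact apply_mem_of_supp (mem_fixer.1 hg).1.1 hp
    have h2 := Finset.card_le_card hsub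
    have h3 : Nat.card (fixer (ind G Δ) (insert p ∅)) ∣ 6 := by
      have := card_dvd_factorial_of_supp (H := fixer (ind G Δ) (insert p ∅)) (Δ.erase p)
        (fun g hg z hz => by
          rcases eq_or_ne z p with rfl | hzp
          · exact (mem_fixer.1 hg).2 z (by simp)
          · exact (mem_fixer.1 hg).1.1 z fun h => hz (Finset.mem_erase.2 ⟨hzp, h⟩))
      rwa [Finset.card_erase_of_mem hp, hΔ] at this
    have h4 := Nat.le_of_dvd (by norm_num) h3
    have hne : Nat.card (fixer (ind G Δ) (insert p ∅)) = 2 := by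
      rw [hΔ] at h2
      have h5 : Nat.card (fixer (ind G Δ) (insert p ∅)) ∣ 8 := ⟨_, h1.trans (mul_comm _ _)⟩
      generalize Nat.card (fixer (ind G Δ) (insert p ∅)) = s at *
      generalize (orb (ind G Δ) ∅ p).card = o at *
      interval_cases s <;> omega
    refine ⟨?_, Finset.eq_of_subset_of_card_le hsub (by rw [hne] at h1; omega)⟩
    obtain ⟨σ, hσ, hσσ, x, hx⟩ := exists_involution (H := fixer (ind G Δ) (insert p ∅))
      (by rw [hne]; exact even_two)
    obtain ⟨hσi, hσp⟩ := mem_fixer.1 hσ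
    have hσp' : σ p = p := hσp p (by simp)
    have hxΔ : x ∈ Δ := by by_contra h; exact hx (hσi.1 x h)
    have hσx : σ x ∈ Δ := apply_mem_of_supp hσi.1 hxΔ
    refine ⟨x, σ x, Ne.symm hx, hxΔ, hσx, fun e => hx (by rw [e, hσp']),
      fun e => hx ?_, ?_⟩
    · have h6 : x = p := σ.injective (e.trans hσp'.symm)
      rw [h6, hσp']
    suffices swap x (σ x) = σ by rw [this]; exact hσi
    refine Equiv.ext fun y => ?_
    rcases eq_or_ne y x with rfl | hyx
    · rw [swap_apply_left]
    rcases eq_or_ne y (σ x) with rfl | hyx'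
    · rw [swap_apply_right, inv_apply_self hσσ]
    rw [swap_apply_of_ne_of_ne hyx hyx']
    by_contra hy
    have hyp : y ≠ p := fun e => hy (by rw [e, hσp'])
    have hyΔ : y ∈ Δ.erase p := Finset.mem_erase.2
      ⟨hyp, by by_contra h; exact hy (hσi.1 y h).symm⟩
    have hxp : x ≠ p := fun e => hx (by rw [e, hσp'])
    have hσy : σ y ∈ Δ.erase p := Finset.mem_erase.2
      ⟨fun e => hyp (σ.injective (e.trans hσp'.symm)),
        apply_mem_of_supp hσi.1 (Finset.mem_of_mem_erase hyΔ)⟩
    have hsub' : ({x, σ x, y, σ y} : Finset α) ⊆ Δ.erase p := by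
      simp only [Finset.insert_subset_iff, Finset.singleton_subset_iff]
      exact ⟨Finset.mem_erase.2 ⟨hxp, hxΔ⟩, Finset.mem_erase.2
        ⟨fun e => hxp (σ.injective (e.trans hσp'.symm)), hσx⟩, hyΔ, hσy⟩
    have := Finset.card_le_card hsub'
    rw [Finset.card_eq_four.2 ⟨x, σ x, y, σ y, Ne.symm hx, Ne.symm hyx,
      fun e => hyx' (by rw [e]; exact (inv_apply_self hσσ y).symm), Ne.symm hyx',
      fun e => hyx (σ.injective e).symm, hy, rfl⟩, Finset.card_erase_of_mem hp, hΔ] at this
    omega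
  refine ⟨?_, fun b c hb hc => hadj a b c hb hc, fun b hb => ?_⟩
  · obtain ⟨⟨u, v, huv, hu, hv, hua, hva, huv'⟩, -⟩ := hstab a ha
    obtain ⟨⟨s, t, hst, hs, ht, hsu, htu, hst'⟩, -⟩ := hstab u hu
    have hsv : s ≠ v := fun e => htu (hadj v u t huv (e ▸ hst.symm)
      (by rw [swap_comm]; exact huv') (e ▸ hst')).symm
    have htv : t ≠ v := fun e => hsu (hadj v u s huv (e ▸ hst)
      (by rw [swap_comm]; exact huv') (by rw [swap_comm]; exact e ▸ hst')).symm
    have hΔ' : ({u, v, s, t} : Finset α) = Δ := Finset.eq_of_subset_of_card_le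
      (by simp [Finset.insert_subset_iff, hu, hv, hs, ht]) (by
        rw [hΔ, Finset.card_eq_four.2 ⟨u, v, s, t, huv, hsu.symm, htu.symm, hsv.symm, htv.symm, hst, rfl⟩])
    rw [← hΔ'] at ha
    simp only [Finset.mem_insert, Finset.mem_singleton] at ha
    rcases ha with rfl | rfl | rfl | rfl
    · exact absurd rfl hua
    · exact absurd rfl hva
    · exact ⟨t, ht, hst.symm, hst'⟩
    · exact ⟨s, hs, hst, by rw [swap_comm]; exact hst'⟩
  · rw [← (hstab a ha).2] at hb
    obtain ⟨σ, hσ, rfl⟩ := mem_orb.1 hb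
    exact ⟨σ, (mem_fixer.1 hσ).1, rfl⟩

set_option maxHeartbeats 2000000 in
theorem no_pair_graph {D : ℕ} (hD : D = 2 ∨ D = 7) (hn : Fintype.card α = 3 + 3 * D)
    (hT : Trans G 3) (hh1 : Homog G 4)
    (he : ∀ Δ : Finset α, Δ.card = 4 → Nat.card (ind G Δ) = 8)
    (horb : ∀ S : Finset α, S.card = 3 → ∀ x, x ∉ S → (orb G S x).card = D) : False := by
  classical
  obtain ⟨a, b, hab⟩ := Fintype.exists_pair_of_one_lt_card (α := α) (by omega)
  let β : Finset α := Finset.univ \ {a, b}
  have hβ : ∀ {x}, x ∈ β ↔ x ≠ a ∧ x ≠ b := by simp [β]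
  have hβc : β.card = 3 * D + 1 := by
    rw [Finset.card_sdiff_of_subset (Finset.subset_univ _), Finset.card_univ, Finset.card_pair hab]
    omega
  have h4 : ∀ {x y}, x ∈ β → y ∈ β → x ≠ y → ({a, b, x, y} : Finset α).card = 4 := fun hx hy hxy => by
    rw [hβ] at hx hy
    exact Finset.card_eq_four.2 ⟨_, _, _, _, hab, hx.1.symm, hy.1.symm, hx.2.symm, hy.2.symm, hxy, rfl⟩
  let R : α → α → Prop := fun x y => x ≠ y ∧ swap a b ∈ ind G {a, b, x, y}
  have hRs : ∀ {x y}, R x y → R y x := fun {x y} h =>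
    ⟨h.1.symm, by rw [Finset.pair_comm y x]; exact h.2⟩
  -- the automorphisms
  have hmapR : ∀ {g : Perm α} {x y}, g ∈ G → g a = a → g b = b → R x y → R (g x) (g y) := by
    intro g x y hg ga gb h
    refine ⟨g.injective.ne h.1, ?_⟩
    have := swap_mem_ind_image hg h.2
    simpa [Finset.image_insert, ga, gb] using this
  have hmapβ : ∀ {g : Perm α} {x}, g a = a → g b = b → x ∈ β → g x ∈ β := fun {g x} ga gb hx => by
    rw [hβ] at hx ⊢
    exact ⟨fun e => hx.1 (g.injective (e.trans ga.symm)), fun e => hx.2 (g.injective (e.trans gb.symm))⟩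
  have hcomb : ∀ {Δ : Finset α} {σ : Perm α}, σ ∈ ind G Δ →
      ∃ g ∈ G, Δ.image g = Δ ∧ ∀ z ∈ Δ, g z = σ z := by
    rintro Δ σ ⟨hσ, g, hg, hgσ⟩
    refine ⟨g, hg, Finset.eq_of_subset_of_card_le (fun y hy => ?_)
      (by rw [Finset.card_image_of_injective _ g.injective]), hgσ⟩
    obtain ⟨z, hz, rfl⟩ := Finset.mem_image.1 hy
    rw [hgσ z hz]
    exact apply_mem_of_supp hσ hz
  have hmove : ∀ {x y x' y'}, x ∈ β → y ∈ β → x' ∈ β → y' ∈ β → x ≠ y → x' ≠ y' →
      (R x y ↔ R x' y') → ∃ g ∈ G, g a = a ∧ g b = b ∧ ({x, y} : Finset α).image g = {x', y'} := by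
    intro x y x' y' hx hy hx' hy' hxy hxy' hiff
    obtain ⟨g₁, hg₁, hgΔ⟩ := hh1 _ _ (h4 hx hy hxy) (h4 hx' hy' hxy')
    set Δ : Finset α := {a, b, x, y}
    set Δ' : Finset α := {a, b, x', y'}
    have hc' : Δ'.card = 4 := h4 hx' hy' hxy'
    have haΔ : a ∈ Δ := Finset.mem_insert_self _ _
    have haΔ' : a ∈ Δ' := Finset.mem_insert_self _ _
    obtain ⟨σ, hσ, hσa⟩ := (eight_facts hc' (he _ hc')
      (hgΔ ▸ Finset.mem_image_of_mem g₁ haΔ)).2.2 a haΔ'
    obtain ⟨g₂, hg₂, hg₂Δ, hg₂σ⟩ := hcomb hσ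
    -- now `g` fixes `a` and maps `Δ` to `Δ'`
    obtain ⟨g, hg, ga, hgim⟩ : ∃ g ∈ G, g a = a ∧ Δ.image g = Δ' :=
      ⟨g₂ * g₁, G.mul_mem hg₂ hg₁, by
        rw [Perm.mul_apply, hg₂σ _ (hgΔ ▸ Finset.mem_image_of_mem g₁ haΔ), hσa],
        by rw [Perm.coe_mul, ← Finset.image_image, hgΔ, hg₂Δ]⟩
    have hfinish : ∀ g : Perm α, g a = a → g b = b → Δ.image g = Δ' →
        ({x, y} : Finset α).image g = {x', y'} := by
      intro g ga gb h
      rw [hβ] at hx hy hx' hy'
      have e1 : ({x, y} : Finset α) = (Δ.erase a).erase b := by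
        ext z
        simp only [Δ, Finset.mem_erase, Finset.mem_insert, Finset.mem_singleton]
        constructor
        · rintro (rfl | rfl) <;> tauto
        · tauto
      have e2 : ({x', y'} : Finset α) = (Δ'.erase a).erase b := by
        ext z
        simp only [Δ', Finset.mem_erase, Finset.mem_insert, Finset.mem_singleton]
        constructor
        · rintro (rfl | rfl) <;> tauto
        · tauto
      rw [e1, e2, Finset.image_erase g.injective, Finset.image_erase g.injective, h, ga, gb]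
    obtain ⟨p, hp, hpa, hps⟩ := (eight_facts (h4 hx hy hxy) (he _ (h4 hx hy hxy)) haΔ).1
    have hps' : swap a (g p) ∈ ind G Δ' := by
      have := swap_mem_ind_image hg hps
      rwa [ga, hgim] at this
    have hgpa : g p ≠ a := fun e => hpa (g.injective (e.trans ga.symm))
    have huniq := (eight_facts hc' (he _ hc') haΔ').2.1
    by_cases hr : R x y
    · have hpb : p = b := (eight_facts (h4 hx hy hxy) (he _ (h4 hx hy hxy)) haΔ).2.1 p b hpa hab.symm hps hr.2
      have gb : g b = b := by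
        have := huniq (g p) b hgpa hab.symm hps' (hiff.1 hr).2
        rwa [hpb] at this
      exact ⟨g, hg, ga, gb, hfinish g ga gb hgim⟩
    · have hr' : ¬ R x' y' := fun h => hr (hiff.2 h)
      have hgpb : g p ≠ b := fun e => hr' ⟨hxy', by have h := hps'; rw [e] at h; exact h⟩
      have hpb : p ≠ b := fun e => hr ⟨hxy, by have h := hps; rw [e] at h; exact h⟩
      have hgb : g b ∈ Δ' := hgim ▸ Finset.mem_image_of_mem g
        (Finset.mem_insert_of_mem (Finset.mem_insert_self _ _))
      by_cases hgbb : g b = b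
      · exact ⟨g, hg, ga, hgbb, hfinish g ga hgbb hgim⟩
      -- the other transposition of `Δ'`
      obtain ⟨q, hq, hqb, hqs⟩ := (eight_facts hc' (he _ hc')
        (Finset.mem_insert_of_mem (Finset.mem_insert_self b _) : b ∈ Δ')).1
      have hqa : q ≠ a := fun e => hgpb (huniq (g p) b hgpa hab.symm hps'
        (by rw [swap_comm, ← e]; exact hqs))
      have hqp : q ≠ g p := fun e => hab ((eight_facts hc' (he _ hc')
        (hgim ▸ Finset.mem_image_of_mem g hp : g p ∈ Δ')).2.1 a b hgpa.symm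
        (Ne.symm hgpb) (by rw [swap_comm]; exact hps') (by rw [swap_comm, ← e]; exact hqs))
      have hset : ({a, g p, b, q} : Finset α) = Δ' := Finset.eq_of_subset_of_card_le
        (by simp only [Finset.insert_subset_iff, Finset.singleton_subset_iff]
            exact ⟨haΔ', hgim ▸ Finset.mem_image_of_mem g hp,
              Finset.mem_insert_of_mem (Finset.mem_insert_self b _), hq⟩)
        (by rw [hc', Finset.card_eq_four.2 ⟨a, g p, b, q, hgpa.symm, hab, hqa.symm, hgpb, hqp.symm, hqb.symm, rfl⟩])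
      have hgbq : g b = q := by
        rw [← hset] at hgb
        simp only [Finset.mem_insert, Finset.mem_singleton] at hgb
        rcases hgb with h | h | h | h
        · exact absurd (g.injective (h.trans ga.symm)) hab.symm
        · exact absurd (g.injective h).symm hpb
        · exact absurd h hgbb
        · exact h
      obtain ⟨g₃, hg₃, hg₃Δ, hg₃σ⟩ := hcomb hqs
      have ga3 : (g₃ * g) a = a := by
        rw [Perm.mul_apply, ga, hg₃σ a haΔ', swap_apply_of_ne_of_ne hab hqa.symm]
      have gb3 : (g₃ * g) b = b := by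
        rw [Perm.mul_apply, hgbq, hg₃σ q hq, swap_apply_right]
      exact ⟨g₃ * g, G.mul_mem hg₃ hg, ga3, gb3,
        hfinish _ ga3 gb3 (by rw [Perm.coe_mul, ← Finset.image_image, hgim, hg₃Δ])⟩
  -- degree
  let Nb : α → Finset α := fun x => β.filter fun y => R x y
  have hNb : ∀ {x y}, y ∈ Nb x ↔ y ∈ β ∧ R x y := by simp [Nb]
  have hdeg : ∀ x ∈ β, (Nb x).card = D := by
    intro x hx
    obtain ⟨hxa, hxb⟩ := hβ.1 hx
    have hS : ({a, b, x} : Finset α).card = 3 :=
      Finset.card_eq_three.2 ⟨a, b, x, hab, hxa.symm, hxb.symm, rfl⟩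
    let C : α → Finset α := fun t =>
      (β.erase x).filter fun y => swap a (if t = a then y else t) ∈ ind G {a, b, x, y}
    have hC : ∀ {t y}, y ∈ C t ↔ (y ≠ x ∧ y ∈ β) ∧
        swap a (if t = a then y else t) ∈ ind G {a, b, x, y} := by simp [C]
    have hinv : ∀ t, t ∈ ({a, b, x} : Finset α) → ∀ g ∈ fixer G {a, b, x}, ∀ y ∈ C t, g y ∈ C t := by
      intro t ht g hg y hy
      obtain ⟨hgG, hgS⟩ := mem_fixer.1 hg
      have ga := hgS a (by simp)
      have gb := hgS b (by simp)
      have gx := hgS x (by simp)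
      rw [hC] at hy ⊢
      refine ⟨⟨fun e => hy.1.1 (g.injective (e.trans gx.symm)), hmapβ ga gb hy.1.2⟩, ?_⟩
      have h := swap_mem_ind_image hgG hy.2
      rw [ga, apply_ite g, hgS t ht] at h
      simpa [Finset.image_insert, ga, gb, gx] using h
    have hge : ∀ t, t ∈ ({a, b, x} : Finset α) → D ≤ (C t).card := by
      intro t ht
      obtain ⟨Φ, -, hΦ⟩ := Finset.exists_subset_card_eq (s := (Finset.univ : Finset α)) (n := 4)
        (by rw [Finset.card_univ]; omega)
      obtain ⟨p, hp⟩ := Finset.card_pos.1 (show 0 < Φ.card by omega)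
      obtain ⟨q, hq, hqp, hpq⟩ := (eight_facts hΦ (he Φ hΦ) hp).1
      obtain ⟨s, hs, hs'⟩ := Finset.exists_mem_notMem_of_card_lt_card
        (s := ({p, q} : Finset α)) (t := Φ) (by rw [Finset.card_pair hqp.symm]; omega)
      obtain ⟨u, hu, hu'⟩ := Finset.exists_mem_notMem_of_card_lt_card
        (s := ({p, q, s} : Finset α)) (t := Φ)
        (by have := Finset.card_le_three (a := p) (b := q) (c := s); omega)
      simp only [Finset.mem_insert, Finset.mem_singleton, not_or] at hs' hu'
      obtain ⟨sp, sq⟩ := hs'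
      obtain ⟨up, uq, us⟩ := hu'
      change s ≠ p at sp
      change s ≠ q at sq
      change u ≠ p at up
      change u ≠ q at uq
      change u ≠ s at us
      have hΦeq : Φ = {p, q, s, u} := (Finset.eq_of_subset_of_card_le
        (by simp [Finset.insert_subset_iff, hp, hq, hs, hu]) (by
          rw [hΦ, Finset.card_eq_four.2 ⟨p, q, s, u, hqp.symm, sp.symm, up.symm, sq.symm, uq.symm, us.symm, rfl⟩])).symm
      have hex : ∀ q' s' u', q' ≠ p → s' ≠ p → q' ≠ s' → u' ≠ p → u' ≠ q' → u' ≠ s' →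
          ∃ g ∈ G, g p = a ∧ g q' = b ∧ g s' = x ∧ g u' ∈ β.erase x := by
        intro q' s' u' h1 h2 h3 h4' h5 h6
        obtain ⟨g, hg, hg'⟩ := hT {p, q', s'}
          (fun z => if z = p then a else if z = q' then b else x)
          Finset.card_le_three (by
            intro z hz w hw e
            simp only [Finset.coe_insert, Finset.coe_singleton, Set.mem_insert_iff,
              Set.mem_singleton_iff] at hz hw
            rcases hz with rfl | rfl | rfl <;> rcases hw with rfl | rfl | rfl <;>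
              simp [h1, h2, h3, h3.symm, h1.symm, h2.symm, hab, hab.symm, hxa, hxa.symm, hxb,
                hxb.symm] at e ⊢)
        have gp : g p = a := (hg' p (by simp)).trans (if_pos rfl)
        have gq : g q' = b := by rw [hg' q' (by simp), if_neg h1, if_pos rfl]
        have gs : g s' = x := by rw [hg' s' (by simp), if_neg h2, if_neg h3.symm]
        refine ⟨g, hg, gp, gq, gs, Finset.mem_erase.2 ⟨fun e => h6 (g.injective (e.trans gs.symm)),
          hβ.2 ⟨fun e => h4' (g.injective (e.trans gp.symm)),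
            fun e => h5 (g.injective (e.trans gq.symm))⟩⟩⟩
      have key : ∀ y, y ∈ C t → D ≤ (C t).card := fun y hy => by
        rw [← horb _ hS y (by
          simp only [Finset.mem_insert, Finset.mem_singleton, not_or]
          exact ⟨(hβ.1 (hC.1 hy).1.2).1, (hβ.1 (hC.1 hy).1.2).2, (hC.1 hy).1.1⟩)]
        refine Finset.card_le_card fun z hz => ?_
        obtain ⟨g, hg, rfl⟩ := mem_orb.1 hz
        exact hinv t ht g hg y hy
      simp only [Finset.mem_insert, Finset.mem_singleton] at ht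
      rcases ht with rfl | rfl | rfl
      · obtain ⟨g, hg, gp, gs, gu, hy⟩ := hex s u q sp up us.symm hqp sq.symm uq.symm
        refine key (g q) (hC.2 ⟨Finset.mem_erase.1 hy, ?_⟩)
        rw [if_pos rfl]
        have h := swap_mem_ind_image hg hpq
        rw [hΦeq] at h
        simp only [Finset.image_insert, Finset.image_singleton, gp, gs, gu] at h
        rwa [show ({t, g q, b, x} : Finset α) = {t, b, x, g q} by ext; simp; tauto] at h
      · obtain ⟨g, hg, gp, gq, gs, hy⟩ := hex q s u hqp sp sq.symm up uq us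
        refine key (g u) (hC.2 ⟨Finset.mem_erase.1 hy, ?_⟩)
        rw [if_neg hab.symm]
        have h := swap_mem_ind_image hg hpq
        rw [hΦeq] at h
        simpa only [Finset.image_insert, Finset.image_singleton, gp, gs, gq] using h
      · obtain ⟨g, hg, gp, gs, gq, hy⟩ := hex s q u sp hqp sq up us uq
        refine key (g u) (hC.2 ⟨Finset.mem_erase.1 hy, ?_⟩)
        rw [if_neg hxa]
        have h := swap_mem_ind_image hg hpq
        rw [hΦeq] at h
        simp only [Finset.image_insert, Finset.image_singleton, gp, gs, gq] at h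
        rwa [show ({a, t, b, g u} : Finset α) = {a, b, t, g u} by ext; simp; tauto] at h
    have hval : ∀ t y, t ∈ ({a, b, x} : Finset α) → y ∈ β.erase x →
        (if t = a then y else t) ≠ a := fun t y ht hy => by
      split_ifs with h
      · exact (hβ.1 (Finset.mem_of_mem_erase hy)).1
      · exact h
    have hdisj : ∀ t t', t ∈ ({a, b, x} : Finset α) → t' ∈ ({a, b, x} : Finset α) → t ≠ t' →
        Disjoint (C t) (C t') := by
      intro t t' ht ht' hne
      refine Finset.disjoint_left.2 fun y hy hy' => ?_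
      rw [hC] at hy hy'
      have hy'' : y ∈ β.erase x := Finset.mem_erase.2 hy.1
      have h := (eight_facts (h4 hx hy.1.2 (Ne.symm hy.1.1)) (he _ (h4 hx hy.1.2 (Ne.symm hy.1.1)))
        (Finset.mem_insert_self a _)).2.1 _ _ (hval t y ht hy'') (hval t' y ht' hy'') hy.2 hy'.2
      obtain ⟨hya, hyb⟩ := hβ.1 hy.1.2
      simp only [Finset.mem_insert, Finset.mem_singleton] at ht ht'
      rcases ht with rfl | rfl | rfl <;> rcases ht' with rfl | rfl | rfl <;>
        simp [hab.symm, hxa, hya, hyb, hy.1.1, Ne.symm hyb, Ne.symm hy.1.1, hxb, Ne.symm hxb] at h hne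
    have hsub : C a ∪ (C b ∪ C x) ⊆ β.erase x :=
      Finset.union_subset (Finset.filter_subset _ _)
        (Finset.union_subset (Finset.filter_subset _ _) (Finset.filter_subset _ _))
    have hsum := Finset.card_le_card hsub
    rw [Finset.card_union_of_disjoint (Finset.disjoint_union_right.2
        ⟨hdisj a b (by simp) (by simp) hab, hdisj a x (by simp) (by simp) hxa.symm⟩),
      Finset.card_union_of_disjoint (hdisj b x (by simp) (by simp) hxb.symm),
      Finset.card_erase_of_mem hx, hβc] at hsum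
    have h1 := hge a (by simp)
    have h2 := hge b (by simp)
    have h3 := hge x (by simp)
    rw [show Nb x = C b from Finset.ext fun y => by
      rw [hNb, hC, if_neg hab.symm]
      exact ⟨fun ⟨h, h'⟩ => ⟨⟨h'.1.symm, h⟩, h'.2⟩, fun ⟨⟨h, h'⟩, h''⟩ => ⟨h', Ne.symm h, h''⟩⟩]
    omega
  -- common neighbours
  let cm : α → α → ℕ := fun x y => (β.filter fun z => R x z ∧ R y z).card
  have hcm : ∀ {x y x' y'}, x ∈ β → y ∈ β → x' ∈ β → y' ∈ β → x ≠ y → x' ≠ y' →
      (R x y ↔ R x' y') → cm x y = cm x' y' := by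
    have hle : ∀ {x y x' y'}, x ∈ β → y ∈ β → x' ∈ β → y' ∈ β → x ≠ y → x' ≠ y' →
        (R x y ↔ R x' y') → cm x y ≤ cm x' y' := by
      intro x y x' y' hx hy hx' hy' hxy hxy' hiff
      obtain ⟨g, hg, ga, gb, hgim⟩ := hmove hx hy hx' hy' hxy hxy' hiff
      refine Finset.card_le_card_of_injOn g ?_ g.injective.injOn
      intro z hz
      simp only [Finset.mem_coe, Finset.mem_filter] at hz ⊢
      obtain ⟨hzβ, h1, h2⟩ := hz
      refine ⟨hmapβ ga gb hzβ, ?_⟩
      have e : ∀ w ∈ ({x', y'} : Finset α), R w (g z) := fun w hw => by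
        rw [← hgim] at hw
        obtain ⟨v, hv, rfl⟩ := Finset.mem_image.1 hw
        simp only [Finset.mem_insert, Finset.mem_singleton] at hv
        rcases hv with rfl | rfl
        · exact hmapR hg ga gb h1
        · exact hmapR hg ga gb h2
      exact ⟨e x' (by simp), e y' (by simp)⟩
    intro x y x' y' hx hy hx' hy' h1 h2 h3
    exact le_antisymm (hle hx hy hx' hy' h1 h2 h3) (hle hx' hy' hx hy h2 h1 h3.symm)
  obtain ⟨x₀, hx₀⟩ := Finset.card_pos.1 (show 0 < β.card by omega)
  obtain ⟨y₁, hy₁⟩ := Finset.card_pos.1 (show 0 < (Nb x₀).card by rw [hdeg x₀ hx₀]; omega)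
  obtain ⟨y₁β, hy₁R⟩ := hNb.1 hy₁
  have hrest : (β.erase x₀ \ Nb x₀).card = 2 * D := by
    rw [Finset.card_sdiff_of_subset (fun z hz => Finset.mem_erase.2
      ⟨(hNb.1 hz).2.1.symm, (hNb.1 hz).1⟩), Finset.card_erase_of_mem hx₀, hdeg x₀ hx₀, hβc]
    omega
  obtain ⟨y₂, hy₂⟩ := Finset.card_pos.1 (show 0 < (β.erase x₀ \ Nb x₀).card by omega)
  obtain ⟨hy₂x, y₂β⟩ := Finset.mem_erase.1 (Finset.mem_sdiff.1 hy₂).1
  have hy₂R : ¬ R x₀ y₂ := fun h => (Finset.mem_sdiff.1 hy₂).2 (hNb.2 ⟨y₂β, h⟩)
  obtain ⟨lam, hlam⟩ : ∃ l, l = cm x₀ y₁ := ⟨_, rfl⟩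
  obtain ⟨mu, hmu⟩ : ∃ m, m = cm x₀ y₂ := ⟨_, rfl⟩
  have hl : ∀ x ∈ β, ∀ y ∈ β, R x y → cm x y = lam := fun x hx y hy h => hlam ▸
    hcm hx hy hx₀ y₁β h.1 hy₁R.1 (iff_of_true h hy₁R)
  have hm : ∀ x ∈ β, ∀ y ∈ β, x ≠ y → ¬ R x y → cm x y = mu := fun x hx y hy hne h => hmu ▸
    hcm hx hy hx₀ y₂β hne (Ne.symm hy₂x) (iff_of_false h hy₂R)
  have hcount : D * (D - 1) = D * lam + 2 * D * mu := by
    have h := Finset.sum_card_bipartiteAbove_eq_sum_card_bipartiteBelow (fun z y : α => R z y)
      (s := Nb x₀) (t := β.erase x₀)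
    rw [Finset.sum_congr rfl (g := fun _ => D - 1) (fun z hz => ?_), Finset.sum_const, smul_eq_mul,
      hdeg x₀ hx₀, Finset.sum_congr rfl (g := fun y => cm x₀ y) (fun y hy => ?_),
      ← Finset.sum_sdiff (show Nb x₀ ⊆ β.erase x₀ from fun z hz => Finset.mem_erase.2
        ⟨(hNb.1 hz).2.1.symm, (hNb.1 hz).1⟩)] at h
    · rw [Finset.sum_congr rfl (g := fun _ => mu) (fun y hy => ?_),
        Finset.sum_congr rfl (g := fun _ => lam) (fun y hy => hl x₀ hx₀ y (hNb.1 hy).1 (hNb.1 hy).2),
        Finset.sum_const, Finset.sum_const, smul_eq_mul, smul_eq_mul, hrest, hdeg x₀ hx₀] at h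
      · rw [h, add_comm]
      · obtain ⟨h1, h2⟩ := Finset.mem_sdiff.1 hy
        obtain ⟨h3, h5⟩ := Finset.mem_erase.1 h1
        exact hm x₀ hx₀ y h5 h3.symm fun h => h2 (hNb.2 ⟨h5, h⟩)
    · simp only [cm]
      congr 1
      ext z
      simp only [Finset.bipartiteBelow, Finset.mem_filter, hNb]
      exact ⟨fun ⟨⟨h1, h2⟩, h3⟩ => ⟨h1, h2, hRs h3⟩, fun ⟨h1, h2, h3⟩ => ⟨⟨h1, h2⟩, hRs h3⟩⟩
    · rw [← hdeg z (hNb.1 hz).1, ← Finset.card_erase_of_mem (show x₀ ∈ Nb z from
        hNb.2 ⟨hx₀, hRs (hNb.1 hz).2⟩)]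
      congr 1
      ext y
      simp only [Finset.bipartiteAbove, Finset.mem_filter, Finset.mem_erase, hNb]
      tauto
  -- no common neighbour outside: disjoint cliques
  by_cases hmu0 : mu = 0
  · subst hmu0
    have hlamD : lam + 1 = D := by
      rw [Nat.mul_zero, Nat.add_zero] at hcount
      have := Nat.eq_of_mul_eq_mul_left (show 0 < D by omega) hcount
      omega
    have hclq : ∀ x ∈ β, ∀ y ∈ Nb x, insert y (Nb y) = insert x (Nb x) := by
      intro x hx y hy
      obtain ⟨hyβ, hxy⟩ := hNb.1 hy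
      refine Finset.eq_of_subset_of_card_le (fun z hz => ?_) ?_
      · rcases Finset.mem_insert.1 hz with rfl | hz
        · exact Finset.mem_insert_of_mem hy
        obtain ⟨hzβ, hyz⟩ := hNb.1 hz
        by_contra hc
        simp only [Finset.mem_insert, not_or, hNb, not_and] at hc
        have h0 := hm x hx z hzβ (Ne.symm hc.1) (hc.2 hzβ)
        exact Finset.card_ne_zero_of_mem
          (Finset.mem_filter.2 ⟨hyβ, hxy, hRs hyz⟩ : y ∈ β.filter fun w => R x w ∧ R z w) h0
      · rw [Finset.card_insert_of_notMem (fun h => (hNb.1 h).2.1 rfl),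
          Finset.card_insert_of_notMem (fun h => (hNb.1 h).2.1 rfl), hdeg x hx, hdeg y hyβ]
    have hsum := Finset.card_eq_sum_card_image (fun x => insert x (Nb x)) β
    rw [Finset.sum_congr rfl (g := fun _ => D + 1) (fun K hK => ?_), Finset.sum_const, smul_eq_mul,
      hβc] at hsum
    · rcases hD with rfl | rfl <;> omega
    · obtain ⟨x, hx, rfl⟩ := Finset.mem_image.1 hK
      rw [show β.filter (fun z => insert z (Nb z) = insert x (Nb x)) = insert x (Nb x) from ?_,
        Finset.card_insert_of_notMem (fun h => (hNb.1 h).2.1 rfl), hdeg x hx]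
      refine Finset.ext fun z => ⟨fun hz => ?_, fun hz => Finset.mem_filter.2 ?_⟩
      · exact (Finset.mem_filter.1 hz).2 ▸ Finset.mem_insert_self z (Nb z)
      · rcases Finset.mem_insert.1 hz with rfl | hz
        · exact ⟨hx, rfl⟩
        · exact ⟨(hNb.1 hz).1, hclq x hx z hz⟩
  rcases hD with rfl | rfl
  · omega
  have hD6 : lam + 2 * mu = 6 := by omega
  by_cases hlam0 : lam = 0
  · -- the strongly regular parameters (22, 7, 0, 3)
    have hmu3 : mu = 3 := by omega
    subst hmu3 hlam0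
    let A : Matrix {x // x ∈ β} {x // x ∈ β} (ZMod 5) := fun x y => if R x y then 1 else 0
    let N : Matrix {x // x ∈ β} {x // x ∈ β} (ZMod 5) :=
      fun x y => A x y - (if x = y then 1 else 0) - 3
    have hrow : ∀ x : {x // x ∈ β}, ∑ z, A x z = 7 := fun x => by
      have := hdeg x x.2
      simp only [A]
      rw [Finset.sum_coe_sort β (fun z => if R x z then (1 : ZMod 5) else 0), Finset.sum_boole]
      exact congrArg Nat.cast this
    have hAA : ∀ x y : {x // x ∈ β}, ∑ z, A x z * A z y =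
        if x = y then 7 else if R x y then 0 else 3 := by
      intro x y
      have hxy : ∀ z, A x z * A z y = if R x z ∧ R y z then 1 else 0 := fun z => by
        by_cases h : R x z
        · by_cases h' : R y z
          · simp only [A, if_pos h, if_pos (hRs h'), if_pos (And.intro h h'), mul_one]
          · simp only [A, if_pos h, if_neg (fun e : R z y => h' (hRs e)),
              if_neg (fun e : R x z ∧ R y z => h' e.2), mul_zero]
        · simp only [A, if_neg h, if_neg (fun e : R x z ∧ R y z => h e.1), zero_mul]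
      rw [Finset.sum_congr rfl fun z _ => hxy z,
        Finset.sum_coe_sort β (fun z => if R x z ∧ R y z then (1 : ZMod 5) else 0), Finset.sum_boole]
      split_ifs with h1 h2
      · subst h1
        simp only [and_self]
        exact congrArg Nat.cast (hdeg x x.2)
      · exact congrArg Nat.cast (hl x x.2 y y.2 h2)
      · exact congrArg Nat.cast (hm x x.2 y y.2 (fun e => h1 (Subtype.ext e)) h2)
    have hcol : ∀ y : {x // x ∈ β}, ∑ z, A z y = 7 := fun y => by
      rw [← hrow y]
      refine Finset.sum_congr rfl fun z _ => ?_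
      simp only [A]
      by_cases h : R z y
      · rw [if_pos h, if_pos (hRs h)]
      · rw [if_neg h, if_neg fun h' => h (hRs h')]
    have hN2 : N * N = 0 := by
      ext x y
      rw [Matrix.mul_apply, Matrix.zero_apply]
      simp only [N, sub_mul, mul_sub, Finset.sum_sub_distrib, Finset.mul_sum, ← Finset.sum_mul,
        mul_ite, ite_mul, mul_one, one_mul, mul_zero, zero_mul, Finset.sum_ite_eq,
        Finset.sum_ite_eq', Finset.mem_univ, if_true, hAA, hrow, hcol, Finset.sum_const,
        Finset.card_univ, Fintype.card_coe, hβc, ← Finset.mul_sum]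
      by_cases h1 : x = y
      · subst h1
        have : ¬ R x x := fun h => h.1 rfl
        simp only [A, if_neg this, if_true, ← two_mul]
        decide
      · by_cases h2 : R x y
        · simp only [A, if_neg h1, if_pos h2]
          decide
        · simp only [A, if_neg h1, if_neg h2]
          decide
    have htr : N.trace = 0 := by
      have : Fact (Nat.Prime 5) := ⟨by norm_num⟩
      exact (Matrix.isNilpotent_trace_of_isNilpotent ⟨2, by rw [pow_two, hN2]⟩).eq_zero
    simp only [Matrix.trace, Matrix.diag, N, A] at htr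
    rw [Finset.sum_congr rfl (g := fun _ => (1 : ZMod 5)) (fun x _ => by
      rw [if_neg (fun h => h.1 rfl)]; simp only [if_true]; decide), Finset.sum_const, Finset.card_univ,
      Fintype.card_coe, hβc] at htr
    revert htr
    decide
  -- count triangles
  let T : Finset (α × α × α) :=
    (β ×ˢ β ×ˢ β).filter fun t => R t.1 t.2.1 ∧ R t.2.1 t.2.2 ∧ R t.2.2 t.1
  have hTc : T.card = 22 * (7 * lam) := by
    rw [Finset.card_filter, Finset.sum_product, Finset.sum_congr rfl (g := fun _ => 7 * lam)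
      (fun x hx => ?_), Finset.sum_const, smul_eq_mul, hβc]
    rw [Finset.sum_product, ← hdeg x hx, ← smul_eq_mul, ← Finset.sum_const]
    simp only [Nb]
    rw [Finset.sum_filter]
    refine Finset.sum_congr rfl fun y hy => ?_
    by_cases h : R x y
    · rw [if_pos h, ← hl x hx y hy h]
      simp only [cm]
      rw [Finset.card_filter]
      refine Finset.sum_congr rfl fun z hz => if_congr ?_ rfl rfl
      exact ⟨fun ⟨_, h2, h3⟩ => ⟨hRs h3, h2⟩, fun ⟨h1, h2⟩ => ⟨h, h2, hRs h1⟩⟩
    · rw [if_neg h]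
      exact Finset.sum_eq_zero fun z _ => if_neg fun h' => h h'.1
  let u : Perm (α × α × α) :=
    ⟨fun t => (t.2.1, t.2.2, t.1), fun t => (t.2.2, t.1, t.2.1), fun t => rfl, fun t => rfl⟩
  have : Fact (Nat.Prime 3) := ⟨Nat.prime_three⟩
  have h3 := (Nat.modEq_zero_iff_dvd (a := T.card) (n := 3)).1 (?_ : T.card ≡ 0 [MOD 3])
  · rw [hTc] at h3
    omega
  · let f : Function.End {t // t ∈ T} := fun t => ⟨u t, by
      obtain ⟨h1, h2⟩ := Finset.mem_filter.1 t.2
      simp only [Finset.mem_product] at h1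
      exact Finset.mem_filter.2 ⟨by simpa [u] using ⟨h1.2.1, h1.2.2, h1.1⟩,
        ⟨h2.2.1, h2.2.2, h2.1⟩⟩⟩
    have hf : f ^ 3 ^ 1 = 1 := by
      funext t
      rfl
    have h := Equiv.Perm.card_fixedPoints_modEq hf
    rw [Fintype.card_coe] at h
    refine h.trans ?_
    have : IsEmpty (Function.fixedPoints f) := ⟨fun ⟨t, ht⟩ => by
      have h1 := congrArg (fun s : {t // t ∈ T} => (s.1).1) ht
      exact (Finset.mem_filter.1 t.2).2.1.1 h1.symm⟩
    rw [Fintype.card_eq_zero]

end Cfsg.Agent.Lib.Homogeneous
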