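import Cfsg.Agent.Lib.Homogeneous.Hall4

/-!
# Induced groups on `(k+1)`-sets: the semiregular case

A `k`-transitive group in which only the identity fixes more than `k` points induces every even
permutation on some `(k+1)`-set (`k ≥ 4`).
-/

set_option autoImplicit false

namespace Cfsg.Agent.Lib.Homogeneous

open Equiv

variable {α : Type*} [Fintype α] [DecidableEq α] {G : Subgroup (Perm α)} {k : ℕ}

omit [Fintype α] in
theorem eq_of_agree {S : Finset α} {g h : Perm α} (hg : g ∈ G) (hh : h ∈ G)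
    (e : ∀ x ∈ S, g x = h x) : h⁻¹ * g ∈ G ∧ ∀ x ∈ S, (h⁻¹ * g) x = x :=
  ⟨G.mul_mem (G.inv_mem hh) hg, fun x hx => by rw [Perm.mul_apply, e x hx]; simp⟩

/-- All transpositions of `S` plus an element moving `x` give everything on `S + x`. -/
theorem ind_full_of_mover {S : Finset α} {x : α} (hx : x ∉ S) (hS : 2 ≤ S.card)
    (hsw : ∀ a ∈ S, ∀ b ∈ S, a ≠ b → swap a b ∈ ind G (insert x S))
    {μ : Perm α} (hμ : μ ∈ ind G (insert x S)) (hμx : μ x ≠ x) :
    ∀ σ : Perm α, (∀ y, y ∉ insert x S → σ y = y) → σ ∈ ind G (insert x S) := by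
  have hmem : ∀ y ∈ insert x S, μ y ∈ insert x S := fun y hy => apply_mem_of_supp hμ.1 hy
  have hz : μ x ∈ S := Finset.mem_of_mem_insert_of_ne (hmem x (Finset.mem_insert_self x S)) hμx
  obtain ⟨a, ha, hax⟩ : ∃ a ∈ S, μ a ≠ x := by
    obtain ⟨a, ha, b, hb, hab⟩ := Finset.one_lt_card.1 hS
    by_cases h : μ a = x
    · exact ⟨b, hb, fun h' => hab (μ.injective (h.trans h'.symm))⟩
    · exact ⟨a, ha, h⟩
  have haS : μ a ∈ S := Finset.mem_of_mem_insert_of_ne (hmem a (Finset.mem_insert_of_mem ha)) hax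
  have hne : x ≠ a := fun e => hx (e ▸ ha)
  have h1 : swap x a ∈ ind G (insert x S) := by
    have h := mul_mem (mul_mem (inv_mem hμ)
      (hsw _ hz _ haS (μ.injective.ne hne))) hμ
    convert h using 1
    rw [swap_apply_apply]
    group
  have hall : ∀ b ∈ S, swap x b ∈ ind G (insert x S) := by
    intro b hb
    rcases eq_or_ne a b with rfl | hab
    · exact h1
    · have h := mul_mem (mul_mem (hsw a ha b hb hab) h1) (inv_mem (hsw a ha b hb hab))
      rwa [← swap_apply_apply, swap_apply_of_ne_of_ne hne (fun e : x = b => hx (e ▸ hb)),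
        swap_apply_left] at h
  refine ind_full_of_swaps fun u hu v hv huv => ?_
  rcases Finset.mem_insert.1 hu with rfl | hu' <;> rcases Finset.mem_insert.1 hv with rfl | hv'
  · exact absurd rfl huv
  · exact hall v hv'
  · rw [swap_comm]; exact hall u hu'
  · exact hsw u hu' v hv' huv

variable (hT : Trans G k) (hkn : k < Fintype.card α)
  (hsemi : ∀ g ∈ G, k + 1 ≤ (fix g).card → g = 1)

include hsemi in
theorem semiregular {S : Finset α} (hS : S.card = k) :
    ∀ g ∈ fixer G S, ∀ x, x ∉ S → g x = x → g = 1 := by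
  intro g hg x hx hgx
  obtain ⟨hgG, hgS⟩ := mem_fixer.1 hg
  refine hsemi g hgG ?_
  have h := Finset.card_le_card (show insert x S ⊆ fix g from
    Finset.insert_subset (mem_fix.2 hgx) fun y hy => mem_fix.2 (hgS y hy))
  rwa [Finset.card_insert_of_notMem hx, hS] at h

include hsemi in
/-- An orbit of the stabiliser of `k` points is regular. -/
theorem exists_orbit {S : Finset α} (hS : S.card = k) {x : α} (hx : x ∉ S) :
    ∃ O : Finset α, O ⊆ Finset.univ \ S ∧ O.card = Nat.card (fixer G S) ∧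
      ∀ y, y ∈ O ↔ ∃ g ∈ fixer G S, g x = y := by
  classical
  have := Fintype.ofFinite (fixer G S)
  refine ⟨Finset.univ.image fun g : fixer G S => (g : Perm α) x, ?_, ?_, fun y => by simp⟩
  · intro y hy
    simp only [Finset.mem_image, Finset.mem_univ, true_and] at hy
    obtain ⟨g, rfl⟩ := hy
    refine Finset.mem_sdiff.2 ⟨Finset.mem_univ _, fun h => hx ?_⟩
    have := (mem_fixer.1 g.2).2 _ h
    rw [(g : Perm α).injective this] at h
    exact h
  · rw [Finset.card_image_of_injective, Finset.card_univ, Nat.card_eq_fintype_card]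
    intro g g' e
    have h := semiregular hsemi hS (((g' : Perm α))⁻¹ * g) (mul_mem (inv_mem g'.2) g.2) x hx
      (by rw [Perm.mul_apply]; simp only at e; rw [e]; exact (g' : Perm α).symm_apply_apply x)
    exact Subtype.ext (inv_mul_eq_one.1 h).symm

include hT in
theorem card_fixer_eq {S S' : Finset α} (hS : S.card = k) (hS' : S'.card = k) :
    Nat.card (fixer G S') = Nat.card (fixer G S) := by
  obtain ⟨g, hg, e⟩ := hT.homog S S' hS hS'
  rw [← e, card_fixer_dvd_of_eq_image hg]

include hT hsemi in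
/-- Transitive stabilisers of `k` points give `(k+1)`-transitivity. -/
theorem trans_succ (hkn' : k + 1 < Fintype.card α)
    (hcard : ∀ S : Finset α, S.card = k → Nat.card (fixer G S) + k = Fintype.card α) :
    Trans G (k + 1) := by
  refine trans_of_fixer_transitive hkn' fun S hS x y hx hy => ?_
  have hS' : S.card = k := by omega
  obtain ⟨O, hO, hOc, hOm⟩ := exists_orbit hsemi hS' hx
  have : O = Finset.univ \ S := Finset.eq_of_subset_of_card_le hO (by
    rw [Finset.card_sdiff_of_subset (Finset.subset_univ _), Finset.card_univ, hOc]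
    have := hcard S hS'
    omega)
  exact (hOm y).1 (this ▸ Finset.mem_sdiff.2 ⟨Finset.mem_univ _, hy⟩)

theorem fullAlt_of_trans_succ (h : Trans G (k + 1)) {Δ : Finset α} (hΔ : Δ.card = k + 1) :
    FullAlt G Δ := fun σ hσ _ =>
  ⟨hσ, h Δ σ hΔ.le σ.injective.injOn⟩

include hT in
theorem fullAlt_of_card_eq_succ (hn : Fintype.card α = k + 1) (Δ : Finset α) : FullAlt G Δ := by
  intro σ hσ _
  obtain ⟨z, -⟩ := Finset.card_pos.1 (show 0 < (Finset.univ : Finset α).card by
    rw [Finset.card_univ]; omega)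
  obtain ⟨g, hg, hgσ⟩ := hT (Finset.univ.erase z) σ (by
    rw [Finset.card_erase_of_mem (Finset.mem_univ z), Finset.card_univ]; omega) σ.injective.injOn
  refine ⟨hσ, g, hg, fun x _ => ?_⟩
  by_contra hne
  have hxz : x = z := by
    by_contra h
    exact hne (hgσ x (Finset.mem_erase.2 ⟨h, Finset.mem_univ x⟩))
  subst hxz
  have h1 : σ⁻¹ (g x) ≠ x := fun e => hne (by rw [← Perm.eq_inv_iff_eq.1 e.symm])
  have h2 := hgσ _ (Finset.mem_erase.2 ⟨h1, Finset.mem_univ _⟩)
  have h3 : σ (σ⁻¹ (g x)) = g x := σ.apply_symm_apply _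
  rw [h3] at h2
  exact h1 (g.injective h2)

include hT hkn hsemi in
/-- The degree `k + 2` case: the alternating group. -/
theorem fullAlt_of_card_eq_add_two (hn : Fintype.card α = k + 2)
    (hκ : ∀ S : Finset α, S.card = k → Nat.card (fixer G S) = 1) (Δ : Finset α) : FullAlt G Δ := by
  classical
  obtain ⟨S, -, hS⟩ := Finset.exists_subset_card_eq (s := (Finset.univ : Finset α)) (n := k)
    (by rw [Finset.card_univ]; omega)
  let r : G → (S ↪ α) := fun g =>
    ⟨fun x => (g : Perm α) x, fun a b e => Subtype.ext ((g : Perm α).injective e)⟩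
  have hr : Function.Bijective r := by
    refine ⟨fun g h e => ?_, fun e => ?_⟩
    · obtain ⟨h1, h2⟩ := eq_of_agree (S := S) g.2 h.2 fun x hx => DFunLike.congr_fun e ⟨x, hx⟩
      have hbot := Subgroup.card_eq_one.1 (hκ S hS)
      have h3 : ((h : Perm α))⁻¹ * g ∈ (⊥ : Subgroup (Perm α)) := hbot ▸ mem_fixer.2 ⟨h1, h2⟩
      exact Subtype.ext (inv_mul_eq_one.1 (Subgroup.mem_bot.1 h3)).symm
    · obtain ⟨g, hg, hg'⟩ := hT S (fun x => if h : x ∈ S then e ⟨x, h⟩ else x) hS.le (by
        intro u hu v hv euv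
        simp only [Finset.mem_coe] at hu hv
        simp only [dif_pos hu, dif_pos hv] at euv
        exact congrArg Subtype.val (e.injective euv))
      refine ⟨⟨g, hg⟩, Function.Embedding.ext fun x => ?_⟩
      change g x = e x
      rw [hg' x x.2, dif_pos x.2]
  have hcard : Nat.card G * 2 = Nat.card (Perm α) := by
    rw [Nat.card_eq_of_bijective r hr, Nat.card_eq_fintype_card, Fintype.card_embedding_eq,
      Fintype.card_coe, hS, hn, Nat.card_perm, Nat.card_eq_fintype_card, hn,
      ← Nat.factorial_mul_descFactorial (show k ≤ k + 2 by omega), Nat.add_sub_cancel_left,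
      Nat.factorial_two, mul_comm]
  have hG := Perm.eq_alternatingGroup_of_index_eq_two (G := G) (Nat.eq_of_mul_eq_mul_left
    (Nat.card_pos (α := G)) (by rw [Subgroup.card_mul_index, hcard]))
  exact fun σ hσ hs => ⟨hσ, σ, hG ▸ Perm.mem_alternatingGroup.2 hs, fun x _ => rfl⟩

include hT hsemi in
/-- Stabilisers of even order: every `(k+1)`-set carries the symmetric group. -/
theorem fullAlt_of_even (hk : 3 ≤ k) (hkn' : k + 1 < Fintype.card α)
    (heven : ∀ S : Finset α, S.card = k → Even (Nat.card (fixer G S)))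
    {Δ : Finset α} (hΔ : Δ.card = k + 1) : FullAlt G Δ := by
  classical
  -- lifts of transpositions commuting with an involution
  have hlift : ∀ S : Finset α, S.card = k → ∀ i ∈ fixer G S, i * i = 1 → i ≠ 1 →
      ∀ a ∈ S, ∀ b ∈ S, a ≠ b → ∀ x, x ∉ S →
      ∃ t ∈ G, t x = x ∧ (∀ s ∈ S, t s = swap a b s) ∧ ∀ y, y ∉ S → t y = y → y = x ∨ y = i x := by
    intro S hS i hi hii hne a ha b hb hab x hx
    obtain ⟨hiG, hiS⟩ := mem_fixer.1 hi
    have hix : i x ≠ x := fun e => hne (semiregular hsemi hS i hi x hx e)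
    have hixS : i x ∉ S := fun h => hx (by
      have := hiS _ h
      rw [inv_apply_self hii] at this
      rw [this]; exact h)
    let S' := insert x (insert (i x) ((S.erase a).erase b))
    have hS' : S'.card = k := by
      rw [Finset.card_insert_of_notMem (by simp [hx, Ne.symm hix]),
        Finset.card_insert_of_notMem (by simp [hixS]),
        Finset.card_erase_of_mem (Finset.mem_erase.2 ⟨hab.symm, hb⟩), Finset.card_erase_of_mem ha]
      omega
    have hnorm : ∀ g ∈ fixer G S', i * g * i ∈ fixer G S' := by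
      intro g hg
      obtain ⟨hgG, hgS⟩ := mem_fixer.1 hg
      refine mem_fixer.2 ⟨G.mul_mem (G.mul_mem hiG hgG) hiG, fun y hy => ?_⟩
      have hiy : i y ∈ S' := by
        simp only [S', Finset.mem_insert, Finset.mem_erase] at hy ⊢
        rcases hy with rfl | rfl | ⟨h1, h2, h3⟩
        · exact Or.inr (Or.inl rfl)
        · exact Or.inl (inv_apply_self hii x)
        · rw [hiS y h3]; exact Or.inr (Or.inr ⟨h1, h2, h3⟩)
      rw [Perm.mul_apply, Perm.mul_apply, hgS _ hiy, inv_apply_self hii]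
    obtain ⟨t, ht, htne, htt, hcomm⟩ := exists_involution_commute (heven S' hS') hii hnorm
    obtain ⟨htG, htS⟩ := mem_fixer.1 ht
    have hout : ∀ y, y ∉ S' → t y ≠ y := fun y hy e => htne (semiregular hsemi hS' t ht y hy e)
    have hfixi : ∀ y, i y = y → y ∈ S := fun y e => by
      by_contra h
      exact hne (semiregular hsemi hS i hi y h e)
    have htmem : ∀ s ∈ S, t s ∈ S := fun s hs => hfixi _ (by
      rw [← Perm.mul_apply, hcomm, Perm.mul_apply, hiS s hs])
    have haS' : a ∉ S' := by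
      simp only [S', Finset.mem_insert, Finset.mem_erase, ne_eq, not_true, false_and, and_false,
        or_false, not_or]
      exact ⟨fun e => hx (e ▸ ha), fun e => hixS (e ▸ ha)⟩
    have hta : t a = b := by
      by_contra h
      have h1 : t a ∈ S' := by
        simp only [S', Finset.mem_insert, Finset.mem_erase]
        exact Or.inr (Or.inr ⟨h, hout a haS', htmem a ha⟩)
      exact hout a haS' (t.injective (htS _ h1))
    have htb : t b = a := by rw [← hta, inv_apply_self htt]
    refine ⟨t, htG, htS x (Finset.mem_insert_self _ _), fun s hs => ?_, fun y hy e => ?_⟩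
    · rcases eq_or_ne s a with rfl | hsa
      · rw [hta, swap_apply_left]
      rcases eq_or_ne s b with rfl | hsb
      · rw [htb, swap_apply_right]
      rw [swap_apply_of_ne_of_ne hsa hsb]
      exact htS s (by simp [S', hsa, hsb, hs])
    · by_contra h
      refine hout y ?_ e
      simp only [S', Finset.mem_insert, Finset.mem_erase]
      tauto
  have hinv : ∀ S : Finset α, S.card = k → ∃ i ∈ fixer G S, i * i = 1 ∧ i ≠ 1 := by
    intro S hS
    have : Fact (Nat.Prime 2) := ⟨Nat.prime_two⟩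
    obtain ⟨i, hi⟩ := exists_prime_orderOf_dvd_card' (G := fixer G S) 2
      (even_iff_two_dvd.1 (heven S hS))
    refine ⟨i, i.2, ?_, fun e => ?_⟩
    · rw [← Subgroup.coe_mul, ← pow_two, ← hi, pow_orderOf_eq_one]; rfl
    · rw [← Subgroup.orderOf_coe, e, orderOf_one] at hi; omega
  by_cases hfull : ∀ S : Finset α, S.card = k → Nat.card (fixer G S) + k = Fintype.card α
  · exact fullAlt_of_trans_succ (trans_succ hT hsemi hkn' hfull) hΔ
  push Not at hfull
  obtain ⟨S₀, hS₀, hκ₀⟩ := hfull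
  obtain ⟨κ, hκ⟩ : ∃ κ, κ = Nat.card (fixer G S₀) := ⟨_, rfl⟩
  have hκeq : ∀ S : Finset α, S.card = k → Nat.card (fixer G S) = κ := fun S hS =>
    hκ ▸ card_fixer_eq hT hS₀ hS
  obtain ⟨i, hi, hii, hine⟩ := hinv S₀ hS₀
  -- at most two orbits
  have hle : Fintype.card α ≤ k + 2 * κ := by
    obtain ⟨a, ha, b, hb, hab⟩ := Finset.one_lt_card.1 (show 1 < S₀.card by omega)
    choose t htG htx htS hty using fun x : {x // x ∉ S₀} => hlift S₀ hS₀ i hi hii hine a ha b hb hab x x.2
    have h1 : (Finset.univ : Finset {x // x ∉ S₀}).card ≤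
        2 * (Finset.univ.image t).card := by
      refine Finset.card_le_mul_card_image _ 2 fun g hg => ?_
      obtain ⟨x, -, rfl⟩ := Finset.mem_image.1 hg
      refine le_trans (Finset.card_le_card_of_injOn Subtype.val ?_ Subtype.val_injective.injOn)
        (Finset.card_le_two (a := (x : α)) (b := i x))
      intro y hy
      simp only [Finset.coe_filter, Finset.mem_univ, true_and, Set.mem_ofPred_eq] at hy
      have := hty x y y.2 (hy ▸ htx y)
      simp only [Finset.coe_insert, Finset.coe_singleton, Set.mem_insert_iff, Set.mem_singleton_iff]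
      exact this
    have h2 : (Finset.univ.image t).card ≤ κ := by
      rcases (Finset.univ.image t).eq_empty_or_nonempty with h | ⟨g₀, hg₀⟩
      · simp [h]
      obtain ⟨x₀, -, rfl⟩ := Finset.mem_image.1 hg₀
      rw [hκ, ← Nat.card_eq_finsetCard]
      have hmem : ∀ g : {g // g ∈ Finset.univ.image t}, (t x₀)⁻¹ * g ∈ fixer G S₀ := fun g => by
        obtain ⟨x, -, e⟩ := Finset.mem_image.1 g.2
        obtain ⟨e1, e2⟩ := eq_of_agree (htG x) (htG x₀) fun s hs => (htS x s hs).trans (htS x₀ s hs).symm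
        rw [← e]
        exact mem_fixer.2 ⟨e1, e2⟩
      exact Nat.card_le_card_of_injective (fun g => (⟨_, hmem g⟩ : fixer G S₀)) fun g g' e =>
        Subtype.ext (mul_left_cancel (congrArg Subtype.val e))
    rw [Finset.card_univ, Fintype.card_subtype_compl, Fintype.card_coe, hS₀] at h1
    omega
  have hdvd : κ ∣ Fintype.card α - k := by
    have := card_fixer_dvd (semiregular hsemi hS₀)
    rwa [hS₀, ← hκ] at this
  have hn2 : Fintype.card α - k = 2 * κ := by
    obtain ⟨c, hc⟩ := hdvd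
    have hc2 : c ≤ 2 := by
      by_contra h
      nlinarith [show 0 < κ from hκ ▸ Nat.card_pos (α := fixer G S₀),
        Nat.sub_add_cancel (show k ≤ Fintype.card α by omega)]
    interval_cases c <;> omega
  -- at most two classes of pairs
  have hclass : ∀ y z w : α, y ∉ S₀ → z ∉ S₀ → w ∉ S₀ →
      (∃ g ∈ fixer G S₀, g y = z) ∨ (∃ g ∈ fixer G S₀, g y = w) ∨ ∃ g ∈ fixer G S₀, g z = w := by
    intro y z w hy hz hw
    by_contra! h
    obtain ⟨O, hO, hOc, hOm⟩ := exists_orbit hsemi hS₀ hy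
    obtain ⟨O', hO', hOc', hOm'⟩ := exists_orbit hsemi hS₀ hz
    obtain ⟨O'', hO'', hOc'', hOm''⟩ := exists_orbit hsemi hS₀ hw
    have hdisj : Disjoint O O' := Finset.disjoint_left.2 fun u hu hu' => by
      obtain ⟨g, hg, e⟩ := (hOm u).1 hu
      obtain ⟨g', hg', e'⟩ := (hOm' u).1 hu'
      exact h.1 (g'⁻¹ * g) (mul_mem (inv_mem hg') hg) (by
        rw [Perm.mul_apply, e, ← e']; exact g'.symm_apply_apply z)
    have heq : O ∪ O' = Finset.univ \ S₀ := Finset.eq_of_subset_of_card_le
      (Finset.union_subset hO hO') (by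
        rw [Finset.card_union_of_disjoint hdisj, Finset.card_sdiff_of_subset (Finset.subset_univ _),
          Finset.card_univ, hS₀, hOc, hOc', ← hκ]
        omega)
    rcases Finset.mem_union.1 (heq.symm ▸ Finset.mem_sdiff.2 ⟨Finset.mem_univ w, hw⟩ : w ∈ O ∪ O')
      with h' | h'
    · obtain ⟨g, hg, e⟩ := (hOm w).1 h'
      exact h.2.1 g hg e
    · obtain ⟨g, hg, e⟩ := (hOm' w).1 h'
      exact h.2.2 g hg e
  have hmove : ∀ Δ : Finset α, Δ.card = k + 1 → ∃ x ∈ Δ, ∃ g ∈ G, Δ.image g = Δ ∧ g x ≠ x := by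
    intro Δ hΔ
    obtain ⟨z₁, z₂, z₃, h₁, h₂, h₃, d12, d13, d23⟩ :=
      Finset.two_lt_card_iff.1 (show 2 < Δ.card by omega)
    have hmap : ∀ z ∈ Δ, ∃ g ∈ G, (Δ.erase z).image g = S₀ ∧ g z ∉ S₀ := by
      intro z hz
      obtain ⟨g, hg, e⟩ := hT.homog (Δ.erase z) S₀ (by
        rw [Finset.card_erase_of_mem hz]; omega) hS₀
      exact ⟨g, hg, e, fun h => by
        rw [← e, g.injective.mem_finset_image] at h
        exact (Finset.mem_erase.1 h).1 rfl⟩
    have key : ∀ z ∈ Δ, ∀ z' ∈ Δ, z ≠ z' → ∀ f f' g : Perm α, f ∈ G → f' ∈ G →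
        (Δ.erase z).image f = S₀ → (Δ.erase z').image f' = S₀ → g ∈ fixer G S₀ → g (f z) = f' z' →
        ∃ x ∈ Δ, ∃ g ∈ G, Δ.image g = Δ ∧ g x ≠ x := by
      intro z hz z' hz' hne f f' g hf hf' e e' hg hgz
      obtain ⟨hgG, hgS⟩ := mem_fixer.1 hg
      refine ⟨z, hz, f'⁻¹ * g * f, G.mul_mem (G.mul_mem (G.inv_mem hf') hgG) hf, ?_, ?_⟩
      · have h1 : S₀.image g = S₀ := (Finset.image_congr fun x hx => hgS x hx).trans Finset.image_id'
        have h2 : (f'⁻¹ * g * f) z = z' := by
          rw [Perm.mul_apply, Perm.mul_apply, hgz]; exact f'.symm_apply_apply z'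
        conv_lhs => rw [← Finset.insert_erase hz]
        rw [Finset.image_insert, h2, Perm.coe_mul, ← Finset.image_image, e, Perm.coe_mul,
          ← Finset.image_image, h1, ← e', Finset.image_image,
          show (⇑f'⁻¹ ∘ ⇑f') = id from funext fun x => f'.symm_apply_apply x, Finset.image_id,
          Finset.insert_erase hz']
      · rw [Perm.mul_apply, Perm.mul_apply, hgz, Perm.coe_inv, Equiv.symm_apply_apply]
        exact hne.symm
    obtain ⟨f₁, g₁, e₁, n₁⟩ := hmap z₁ h₁
    obtain ⟨f₂, g₂, e₂, n₂⟩ := hmap z₂ h₂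
    obtain ⟨f₃, g₃, e₃, n₃⟩ := hmap z₃ h₃
    rcases hclass _ _ _ n₁ n₂ n₃ with ⟨g, hg, h⟩ | ⟨g, hg, h⟩ | ⟨g, hg, h⟩
    · exact key z₁ h₁ z₂ h₂ d12 f₁ f₂ g g₁ g₂ e₁ e₂ hg h
    · exact key z₁ h₁ z₃ h₃ d13 f₁ f₃ g g₁ g₃ e₁ e₃ hg h
    · exact key z₂ h₂ z₃ h₃ d23 f₂ f₃ g g₂ g₃ e₂ e₃ hg h
  obtain ⟨x, hx, g, hg, hgΔ, hgx⟩ := hmove Δ hΔ
  have hgmem : ∀ y, g y ∈ Δ ↔ y ∈ Δ := fun y => by
    conv_lhs => rw [← hgΔ]
    exact g.injective.mem_finset_image
  have hμ : Perm.ofSubtype (g.subtypePerm hgmem) ∈ ind G (insert x (Δ.erase x)) := by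
    rw [Finset.insert_erase hx]
    exact ⟨fun y hy => ofSubtype_mem_supp _ y hy, g, hg, fun y hy => by
      rw [Perm.ofSubtype_apply_of_mem _ hy]; rfl⟩
  have hS : (Δ.erase x).card = k := by rw [Finset.card_erase_of_mem hx]; omega
  have hfullΔ := ind_full_of_mover (G := G) (Finset.notMem_erase x Δ) (by omega) (fun a ha b hb hab => by
    obtain ⟨j, hj, hjj, hjne⟩ := hinv _ hS
    obtain ⟨t, htG, htx, htS, -⟩ := hlift _ hS j hj hjj hjne a ha b hb hab x (Finset.notMem_erase x Δ)
    refine ⟨fun y hy => ?_, t, htG, fun y hy => ?_⟩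
    · simp only [Finset.mem_insert, not_or] at hy
      exact swap_apply_of_ne_of_ne (fun e => hy.2 (by rw [e]; exact ha))
        (fun e => hy.2 (by rw [e]; exact hb))
    · rcases Finset.mem_insert.1 hy with rfl | hy
      · rw [htx, swap_apply_of_ne_of_ne (fun e => Finset.notMem_erase y Δ (by subst e; exact ha))
          (fun e => Finset.notMem_erase y Δ (by subst e; exact hb))]
      · exact htS y hy) hμ (by rw [Perm.ofSubtype_apply_of_mem _ hx]; exact hgx)
  rw [Finset.insert_erase hx] at hfullΔ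
  exact fun σ hσ _ => hfullΔ σ hσ

set_option maxHeartbeats 4000000 in
include hT hkn hsemi in
/-- Trivial stabilisers in degree `k + 7`: every `(k+1)`-set through a distinguished point. -/
theorem exists_fullAlt_of_sharp (hk : 4 ≤ k) (hn : Fintype.card α = k + 7)
    (hκ : ∀ S : Finset α, S.card = k → Nat.card (fixer G S) = 1) :
    ∃ Δ : Finset α, Δ.card = k + 1 ∧ FullAlt G Δ := by
  classical
  have huniq : ∀ {S : Finset α}, S.card = k → ∀ {g h : Perm α}, g ∈ G → h ∈ G →
      (∀ x ∈ S, g x = h x) → g = h := by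
    intro S hS g h hg hh e
    obtain ⟨h1, h2⟩ := eq_of_agree hg hh e
    have h3 : h⁻¹ * g ∈ (⊥ : Subgroup (Perm α)) :=
      (Subgroup.card_eq_one.1 (hκ S hS)) ▸ mem_fixer.2 ⟨h1, h2⟩
    exact (inv_mul_eq_one.1 (Subgroup.mem_bot.1 h3)).symm
  have hfixbd : ∀ g ∈ G, g ≠ 1 → (fix g).card ≤ k - 1 := by
    intro g hg hne
    by_contra h
    obtain ⟨S, hS, hSc⟩ := Finset.exists_subset_card_eq (s := fix g) (n := k) (by omega)
    exact hne (huniq hSc hg G.one_mem fun x hx => mem_fix.1 (hS hx))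
  -- the lift of a transposition and its further fixed point
  have hlift : ∀ S : Finset α, S.card = k → ∀ a ∈ S, ∀ b ∈ S, a ≠ b →
      ∃ j ∈ G, ∃ x ∉ S, j * j = 1 ∧ (∀ s ∈ S, j s = swap a b s) ∧ j x = x ∧
        ∀ y ∉ S, j y = y → y = x := by
    intro S hS a ha b hb hab
    obtain ⟨j, hj, hjS⟩ := hT S (swap a b) hS.le (Equiv.injective _).injOn
    have hjj : j * j = 1 := huniq hS (G.mul_mem hj hj) G.one_mem fun s hs => by
      rw [Perm.mul_apply, hjS s hs, hjS _ (swap_preserves ha hb s hs), swap_apply_self]; rfl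
    have hne : j ≠ 1 := fun e => hab (by
      have := hjS a ha
      rwa [e, Perm.one_apply, swap_apply_left] at this)
    have hsub : (S.erase a).erase b ⊆ fix j := fun s hs => by
      simp only [Finset.mem_erase] at hs
      exact mem_fix.2 (by rw [hjS s hs.2.2, swap_apply_of_ne_of_ne hs.2.1 hs.1])
    have hc : ((S.erase a).erase b).card = k - 2 := by
      rw [Finset.card_erase_of_mem (Finset.mem_erase.2 ⟨hab.symm, hb⟩),
        Finset.card_erase_of_mem ha, hS]
      omega
    have h1 := Finset.card_le_card hsub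
    have h2 := hfixbd j hj hne
    have h3 := card_fix_parity hjj
    obtain ⟨x, hx⟩ : ∃ x, fix j \ (S.erase a).erase b = {x} := Finset.card_eq_one.1 (by
      rw [Finset.card_sdiff_of_subset hsub]; omega)
    have hmem : ∀ y, y ∉ S → (j y = y ↔ y = x) := fun y hy => by
      have h := Finset.ext_iff.1 hx y
      simpa [mem_fix, hy] using h
    have hxm : x ∈ fix j \ (S.erase a).erase b := hx ▸ Finset.mem_singleton_self x
    obtain ⟨hxf, hxn⟩ := Finset.mem_sdiff.1 hxm
    rw [mem_fix] at hxf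
    refine ⟨j, hj, x, fun hxS => hxn ?_, hjj, hjS, hxf, fun y hy e => (hmem y hy).1 e⟩
    simp only [Finset.mem_erase]
    refine ⟨?_, ?_, hxS⟩
    · rintro rfl; exact hab (by have := hjS x hxS; rw [hxf, swap_apply_right] at this; exact this.symm)
    · rintro rfl; exact hab (by have := hjS x hxS; rwa [hxf, swap_apply_left] at this)
  choose J hJG X hXS hJJ hJS hJX hJu using hlift
  -- disjoint transpositions share the fixed point
  have hdisj : ∀ {S : Finset α} (hS : S.card = k) {a b c d : α} (ha : a ∈ S) (hb : b ∈ S)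
      (hc : c ∈ S) (hd : d ∈ S) (hab : a ≠ b) (hcd : c ≠ d), a ≠ c → a ≠ d → b ≠ c → b ≠ d →
      X S hS a ha b hb hab = X S hS c hc d hd hcd := by
    intro S hS a b c d ha hb hc hd hab hcd hac had hbc hbd
    set i := J S hS a ha b hb hab
    set j := J S hS c hc d hd hcd
    set x := X S hS a ha b hb hab
    have hi' : ∀ s ∈ S, i s = swap a b s := hJS S hS a ha b hb hab
    have hj' : ∀ s ∈ S, j s = swap c d s := hJS S hS c hc d hd hcd
    have hcomm : i * j = j * i := huniq hS (G.mul_mem (hJG ..) (hJG ..)) (G.mul_mem (hJG ..) (hJG ..))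
      fun s hs => by
        rw [Perm.mul_apply, Perm.mul_apply, hj' s hs, hi' _ (swap_preserves hc hd s hs), hi' s hs,
          hj' _ (swap_preserves ha hb s hs)]
        have hsw : swap a b * swap c d = swap c d * swap a b := by
          rw [Equiv.mul_swap_eq_swap_mul (swap a b) c d,
            swap_apply_of_ne_of_ne hac.symm hbc.symm, swap_apply_of_ne_of_ne had.symm hbd.symm]
        rw [← Perm.mul_apply, hsw, Perm.mul_apply]
    have h1 : i (j x) = j x := by
      rw [← Perm.mul_apply, hcomm, Perm.mul_apply, hJX]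
    have h2 : j x ∉ S := fun h => hXS S hS a ha b hb hab (show x ∈ S by
      have h3 := hj' _ h
      rw [inv_apply_self (hJJ ..)] at h3
      rw [h3]; exact swap_preserves hc hd _ h)
    exact hJu S hS c hc d hd hcd x (hXS _ _ _ _ _ _ _) (hJu S hS a ha b hb hab _ h2 h1)
  have hsymm : ∀ {S : Finset α} (hS : S.card = k) {a b : α} (ha : a ∈ S) (hb : b ∈ S) (hab : a ≠ b),
      X S hS a ha b hb hab = X S hS b hb a ha hab.symm := by
    intro S hS a b ha hb hab
    have e : J S hS a ha b hb hab = J S hS b hb a ha hab.symm :=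
      huniq hS (hJG ..) (hJG ..) fun s hs => by rw [hJS _ _ _ _ _ _ _ s hs, hJS _ _ _ _ _ _ _ s hs, swap_comm]
    exact hJu S hS b hb a ha hab.symm _ (hXS _ _ _ _ _ _ _) (by rw [← e]; exact hJX ..)
  -- adjacent transpositions share it as well
  have hadj : ∀ {S : Finset α} (hS : S.card = k) {a b c : α} (ha : a ∈ S) (hb : b ∈ S)
      (hc : c ∈ S) (hab : a ≠ b) (hac : a ≠ c) (hbc : b ≠ c),
      X S hS a ha b hb hab = X S hS a ha c hc hac := by
    intro S hS a b c ha hb hc hab hac hbc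
    have hsub : ({a, b, c} : Finset α) ⊆ S := by simp [Finset.insert_subset_iff, ha, hb, hc]
    have hc3 : ({a, b, c} : Finset α).card = 3 := by simp [hab, hac, hbc]
    obtain ⟨d, hdS, hdn⟩ := Finset.exists_mem_notMem_of_card_lt_card
      (s := ({a, b, c} : Finset α)) (t := S) (by omega)
    simp only [Finset.mem_insert, Finset.mem_singleton, not_or] at hdn
    obtain ⟨da, db, dc⟩ := hdn
    by_cases hk5 : 5 ≤ k
    · obtain ⟨e, heS, hen⟩ := Finset.exists_mem_notMem_of_card_lt_card
        (s := ({a, b, c, d} : Finset α)) (t := S) (by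
          refine lt_of_le_of_lt Finset.card_le_four ?_
          omega)
      simp only [Finset.mem_insert, Finset.mem_singleton, not_or] at hen
      obtain ⟨ea, eb, ec, ed⟩ := hen
      rw [hdisj hS ha hb hdS heS hab (Ne.symm ed) (Ne.symm da) (Ne.symm ea) (Ne.symm db) (Ne.symm eb),
        hdisj hS ha hc hdS heS hac (Ne.symm ed) (Ne.symm da) (Ne.symm ea) (Ne.symm dc) (Ne.symm ec)]
    -- four points
    have hS4 : S = {a, b, c, d} := (Finset.eq_of_subset_of_card_le
      (by simp [Finset.insert_subset_iff, ha, hb, hc, hdS]) (by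
        rw [Finset.card_eq_four.2 ⟨a, b, c, d, hab, hac, Ne.symm da, hbc, Ne.symm db, Ne.symm dc, rfl⟩]
        omega)).symm
    by_contra hAB
    set A := X S hS a ha b hb hab
    set B := X S hS a ha c hc hac
    set C := X S hS a ha d hdS (Ne.symm da)
    set t := J S hS a ha b hb hab
    set s' := J S hS a ha c hc hac
    set r := J S hS a ha d hdS (Ne.symm da)
    set t' := J S hS c hc d hdS (Ne.symm dc)
    set s'' := J S hS b hb d hdS (Ne.symm db)
    set r' := J S hS b hb c hc hbc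
    have eA : X S hS c hc d hdS (Ne.symm dc) = A :=
      (hdisj hS ha hb hc hdS hab _ hac (Ne.symm da) hbc (Ne.symm db)).symm
    have eB : X S hS b hb d hdS (Ne.symm db) = B :=
      (hdisj hS ha hc hb hdS hac _ hab (Ne.symm da) hbc.symm (Ne.symm dc)).symm
    have eC : X S hS b hb c hc hbc = C :=
      (hdisj hS ha hdS hb hc (Ne.symm da) _ hab hac db dc).symm
    -- evaluation on the four points
    have hev : ∀ {u v : α} (hu : u ∈ S) (hv : v ∈ S) (huv : u ≠ v), ∀ z ∈ ({a, b, c, d} : Finset α),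
        J S hS u hu v hv huv z = swap u v z := fun hu hv huv z hz => hJS _ _ _ _ _ _ _ z (hS4 ▸ hz)
    have hGG : ∀ {u v : α} (hu : u ∈ S) (hv : v ∈ S) (huv : u ≠ v), J S hS u hu v hv huv ∈ G :=
      fun _ _ _ => hJG ..
    have heq4 : ∀ {g h : Perm α}, g ∈ G → h ∈ G → g a = h a → g b = h b → g c = h c → g d = h d →
        g = h := fun hg hh e1 e2 e3 e4 => huniq hS hg hh fun z hz => by
      rw [hS4] at hz
      simp only [Finset.mem_insert, Finset.mem_singleton] at hz
      rcases hz with rfl | rfl | rfl | rfl <;> assumption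
    have m : a ∈ ({a, b, c, d} : Finset α) ∧ b ∈ ({a, b, c, d} : Finset α) ∧
        c ∈ ({a, b, c, d} : Finset α) ∧ d ∈ ({a, b, c, d} : Finset α) := by simp
    obtain ⟨ma, mb, mc, md⟩ := m
    -- `t` exchanges the two other matchings, `s'` similarly
    have c1 : t * s' = r' * t := by
      refine heq4 (mul_mem (hGG ..) (hGG ..)) (mul_mem (hGG ..) (hGG ..)) ?_ ?_ ?_ ?_ <;>
        simp [t, s', r', hev, swap_apply_def, ma, mb, mc, md, hab, hac, hbc, da, db, dc,
          hab.symm, hac.symm, hbc.symm, Ne.symm da, Ne.symm db, Ne.symm dc]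
    have c2 : s' * t = r' * s' := by
      refine heq4 (mul_mem (hGG ..) (hGG ..)) (mul_mem (hGG ..) (hGG ..)) ?_ ?_ ?_ ?_ <;>
        simp [t, s', r', hev, swap_apply_def, ma, mb, mc, md, hab, hac, hbc, da, db, dc,
          hab.symm, hac.symm, hbc.symm, Ne.symm da, Ne.symm db, Ne.symm dc]
    have hnotS : ∀ {u v : α} (hu : u ∈ S) (hv : v ∈ S) (huv : u ≠ v) {z : α}, z ∉ S →
        J S hS u hu v hv huv z ∉ S := fun {u v} hu hv huv {z} hz h => hz (by
      have h3 := hJS S hS u hu v hv huv _ h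
      rw [inv_apply_self (hJJ ..)] at h3
      rw [h3]; exact swap_preserves hu hv _ h)
    have htB : t B = C := by
      rw [← eC]
      exact hJu S hS b hb c hc hbc _ (hnotS _ _ _ (hXS _ _ _ _ _ _ _)) (by
        rw [← Perm.mul_apply, ← c1, Perm.mul_apply, hJX])
    have hsA : s' A = C := by
      rw [← eC]
      exact hJu S hS b hb c hc hbc _ (hnotS _ _ _ (hXS _ _ _ _ _ _ _)) (by
        rw [← Perm.mul_apply, ← c2, Perm.mul_apply, hJX])
    have hCA : C ≠ A := fun e => hAB (by
      have h := congrArg t htB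
      rw [inv_apply_self (hJJ ..), e, hJX] at h
      exact h.symm)
    have hCB : C ≠ B := fun e => hAB (by
      have h := congrArg s' hsA
      rw [inv_apply_self (hJJ ..), e, hJX] at h
      exact h)
    set v₁ := t * t'
    set v₂ := s' * s''
    set v₃ := r * r'
    have hv : ∀ v ∈ [v₁, v₂, v₃], v ∈ G ∧ v * v = 1 ∧ v ≠ 1 := by
      intro v hv
      simp only [List.mem_cons, List.not_mem_nil, or_false] at hv
      refine ⟨?_, ?_, fun e => ?_⟩
      · rcases hv with rfl | rfl | rfl <;> exact mul_mem (hGG ..) (hGG ..)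
      · rcases hv with rfl | rfl | rfl <;>
          refine heq4 (mul_mem (mul_mem (hGG ..) (hGG ..)) (mul_mem (hGG ..) (hGG ..))) G.one_mem
            ?_ ?_ ?_ ?_ <;>
          simp [v₁, v₂, v₃, t, t', s', s'', r, r', hev, swap_apply_def, ma, mb, mc, md, hab, hac, hbc,
            da, db, dc, hab.symm, hac.symm, hbc.symm, Ne.symm da, Ne.symm db, Ne.symm dc]
      · have := Equiv.congr_fun e a
        rcases hv with rfl | rfl | rfl <;>
          simp [v₁, v₂, v₃, t, t', s', s'', r, r', hev, swap_apply_def, ma, mb, mc, md, hab, hac, hbc,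
            da, db, dc, hab.symm, hac.symm, hbc.symm, Ne.symm da, Ne.symm db, Ne.symm dc] at this
    -- each double transposition fixes the three points
    have e1 : v₁ * s' = s'' * v₁ ∧ v₁ * r = r' * v₁ ∧ v₂ * t = t' * v₂ ∧ v₂ * r = r' * v₂ ∧
        v₃ * t = t' * v₃ ∧ v₃ * s' = s'' * v₃ := by
      refine ⟨?_, ?_, ?_, ?_, ?_, ?_⟩ <;>
      refine heq4 (mul_mem (mul_mem (hGG ..) (hGG ..)) (hGG ..))
        (mul_mem (hGG ..) (mul_mem (hGG ..) (hGG ..))) ?_ ?_ ?_ ?_ <;>
        simp [v₁, v₂, v₃, t, t', s', s'', r, r', hev, swap_apply_def, ma, mb, mc, md, hab, hac, hbc,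
            da, db, dc, hab.symm, hac.symm, hbc.symm, Ne.symm da, Ne.symm db, Ne.symm dc]
    obtain ⟨p1, p2, p3, p4, p5, p6⟩ := e1
    have hvS : ∀ v ∈ [v₁, v₂, v₃], ∀ {z : α}, z ∉ S → v z ∉ S := by
      intro v hv z hz
      simp only [List.mem_cons, List.not_mem_nil, or_false] at hv
      rcases hv with rfl | rfl | rfl <;> exact hnotS _ _ _ (hnotS _ _ _ hz)
    have hvfix : ∀ v ∈ [v₁, v₂, v₃], v A = A ∧ v B = B ∧ v C = C := by
      intro v hv'
      have hm := hv'
      simp only [List.mem_cons, List.not_mem_nil, or_false] at hv'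
      refine ⟨?_, ?_, ?_⟩
      · rcases hv' with rfl | rfl | rfl
        · rw [Perm.mul_apply, show t' A = A from eA ▸ hJX .., hJX]
        all_goals
          rw [← eA]
          refine hJu S hS c hc d hdS _ _ (hvS _ hm (hXS _ _ _ _ _ _ _)) ?_
          rw [eA, ← Perm.mul_apply]
          first | rw [← p3, Perm.mul_apply, hJX] | rw [← p5, Perm.mul_apply, hJX]
      · rcases hv' with rfl | rfl | rfl
        rotate_left
        · rw [Perm.mul_apply, show s'' B = B from eB ▸ hJX .., hJX]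
        all_goals
          rw [← eB]
          refine hJu S hS b hb d hdS _ _ (hvS _ hm (hXS _ _ _ _ _ _ _)) ?_
          rw [eB, ← Perm.mul_apply]
          first | rw [← p1, Perm.mul_apply, hJX] | rw [← p6, Perm.mul_apply, hJX]
      · rcases hv' with rfl | rfl | rfl
        rotate_left
        rotate_left
        · rw [Perm.mul_apply, show r' C = C from eC ▸ hJX .., hJX]
        all_goals
          rw [← eC]
          refine hJu S hS b hb c hc _ _ (hvS _ hm (hXS _ _ _ _ _ _ _)) ?_
          rw [eC, ← Perm.mul_apply]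
          first | rw [← p2, Perm.mul_apply, hJX] | rw [← p4, Perm.mul_apply, hJX]
    -- the remaining four points
    set U := Finset.univ \ (S ∪ {A, B, C})
    have hcardU : U.card = 4 := by
      rw [Finset.card_sdiff_of_subset (Finset.subset_univ _), Finset.card_univ,
        Finset.card_union_of_disjoint (by
          simp only [Finset.disjoint_insert_right, Finset.disjoint_singleton_right]
          exact ⟨hXS _ _ _ _ _ _ _, hXS _ _ _ _ _ _ _, hXS _ _ _ _ _ _ _⟩),
        show ({A, B, C} : Finset α).card = 3 by simp [hAB, Ne.symm hCA, Ne.symm hCB]]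
      omega
    have hfpf : ∀ v ∈ [v₁, v₂, v₃], ∀ z ∈ U, v z ∈ U ∧ v z ≠ z := by
      intro v hv' z hz
      obtain ⟨hvG, hvv, hvne⟩ := hv v hv'
      obtain ⟨hA, hB, hC⟩ := hvfix v hv'
      simp only [U, Finset.mem_sdiff, Finset.mem_univ, true_and, Finset.mem_union, Finset.mem_insert,
        Finset.mem_singleton, not_or] at hz ⊢
      refine ⟨⟨hvS v hv' hz.1, fun e => hz.2.1 (v.injective (e.trans hA.symm)),
        fun e => hz.2.2.1 (v.injective (e.trans hB.symm)),
        fun e => hz.2.2.2 (v.injective (e.trans hC.symm))⟩, fun e => ?_⟩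
      have h4 : ({A, B, C, z} : Finset α).card = 4 :=
        Finset.card_eq_four.2 ⟨A, B, C, z, hAB, Ne.symm hCA, Ne.symm hz.2.1, Ne.symm hCB,
          Ne.symm hz.2.2.1, Ne.symm hz.2.2.2, rfl⟩
      have := Finset.card_le_card (show ({A, B, C, z} : Finset α) ⊆ fix v by
        simp [Finset.insert_subset_iff, mem_fix, hA, hB, hC, e])
      have := hfixbd v hvG hvne
      omega
    obtain ⟨y, hy⟩ := Finset.card_pos.1 (show 0 < U.card by omega)
    have hm1 : v₁ ∈ [v₁, v₂, v₃] := by simp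
    have hm2 : v₂ ∈ [v₁, v₂, v₃] := by simp
    have hm3 : v₃ ∈ [v₁, v₂, v₃] := by simp
    have e2 : t * v₁ = v₁ * t ∧ t * v₂ = v₃ * t ∧ v₃ * v₁ = v₂ ∧ v₃ * v₂ = v₁ ∧ v₂ * v₁ = v₃ ∧
        t * v₃ = v₂ * t ∧ v₂ * v₃ = v₁ := by
      refine ⟨?_, ?_, ?_, ?_, ?_, ?_, ?_⟩ <;>
      refine heq4 (by repeat' first | exact hGG .. | apply mul_mem)
        (by repeat' first | exact hGG .. | apply mul_mem) ?_ ?_ ?_ ?_ <;>
        simp [v₁, v₂, v₃, t, t', s', s'', r, r', hev, swap_apply_def, ma, mb, mc, md, hab, hac, hbc,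
            da, db, dc, hab.symm, hac.symm, hbc.symm, Ne.symm da, Ne.symm db, Ne.symm dc]
    obtain ⟨q1, q2, q3, q4, q5, q6, q7⟩ := e2
    have hsetU : ({y, v₁ y, v₂ y, v₃ y} : Finset α) = U := by
      refine Finset.eq_of_subset_of_card_le ?_ (le_of_eq ?_)
      · simp [Finset.insert_subset_iff, hy, (hfpf _ hm1 y hy).1, (hfpf _ hm2 y hy).1,
          (hfpf _ hm3 y hy).1]
      · rw [hcardU, eq_comm]
        refine Finset.card_eq_four.2 ⟨y, v₁ y, v₂ y, v₃ y, (hfpf _ hm1 y hy).2.symm,
          (hfpf _ hm2 y hy).2.symm, (hfpf _ hm3 y hy).2.symm, fun e => ?_, fun e => ?_, fun e => ?_, rfl⟩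
        · refine (hfpf _ hm3 _ (hfpf _ hm2 y hy).1).2 ?_
          rw [← Perm.mul_apply, q4, e]
        · refine (hfpf _ hm2 _ (hfpf _ hm3 y hy).1).2 ?_
          rw [← Perm.mul_apply, q7, e]
        · refine (hfpf _ hm1 y hy).2 (v₂.injective ?_)
          rw [← Perm.mul_apply, q5, ← e]
    have htU : ∀ z ∈ U, t z ∈ U ∧ t z ≠ z := by
      intro z hz
      simp only [U, Finset.mem_sdiff, Finset.mem_univ, true_and, Finset.mem_union, Finset.mem_insert,
        Finset.mem_singleton, not_or] at hz ⊢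
      refine ⟨⟨hnotS _ _ _ hz.1, fun e => hz.2.1 ?_, fun e => hz.2.2.2 ?_, fun e => hz.2.2.1 ?_⟩,
        fun e => hz.2.1 (hJu _ _ _ _ _ _ _ z hz.1 e)⟩
      · exact t.injective (e.trans (hJX ..).symm)
      · exact t.injective (e.trans (by rw [← htB, inv_apply_self (hJJ ..)]))
      · exact t.injective (e.trans htB.symm)
    have htt : ∀ z, t (t z) = z := inv_apply_self (hJJ ..)
    have htyU := htU y hy
    have hmem : t y ∈ ({y, v₁ y, v₂ y, v₃ y} : Finset α) := hsetU ▸ htyU.1
    simp only [Finset.mem_insert, Finset.mem_singleton] at hmem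
    rcases hmem with h | h | h | h
    · exact htyU.2 h
    · refine (htU _ (hfpf _ hm2 y hy).1).2 ?_
      rw [← Perm.mul_apply, q2, Perm.mul_apply, h, ← Perm.mul_apply, q3]
    · refine (hfpf _ hm1 y hy).2 ?_
      conv_rhs => rw [← htt y, h, ← Perm.mul_apply, q2, Perm.mul_apply, h, ← Perm.mul_apply, q4]
    · refine (hfpf _ hm1 y hy).2 ?_
      conv_rhs => rw [← htt y, h, ← Perm.mul_apply, q6, Perm.mul_apply, h, ← Perm.mul_apply, q7]
  have hall : ∀ {S : Finset α} (hS : S.card = k) {a b c d : α} (ha : a ∈ S) (hb : b ∈ S)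
      (hc : c ∈ S) (hd : d ∈ S) (hab : a ≠ b) (hcd : c ≠ d),
      X S hS a ha b hb hab = X S hS c hc d hd hcd := by
    intro S hS a b c d ha hb hc hd hab hcd
    have hfrom : ∀ {u v w : α} (hu : u ∈ S) (hv : v ∈ S) (hw : w ∈ S) (huv : u ≠ v) (huw : u ≠ w),
        X S hS u hu v hv huv = X S hS u hu w hw huw := by
      intro u v w hu hv hw huv huw
      rcases eq_or_ne v w with rfl | hvw
      · rfl
      · exact hadj hS hu hv hw huv huw hvw
    rcases eq_or_ne a c with rfl | hac
    · exact hfrom ha hb hd hab hcd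
    rw [hfrom ha hb hc hab hac, hsymm hS ha hc hac, hfrom hc ha hd hac.symm hcd]
  obtain ⟨S, -, hS⟩ := Finset.exists_subset_card_eq (s := (Finset.univ : Finset α)) (n := k)
    (by rw [Finset.card_univ]; omega)
  obtain ⟨a₀, ha₀, b₀, hb₀, hab₀⟩ := Finset.one_lt_card.1 (show 1 < S.card by omega)
  obtain ⟨x, hxdef⟩ : ∃ x, x = X S hS a₀ ha₀ b₀ hb₀ hab₀ := ⟨_, rfl⟩
  have hxS : x ∉ S := hxdef ▸ hXS _ _ _ _ _ _ _
  have hxeq : ∀ a ha b hb hab, X S hS a ha b hb hab = x := fun a ha b hb hab =>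
    (hall hS ha hb ha₀ hb₀ hab hab₀).trans hxdef.symm
  have hsw : ∀ a ∈ S, ∀ b ∈ S, a ≠ b → swap a b ∈ ind G (insert x S) := fun a ha b hb hab => by
    refine ⟨fun y hy => ?_, J S hS a ha b hb hab, hJG .., fun y hy => ?_⟩
    · simp only [Finset.mem_insert, not_or] at hy
      exact swap_apply_of_ne_of_ne (fun e => hy.2 (by rw [e]; exact ha))
        (fun e => hy.2 (by rw [e]; exact hb))
    · rcases Finset.mem_insert.1 hy with rfl | hy
      · rw [swap_apply_of_ne_of_ne (fun e => hxS (by subst e; exact ha))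
          (fun e => hxS (by subst e; exact hb))]
        conv_lhs => rw [← hxeq a ha b hb hab]
        rw [hJX, hxeq]
      · exact hJS _ _ _ _ _ _ _ y hy
  -- an element moving `x`
  obtain ⟨z, hz, hzn⟩ := Finset.exists_mem_notMem_of_card_lt_card
    (s := ({a₀, b₀} : Finset α)) (t := S) (by rw [Finset.card_pair hab₀]; omega)
  simp only [Finset.mem_insert, Finset.mem_singleton, not_or] at hzn
  have hxne : ∀ s ∈ S, x ≠ s := fun s hs e => hxS (e ▸ hs)
  let S' := insert x (S.erase z)
  have hS' : S'.card = k := by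
    rw [Finset.card_insert_of_notMem (fun h => hxS (Finset.mem_of_mem_erase h)),
      Finset.card_erase_of_mem hz]
    omega
  have ha' : a₀ ∈ S' := Finset.mem_insert_of_mem (Finset.mem_erase.2 ⟨Ne.symm hzn.1, ha₀⟩)
  have hb' : b₀ ∈ S' := Finset.mem_insert_of_mem (Finset.mem_erase.2 ⟨Ne.symm hzn.2, hb₀⟩)
  have hzS' : z ∉ S' := by simp [S', Ne.symm (hxne z hz)]
  have heJ : J S' hS' a₀ ha' b₀ hb' hab₀ = J S hS a₀ ha₀ b₀ hb₀ hab₀ := by
    refine huniq hS' (hJG ..) (hJG ..) fun s hs => ?_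
    rw [hJS _ _ _ _ _ _ _ s hs]
    rcases Finset.mem_insert.1 hs with rfl | hs
    · rw [swap_apply_of_ne_of_ne (hxne _ ha₀) (hxne _ hb₀)]
      conv_rhs => rw [hxdef]
      rw [hJX, ← hxdef]
    · rw [hJS _ _ _ _ _ _ _ s (Finset.mem_of_mem_erase hs)]
  have hX' : ∀ a ha b hb hab, X S' hS' a ha b hb hab = z := fun a ha b hb hab => by
    rw [hall hS' ha hb ha' hb' hab hab₀]
    refine (hJu S' hS' a₀ ha' b₀ hb' hab₀ z hzS' ?_).symm
    rw [heJ, hJS _ _ _ _ _ _ _ z hz, swap_apply_of_ne_of_ne hzn.1 hzn.2]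
  obtain ⟨g, hg, hgS⟩ := hT.homog S S' hS hS'
  have hgx : g x = z := by
    have ma : g a₀ ∈ S' := hgS ▸ Finset.mem_image_of_mem _ ha₀
    have mb : g b₀ ∈ S' := hgS ▸ Finset.mem_image_of_mem _ hb₀
    rw [← hX' _ ma _ mb (g.injective.ne hab₀)]
    refine hJu _ _ _ _ _ _ _ (g x) (fun h => hxS ?_) ?_
    · rwa [← hgS, g.injective.mem_finset_image] at h
    · rw [huniq hS' (hJG ..) (G.mul_mem (G.mul_mem hg (hJG S hS a₀ ha₀ b₀ hb₀ hab₀)) (G.inv_mem hg))
        (fun s hs => ?_), Perm.mul_apply, Perm.mul_apply, Perm.coe_inv, Equiv.symm_apply_apply,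
        hxdef, hJX]
      rw [hJS _ _ _ _ _ _ _ s hs]
      rw [← hgS] at hs
      obtain ⟨u, hu, rfl⟩ := Finset.mem_image.1 hs
      rw [Perm.mul_apply, Perm.mul_apply, Perm.coe_inv, Equiv.symm_apply_apply,
        hJS _ _ _ _ _ _ _ u hu, g.injective.map_swap]
  have hΔ : (insert x S).card = k + 1 := by rw [Finset.card_insert_of_notMem hxS, hS]
  have hgΔ : (insert x S).image g = insert x S := by
    rw [Finset.image_insert, hgS, hgx, Finset.insert_comm, Finset.insert_erase hz]
  have hgmem : ∀ y, g y ∈ insert x S ↔ y ∈ insert x S := fun y => by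
    conv_lhs => rw [← hgΔ]
    exact g.injective.mem_finset_image
  have hμ : Perm.ofSubtype (g.subtypePerm hgmem) ∈ ind G (insert x S) :=
    ⟨fun y hy => ofSubtype_mem_supp _ y hy, g, hg, fun y hy => by
      rw [Perm.ofSubtype_apply_of_mem _ hy]; rfl⟩
  exact ⟨_, hΔ, fun σ hσ _ => ind_full_of_mover hxS (by omega) hsw hμ (by
    rw [Perm.ofSubtype_apply_of_mem _ (Finset.mem_insert_self x S)]
    change g x ≠ x
    rw [hgx]
    exact (hxne z hz).symm) σ hσ⟩

include hT hkn hsemi in
/-- The semiregular case. -/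
theorem exists_fullAlt_of_semiregular (hk : 4 ≤ k) :
    ∃ Δ : Finset α, Δ.card = k + 1 ∧ FullAlt G Δ := by
  obtain ⟨Δ, -, hΔ⟩ := Finset.exists_subset_card_eq (s := (Finset.univ : Finset α)) (n := k + 1)
    (by rw [Finset.card_univ]; omega)
  by_cases hn1 : Fintype.card α = k + 1
  · exact ⟨Δ, hΔ, fullAlt_of_card_eq_succ hT hn1 Δ⟩
  obtain ⟨S₀, -, hS₀⟩ := Finset.exists_subset_card_eq (s := (Finset.univ : Finset α)) (n := k)
    (by rw [Finset.card_univ]; omega)
  by_cases heven : Even (Nat.card (fixer G S₀))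
  · exact ⟨Δ, hΔ, fullAlt_of_even hT hsemi (by omega) (by omega)
      (fun S hS => card_fixer_eq hT hS₀ hS ▸ heven) hΔ⟩
  obtain ⟨X, -, hX⟩ := Finset.exists_subset_card_eq (s := (Finset.univ : Finset α)) (n := k - 4)
    (by rw [Finset.card_univ]; omega)
  rcases hall hk hT (show X.card + 4 = k by omega) hkn hsemi
      (fun S hS => card_fixer_eq hT hS₀ hS ▸ Nat.not_even_iff_odd.1 heven) with
    h | ⟨h, hκ⟩ | ⟨h, hκ⟩ | ⟨h, hκ⟩
  · exact absurd h hn1
  · exact ⟨Δ, hΔ, fullAlt_of_card_eq_add_two hT hkn hsemi h hκ Δ⟩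
  · exact ⟨Δ, hΔ, fullAlt_of_trans_succ (trans_succ hT hsemi (by omega)
      fun S hS => by rw [hκ S hS, h]; omega) hΔ⟩
  · rcases hκ S₀ hS₀ with e | e
    · exact exists_fullAlt_of_sharp hT hkn hsemi hk h fun S hS => card_fixer_eq hT hS₀ hS ▸ e
    · exact ⟨Δ, hΔ, fullAlt_of_trans_succ (trans_succ hT hsemi (by omega)
        fun S hS => by rw [card_fixer_eq hT hS₀ hS, e, h]; omega) hΔ⟩

end Cfsg.Agent.Lib.Homogeneous
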